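import Mathlib
import Cfsg.Prelude.Def_TwoFusion
import Cfsg.Agent.Lib.EssProd
import Cfsg.Agent.Lib.FrattiniPGroup

/-!
# Centrally indecomposable direct factors

`CentIndec S`: `S` is not a central product of two noncentral subgroups.
If `R = (R ∩ S₁) × S₂` with `|R ∩ S₁| < |S₂|`, or `R = P = S₁ × S₂` is a Sylow 2-subgroup, then `N_G(R)` normalises
`B = C_R(R ∩ S₁) = Z(R ∩ S₁) × S₂`.
-/

set_option autoImplicit false

namespace Cfsg.Agent.WreathFusion

open Subgroup Cfsg.Agent.Lib.EssProd Cfsg.Agent.Lib.GoldschmidtFusion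
open scoped commutatorElement

variable {G : Type*} [Group G]

/-- `S` is not the central product of two subgroups which are both not central in `S`. -/
def CentIndec (S : Subgroup G) : Prop :=
  ∀ A B : Subgroup G, A ≤ S → B ≤ S → (∀ a ∈ A, ∀ b ∈ B, a * b = b * a) → (∀ s ∈ S, ∃ a ∈ A, ∃ b ∈ B, a * b = s) →
    A ≤ centralizer (S : Set G) ∨ B ≤ centralizer (S : Set G)

/-- the projection of `D ≤ S₁ S₂` to `S₂` -/
def proj {S₁ S₂ : Subgroup G} (h : ∀ a ∈ S₁, ∀ b ∈ S₂, a * b = b * a) (D : Subgroup G) : Subgroup G where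
  carrier := {b | b ∈ S₂ ∧ ∃ a ∈ S₁, a * b ∈ D}
  one_mem' := ⟨one_mem _, 1, one_mem _, by rw [mul_one]; exact one_mem _⟩
  mul_mem' := by
    rintro b b' ⟨hb, a, ha, hab⟩ ⟨hb', a', ha', hab'⟩
    refine ⟨mul_mem hb hb', a * a', mul_mem ha ha', ?_⟩
    have e : a * a' * (b * b') = (a * b) * (a' * b') := by
      calc a * a' * (b * b') = a * (a' * b) * b' := by group
        _ = a * (b * a') * b' := by rw [h a' ha' b hb]
        _ = _ := by group
    rw [e]
    exact mul_mem hab hab'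
  inv_mem' := by
    rintro b ⟨hb, a, ha, hab⟩
    refine ⟨inv_mem hb, a⁻¹, inv_mem ha, ?_⟩
    have e : a⁻¹ * b⁻¹ = (a * b)⁻¹ := by
      rw [h a ha b hb, mul_inv_rev]
    rw [e]
    exact inv_mem hab

theorem mem_proj {S₁ S₂ : Subgroup G} {h : ∀ a ∈ S₁, ∀ b ∈ S₂, a * b = b * a} {D : Subgroup G} {b : G} :
    b ∈ proj h D ↔ b ∈ S₂ ∧ ∃ a ∈ S₁, a * b ∈ D := Iff.rfl

variable {S₁ S₂ P R : Subgroup G}

/-- components of commuting products commute -/
theorem comm_of_comm (h : Cfsg.IsInternalDirectProduct S₁ S₂ P) {a b a' b' : G} (ha : a ∈ S₁) (hb : b ∈ S₂)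
    (ha' : a' ∈ S₁) (hb' : b' ∈ S₂) (hc : (a * b) * (a' * b') = (a' * b') * (a * b)) :
    a * a' = a' * a ∧ b * b' = b' * b := by
  have hcm := h.2.2.1
  have e1 : (a * b) * (a' * b') = (a * a') * (b * b') := by
    calc (a * b) * (a' * b') = a * (b * a') * b' := by group
      _ = a * (a' * b) * b' := by rw [hcm a' ha' b hb]
      _ = _ := by group
  have e2 : (a' * b') * (a * b) = (a' * a) * (b' * b) := by
    calc (a' * b') * (a * b) = a' * (b' * a) * b := by group
      _ = a' * (a * b') * b := by rw [hcm a ha b' hb']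
      _ = _ := by group
  rw [e1, e2] at hc
  exact mul_inj h (mul_mem ha ha') (mul_mem ha' ha) (mul_mem hb hb') (mul_mem hb' hb) hc

theorem card_proj_le [Finite G] (h : Cfsg.IsInternalDirectProduct S₁ S₂ P) (D : Subgroup G) :
    Nat.card (proj h.2.2.1 D) ≤ Nat.card D := by
  classical
  have hch : ∀ b : proj h.2.2.1 D, ∃ d : D, ∃ a ∈ S₁, a * (b : G) = d := by
    rintro ⟨b, hb, a, ha, hab⟩
    exact ⟨⟨a * b, hab⟩, a, ha, rfl⟩
  choose f hf using hch
  apply Nat.card_le_card_of_injective f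
  intro b b' hbb
  obtain ⟨a, ha, h1⟩ := hf b
  obtain ⟨a', ha', h2⟩ := hf b'
  rw [hbb, ← h2] at h1
  exact Subtype.ext (mul_inj h ha ha' b.2.1 b'.2.1 h1).2

/-- the dichotomy -/
theorem dich (h : Cfsg.IsInternalDirectProduct S₁ S₂ P) (hi : CentIndec S₂) {D₁ D₂ : Subgroup G} (h1 : D₁ ≤ P)
    (h2 : D₂ ≤ P) (hc : ∀ x ∈ D₁, ∀ y ∈ D₂, x * y = y * x) (hg : ∀ b ∈ S₂, ∃ x ∈ D₁, ∃ y ∈ D₂, x * y = b) :
    D₁ ≤ centralizer (S₂ : Set G) ∨ D₂ ≤ centralizer (S₂ : Set G) := by
  have hcm := h.2.2.1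
  have key : ∀ D : Subgroup G, D ≤ P → proj hcm D ≤ centralizer (S₂ : Set G) → D ≤ centralizer (S₂ : Set G) := by
    intro D hD hD' x hx
    obtain ⟨a, ha, b, hb, rfl⟩ := exists_mul h (hD hx)
    have h3 : b ∈ centralizer (S₂ : Set G) := hD' ⟨hb, a, ha, hx⟩
    refine mul_mem ?_ h3
    rw [mem_centralizer_iff]
    intro s hs
    exact (hcm a ha s hs).symm
  have h3 := hi (proj hcm D₁) (proj hcm D₂) (fun b hb => hb.1) (fun b hb => hb.1) ?_ ?_
  · rcases h3 with h3 | h3
    · exact Or.inl (key D₁ h1 h3)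
    · exact Or.inr (key D₂ h2 h3)
  · rintro b ⟨hb, a, ha, hab⟩ b' ⟨hb', a', ha', hab'⟩
    exact (comm_of_comm h ha hb ha' hb' (hc _ hab _ hab')).2
  · intro s hs
    obtain ⟨x, hx, y, hy, hxy⟩ := hg s hs
    obtain ⟨a, ha, b, hb, rfl⟩ := exists_mul h (h1 hx)
    obtain ⟨a', ha', b', hb', rfl⟩ := exists_mul h (h2 hy)
    refine ⟨b, ⟨hb, a, ha, hx⟩, b', ⟨hb', a', ha', hy⟩, ?_⟩
    have e1 : (a * b) * (a' * b') = (a * a') * (b * b') := by
      calc (a * b) * (a' * b') = a * (b * a') * b' := by group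
        _ = a * (a' * b) * b' := by rw [hcm a' ha' b hb]
        _ = _ := by group
    have e2 : (a * a') * (b * b') = 1 * s := by rw [← e1, hxy, one_mul]
    exact (mul_inj h (mul_mem ha ha') (one_mem _) (mul_mem hb hb') hs e2).2

/-- In a finite 2-group `S`: if `A` and a subgroup of `[S, S]` generate `S`, then `A = S`. -/
theorem eq_of_mul_commutator [Finite G] {S A : Subgroup G} (hS : IsPGroup 2 S) (hA : A ≤ S)
    (h : ∀ s ∈ S, ∃ a ∈ A, ∃ b ∈ ⁅S, S⁆, a * b = s) : A = S := by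
  have : Fact (Nat.Prime 2) := ⟨Nat.prime_two⟩
  have h1 : A.subgroupOf S ⊔ frattini S = ⊤ := by
    rw [eq_top_iff]
    intro s _
    obtain ⟨a, ha, b, hb, hab⟩ := h s s.2
    have hbS : b ∈ S := Subgroup.commutator_le_self S hb
    have h2 : (⟨b, hbS⟩ : S) ∈ commutator S := by
      have h3 : (commutator S).map S.subtype = ⁅S, S⁆ := by
        rw [_root_.commutator_def, Subgroup.map_commutator]
        simp [← MonoidHom.range_eq_map, Subgroup.range_subtype]
      have h4 : b ∈ (commutator S).map S.subtype := by rw [h3]; exact hb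
      obtain ⟨w, hw, hw'⟩ := h4
      have : w = ⟨b, hbS⟩ := Subtype.ext hw'
      rwa [← this]
    have h5 : s = (⟨a, hA ha⟩ : S) * ⟨b, hbS⟩ := Subtype.ext hab.symm
    rw [h5]
    exact mul_mem (mem_sup_left ha) (mem_sup_right (Cfsg.Agent.Lib.FrattiniPGroup.commutator_le_frattini hS h2))
  have h2 := frattini_nongenerating h1
  exact le_antisymm hA (subgroupOf_eq_top.1 h2)

theorem mem_normalizer_of_le [Finite G] {A : Subgroup G} {n : G} (h : ∀ x ∈ A, n * x * n⁻¹ ∈ A) :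
    n ∈ normalizer (A : Set G) := by
  rw [mem_normalizer_iff_map_conj]
  apply Subgroup.eq_of_le_of_card_ge
  · rintro _ ⟨x, hx, rfl⟩
    exact h x hx
  · exact (card_map_conj A n).ge

theorem conj_mem_of_normalizer {A : Subgroup G} {n : G} (hn : n ∈ normalizer (A : Set G)) {x : G} (hx : x ∈ A) :
    n * x * n⁻¹ ∈ A := (mem_normalizer_iff.1 hn x).1 hx

/-- the standing hypotheses on `R` -/
structure Rin (S₁ S₂ P R : Subgroup G) : Prop where
  le : R ≤ P
  le₂ : S₂ ≤ R
  pr : ∀ a ∈ S₁, ∀ b ∈ S₂, a * b ∈ R → a ∈ R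

/-- `x ∈ C_R(R ∩ S₁)` and `D ≤ R ∩ C(S₂)` commute -/
theorem Rin.comm_of (h : Cfsg.IsInternalDirectProduct S₁ S₂ P) (hR : Rin S₁ S₂ P R) {x y : G} (hx : x ∈ R)
    (hx' : x ∈ centralizer ((R ⊓ S₁ : Subgroup G) : Set G)) (hy : y ∈ R) (hy' : y ∈ centralizer (S₂ : Set G)) :
    x * y = y * x := by
  have hcm := h.2.2.1
  obtain ⟨a, ha, b, hb, rfl⟩ := exists_mul h (hR.le hx)
  obtain ⟨c, hc, d, hd, rfl⟩ := exists_mul h (hR.le hy)
  have hcR : c ∈ R := hR.pr c hc d hd hy
  -- `d` centralises `S₂`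
  have hd' : ∀ s ∈ S₂, s * d = d * s := by
    intro s hs
    have h1 := mem_centralizer_iff.1 hy' s hs
    have h2 : s * (c * d) = c * (s * d) := by
      rw [← mul_assoc, ← hcm c hc s hs, mul_assoc]
    rw [h2, mul_assoc] at h1
    exact mul_left_cancel h1
  have h1 : Commute (a * b) c := (mem_centralizer_iff.1 hx' c (mem_inf.2 ⟨hcR, hc⟩)).symm
  have h2 : Commute (a * b) d := Commute.mul_left (hcm a ha d hd) (hd' b hb)
  exact h1.mul_right h2

/-- (1), first case -/
theorem normalizer_case_lt [Finite G] (h : Cfsg.IsInternalDirectProduct S₁ S₂ P) (hR : Rin S₁ S₂ P R)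
    (h2 : IsPGroup 2 S₂) (hi : CentIndec S₂) (hcen : centralizer (S₂ : Set G) ⊓ S₂ ≤ ⁅S₂, S₂⁆)
    (hlt : Nat.card (R ⊓ S₁ : Subgroup G) < Nat.card S₂) {n : G} (hn : n ∈ normalizer (R : Set G)) :
    n ∈ normalizer ((R ⊓ centralizer ((R ⊓ S₁ : Subgroup G) : Set G) : Subgroup G) : Set G) := by
  have hcm := h.2.2.1
  -- it suffices to treat `n⁻¹`
  have key : ∀ n ∈ normalizer (R : Set G),
      (∀ x ∈ R ⊓ S₁, n * x * n⁻¹ ∈ centralizer (S₂ : Set G)) := by
    intro n hn
    have hd := dich h hi (D₁ := (R ⊓ S₁).map (MulAut.conj n).toMonoidHom)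
      (D₂ := S₂.map (MulAut.conj n).toMonoidHom) ?_ ?_ ?_ ?_
    · rcases hd with hd | hd
      · intro x hx
        exact hd (conj_mem_map_conj hx n)
      · exfalso
        -- the projection of `D₁` is `S₂`
        have h3 : proj hcm ((R ⊓ S₁).map (MulAut.conj n).toMonoidHom) = S₂ := by
          apply eq_of_mul_commutator h2 (fun b hb => (mem_proj.1 hb).1)
          intro s hs
          have hsR : n⁻¹ * s * n ∈ R := by
            have := conj_mem_of_normalizer (inv_mem hn) (hR.le₂ hs)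
            simpa using this
          obtain ⟨a, ha, b, hb, hab⟩ := exists_mul h (hR.le hsR)
          have haR : a ∈ R := hR.pr a ha b hb (by rw [← hab]; exact hsR)
          have hx : n * a * n⁻¹ ∈ (R ⊓ S₁).map (MulAut.conj n).toMonoidHom :=
            conj_mem_map_conj (mem_inf.2 ⟨haR, ha⟩) n
          have hy : n * b * n⁻¹ ∈ S₂.map (MulAut.conj n).toMonoidHom := conj_mem_map_conj hb n
          obtain ⟨c, hc, d, hd', hcd⟩ := exists_mul h (hR.le (conj_mem_of_normalizer hn haR))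
          obtain ⟨e, he, f, hf, hef⟩ := exists_mul h (hR.le (conj_mem_of_normalizer hn (hR.le₂ hb)))
          refine ⟨d, ⟨hd', c, hc, by rw [← hcd]; exact hx⟩, f, ?_, ?_⟩
          · apply hcen
            refine mem_inf.2 ⟨?_, hf⟩
            have h4 : n * b * n⁻¹ ∈ centralizer (S₂ : Set G) := hd hy
            rw [hef] at h4
            have h5 : e ∈ centralizer (S₂ : Set G) := by
              rw [mem_centralizer_iff]
              intro s hs
              exact (hcm e he s hs).symm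
            have := mul_mem (inv_mem h5) h4
            simpa using this
          · have e1 : (c * e) * (d * f) = 1 * s := by
              calc (c * e) * (d * f) = c * (e * d) * f := by group
                _ = c * (d * e) * f := by rw [hcm e he d hd']
                _ = (c * d) * (e * f) := by group
                _ = (n * a * n⁻¹) * (n * b * n⁻¹) := by rw [hcd, hef]
                _ = n * (a * b) * n⁻¹ := by group
                _ = n * (n⁻¹ * s * n) * n⁻¹ := by rw [hab]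
                _ = 1 * s := by group
            exact (mul_inj h (mul_mem hc he) (one_mem _) (mul_mem hd' hf) hs e1).2
        have h4 := card_proj_le h ((R ⊓ S₁).map (MulAut.conj n).toMonoidHom)
        rw [h3, card_map_conj] at h4
        omega
    · rintro _ ⟨x, hx, rfl⟩
      exact hR.le (conj_mem_of_normalizer hn (mem_inf.1 hx).1)
    · rintro _ ⟨x, hx, rfl⟩
      exact hR.le (conj_mem_of_normalizer hn (hR.le₂ hx))
    · rintro _ ⟨x, hx, rfl⟩ _ ⟨y, hy, rfl⟩
      rw [← map_mul, hcm x (mem_inf.1 hx).2 y hy, map_mul]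
    · intro s hs
      have hsR : n⁻¹ * s * n ∈ R := by
        have := conj_mem_of_normalizer (inv_mem hn) (hR.le₂ hs)
        simpa using this
      obtain ⟨a, ha, b, hb, hab⟩ := exists_mul h (hR.le hsR)
      have haR : a ∈ R := hR.pr a ha b hb (by rw [← hab]; exact hsR)
      refine ⟨_, conj_mem_map_conj (mem_inf.2 ⟨haR, ha⟩) n, _, conj_mem_map_conj hb n, ?_⟩
      calc n * a * n⁻¹ * (n * b * n⁻¹) = n * (a * b) * n⁻¹ := by group
        _ = n * (n⁻¹ * s * n) * n⁻¹ := by rw [hab]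
        _ = s := by group
  -- conclusion
  have hn' : n⁻¹ ∈ normalizer (R : Set G) := inv_mem hn
  apply mem_normalizer_of_le
  intro x hx
  obtain ⟨hxR, hxC⟩ := mem_inf.1 hx
  refine mem_inf.2 ⟨conj_mem_of_normalizer hn hxR, ?_⟩
  rw [mem_centralizer_iff]
  intro c hc
  -- `n⁻¹ c n ∈ C(S₂)`
  have h1 := key n⁻¹ hn' c hc
  have h2 : n⁻¹ * c * n⁻¹⁻¹ ∈ R := conj_mem_of_normalizer hn' (mem_inf.1 hc).1
  have h3 := hR.comm_of h hxR hxC h2 h1
  have h4 : n * (x * (n⁻¹ * c * n⁻¹⁻¹)) * n⁻¹ = n * (n⁻¹ * c * n⁻¹⁻¹ * x) * n⁻¹ := by rw [h3]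
  have e1 : n * (x * (n⁻¹ * c * n⁻¹⁻¹)) * n⁻¹ = n * x * n⁻¹ * c := by group
  have e2 : n * (n⁻¹ * c * n⁻¹⁻¹ * x) * n⁻¹ = c * (n * x * n⁻¹) := by group
  rw [e1, e2] at h4
  exact h4.symm

end Cfsg.Agent.WreathFusion
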