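import Mathlib
import Cfsg.Agent.HexEss.Basic
import Cfsg.Agent.WreathFusion.Dich

/-!
# Hexagonal 2-groups satisfy the hypotheses of Theorem W

`P ≤ G` with coordinates `co : Coord C P` (Sylow 2-subgroups of `G₂(q)`, `q ≥ 4`, and `³D₄(q)`): `P` is centrally
indecomposable and `C_P(P') ≤ P'`.
-/

set_option autoImplicit false

namespace Cfsg.Agent.WreathFusion.HexUni

open Subgroup Cfsg.Agent.HexRec Cfsg.Agent.HexEss
open scoped commutatorElement

variable {F K : Type*} [Field F] [Field K] [Algebra F K] {C : Cubic F K}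

/-- the facts on the cubic data which are used -/
structure Gd (C : Cubic F K) : Prop where
  g1 : ∀ r s : K, (∀ t, C.cr t r = 0) → (∀ t, C.T t s + C.T (C.sh t) r = 0) → r = 0 ∧ s = 0
  g2 : ∀ x : K, (∀ t, C.cr x t = 0) → (∀ t, C.T x (C.sh t) + C.T (C.sh x) t = 0) → x = 0
  g3 : ∀ r s : K, (∀ t, C.T (C.sh t) r + C.T s t = 0) → (∀ t r', C.T (C.cr t r') r = 0) → r = 0 ∧ s = 0

/-- first sufficient condition: `|F| > 2` -/
theorem Gd.of_two_lt (hF : ∃ f : F, f ≠ 0 ∧ f ≠ 1) (hsh : ∀ r, (∀ t, C.T (C.sh t) r = 0) → r = 0) : Gd C := by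
  have := charPF C
  obtain ⟨f, hf0, hf1⟩ := hF
  have hff : f ^ 2 + f ≠ 0 := by
    intro h
    have h1 : f * (f + 1) = 0 := by rw [← h]; ring
    rcases mul_eq_zero.1 h1 with h2 | h2
    · exact hf0 h2
    · exact hf1 (C.eq_of_add_eq_zero h2)
  have key : ∀ a b : F, a + b = 0 → f * a + f ^ 2 * b = 0 → a = 0 ∧ b = 0 := by
    intro a b h1 h2
    have h3 : a = b := C.eq_of_add_eq_zero h1
    rw [h3] at h2
    have h4 : (f ^ 2 + f) * b = 0 := by rw [← h2]; ring
    have h5 : b = 0 := (mul_eq_zero.1 h4).resolve_left hff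
    exact ⟨h3.trans h5, h5⟩
  have k1 : ∀ r s : K, (∀ t, C.T t s + C.T (C.sh t) r = 0) → r = 0 ∧ s = 0 := by
    intro r s h
    have h1 : ∀ t, C.T t s = 0 ∧ C.T (C.sh t) r = 0 := by
      intro t
      apply key _ _ (h t)
      have := h (f • t)
      rwa [C.sh_smul, C.T_smul_left, C.T_smul_left] at this
    refine ⟨hsh r fun t => (h1 t).2, C.T_nondeg fun t => ?_⟩
    rw [C.T_comm]
    exact (h1 t).1
  refine ⟨fun r s _ h => k1 r s h, ?_, ?_⟩
  · intro x _ h
    have h1 : ∀ t, C.T (C.sh x) t = 0 := by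
      intro t
      refine (key _ _ (by rw [add_comm]; exact h t) ?_).1
      have := h (f • t)
      rw [C.sh_smul, C.T_smul_right, C.T_smul_right] at this
      rw [add_comm]
      exact this
    have h2 : C.sh x = 0 := C.T_nondeg h1
    by_contra hx
    exact C.sh_ne_zero hx h2
  · intro r s h _
    apply k1
    intro t
    rw [C.T_comm t s, add_comm]
    exact h t

/-- second sufficient condition: `a × b` is nondegenerate -/
theorem Gd.of_cr (h : ∀ r, (∀ t, C.cr t r = 0) → r = 0) : Gd C where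
  g1 r s h1 h2 := by
    have hr := h r h1
    refine ⟨hr, C.T_nondeg fun t => ?_⟩
    have := h2 t
    rwa [hr, C.T_zero_right, add_zero, C.T_comm] at this
  g2 x h1 _ := h x fun t => by rw [C.cr_comm]; exact h1 t
  g3 r s h1 h2 := by
    have hr : r = 0 := by
      apply h
      intro r'
      apply C.T_nondeg
      intro t
      rw [C.T_comm, ← C.T_cr]
      exact h2 t r'
    refine ⟨hr, C.T_nondeg fun t => ?_⟩
    have := h1 t
    rwa [hr, C.T_zero_right, zero_add] at this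

/-- `a ↦ a^#` is surjective if `K` is finite -/
theorem exists_sh [Finite K] (a : K) : ∃ b, C.sh b = a := by
  have hinj : Function.Injective C.sh := by
    intro a b hab
    by_cases hb : b = 0
    · rw [hb, C.sh_zero] at hab
      by_contra ha
      exact C.sh_ne_zero (a := a) (by rw [hb] at ha; exact ha) hab
    · have h1 : C.sh (a / b) = 1 := by
        have h2 : C.sh (a / b) * C.sh b = C.sh b := by
          rw [← C.sh_mul, div_mul_cancel₀ _ hb, hab]
        have h3 := C.sh_ne_zero hb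
        exact mul_right_cancel₀ h3 (by rw [h2, one_mul])
      have h2 : algebraMap F K (C.N (a / b)) = a / b := by rw [C.N_map, h1, mul_one]
      have h3 : (a / b) ^ 2 = 1 := by rw [← h1, ← h2, C.sh_map]
      have h4 : (a / b + 1) ^ 2 = 0 := by
        linear_combination h3 + (a / b + 1) * C.two_K
      have h5 : a / b = 1 := C.eq_of_add_eq_zeroK (pow_eq_zero_iff (two_ne_zero)|>.1 h4)
      rw [div_eq_one_iff_eq hb] at h5
      exact h5
  exact (Finite.injective_iff_surjective.1 hinj) a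

theorem Gd.of_card [Finite F] [Finite K] (hF : 2 < Nat.card F) : Gd C := by
  apply Gd.of_two_lt
  · by_contra hcon
    push Not at hcon
    have h1 : Set.univ ⊆ ({0, 1} : Set F) := by
      intro f _
      by_cases hf : f = 0
      · exact Or.inl hf
      · exact Or.inr (hcon f hf)
    have h2 := Set.ncard_le_ncard h1
    rw [Set.ncard_univ] at h2
    have h3 := Set.ncard_insert_le (0 : F) {1}
    rw [Set.ncard_singleton] at h3
    omega
  · intro r h
    apply C.T_nondeg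
    intro b
    obtain ⟨t, rfl⟩ := exists_sh (C := C) b
    rw [C.T_comm]
    exact h t

/-- `|F| = 2`, `|K| > 4` -/
theorem Gd.of_card_two [Finite F] [Finite K] (hF : Nat.card F = 2) (hK : 4 < Nat.card K) : Gd C := by
  have hone : ∀ f : F, f ≠ 0 → f = 1 := by
    intro f hf
    by_contra hf1
    have h1 : ({0, 1, f} : Set F).ncard = 3 := by
      rw [Set.ncard_eq_three]
      exact ⟨0, 1, f, zero_ne_one, hf.symm, fun h => hf1 h.symm, rfl⟩
    have h2 := Set.ncard_le_ncard (Set.subset_univ ({0, 1, f} : Set F))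
    rw [Set.ncard_univ, hF, h1] at h2
    omega
  have hsh : ∀ a : K, a ≠ 0 → C.sh a = a⁻¹ := by
    intro a ha
    have h1 := C.N_map a
    rw [hone _ (C.N_ne_zero ha), map_one] at h1
    exact (eq_inv_of_mul_eq_one_right h1.symm)
  apply Gd.of_cr
  intro r hr
  by_contra hr0
  -- every `w ≠ 0, 1` satisfies `w² + w + 1 = 0`
  have h1 : ∀ w : K, w ≠ 0 → w ≠ 1 → w ^ 2 + w + 1 = 0 := by
    intro w hw0 hw1
    have h2 := hr (w * r)
    have h3 : w * r ≠ 0 := mul_ne_zero hw0 hr0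
    have h4 : w * r + r ≠ 0 := by
      intro h
      apply hw1
      have h5 : w * r = r := C.eq_of_add_eq_zeroK h
      exact mul_right_cancel₀ hr0 (by rw [h5, one_mul])
    have h5 : w + 1 ≠ 0 := by
      intro h
      exact hw1 (C.eq_of_add_eq_zeroK h)
    unfold Cubic.cr at h2
    rw [hsh _ h3, hsh _ h4, hsh _ hr0] at h2
    have h6 : w * r + r = (w + 1) * r := by ring
    rw [h6] at h2
    have h7 : ((w + 1) * r)⁻¹ + (w * r)⁻¹ + r⁻¹ = (w + (w + 1) + w * (w + 1)) * ((w + 1) * w * r)⁻¹ := by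
      field_simp
    rw [h7] at h2
    have h8 := (mul_eq_zero.1 h2).resolve_right (inv_ne_zero (mul_ne_zero (mul_ne_zero h5 hw0) hr0))
    linear_combination h8 - w * C.two_K
  -- too many roots
  have h2 : (Set.univ : Set K) ⊆ ({0, 1} ∪ {w | w ^ 2 + w + 1 = 0} : Set K) := by
    intro w _
    by_cases hw0 : w = 0
    · exact Or.inl (Or.inl hw0)
    by_cases hw1 : w = 1
    · exact Or.inl (Or.inr hw1)
    exact Or.inr (h1 w hw0 hw1)
  have h3 : ({w | w ^ 2 + w + 1 = 0} : Set K).ncard ≤ 2 := by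
    by_cases hex : ∃ w₀ : K, w₀ ^ 2 + w₀ + 1 = 0
    · obtain ⟨w₀, hw₀⟩ := hex
      have h4 : ({w | w ^ 2 + w + 1 = 0} : Set K) ⊆ {w₀, w₀ + 1} := by
        intro w hw
        have hw' : w ^ 2 + w + 1 = 0 := hw
        have h5 : (w + w₀) * (w + w₀ + 1) = 0 := by
          linear_combination hw' + hw₀ + (w * w₀ - 1) * C.two_K
        rcases mul_eq_zero.1 h5 with h6 | h6
        · exact Or.inl (C.eq_of_add_eq_zeroK h6)
        · right
          have h7 : w + (w₀ + 1) = 0 := by rw [← h6]; ring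
          exact C.eq_of_add_eq_zeroK h7
      refine (Set.ncard_le_ncard h4).trans ?_
      refine (Set.ncard_insert_le _ _).trans ?_
      rw [Set.ncard_singleton]
    · have h4 : ({w | w ^ 2 + w + 1 = 0} : Set K) = ∅ := by
        ext w
        simp only [Set.mem_ofPred_eq, Set.mem_empty_iff_false, iff_false]
        exact fun h => hex ⟨w, h⟩
      rw [h4, Set.ncard_empty]
      exact Nat.zero_le _
  have h4 := Set.ncard_le_ncard h2
  rw [Set.ncard_univ] at h4
  have h5 := Set.ncard_union_le ({0, 1} : Set K) {w | w ^ 2 + w + 1 = 0}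
  have h6 := Set.ncard_insert_le (0 : K) {1}
  rw [Set.ncard_singleton] at h6
  omega

section Group

variable {G : Type*} [Group G] {P : Subgroup G} {co : Coord C P}

/-- an element with `a1 = a3 = a5 = a6 = a2 = 0` is central -/
theorem comm_of_center {x : G} (hx : x ∈ P) (h1 : (cx co x).a1 = 0) (h2 : (cx co x).a2 = 0)
    (h3 : (cx co x).a3 = 0) (h5 : (cx co x).a5 = 0) (h6 : (cx co x).a6 = 0) {g : G} (hg : g ∈ P) :
    g * x = x * g := by
  rw [← cm_eq_one]
  apply eq_one_of_cx (co := co) (cm_mem hg hx) (a1_cm hg hx)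
  · rw [a2_cm_F0 hg hx h1 h5 h6, h3, C.T_zero_right]
  · exact a3_cm_F0 hg hx h1 h5 h6
  · rw [a4_cm_F0 hg hx h1 h5 h6, h2, h3, C.T_zero_right, mul_zero, add_zero]
  · exact a5_cm_R hg hx h1 h6
  · exact a6_cm hg hx

theorem centIndec_aux (hG : Gd C) {A B : Subgroup G} (hA : A ≤ P) (hB : B ≤ P)
    (hc : ∀ a ∈ A, ∀ b ∈ B, a * b = b * a) (hg : ∀ s ∈ P, ∃ a ∈ A, ∃ b ∈ B, a * b = s)
    (h0 : ∀ a ∈ A, (cx co a).a1 = 0 ∧ (cx co a).a6 = 0) : A ≤ centralizer (P : Set G) := by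
  have hex : ∀ t u, ∃ b ∈ B, (cx co b).a1 = t ∧ (cx co b).a6 = u := by
    intro t u
    obtain ⟨g, hgP, hgc⟩ := exists_cx (co := co) ⟨t, 0, 0, 0, 0, u⟩
    obtain ⟨a, ha, b, hb, rfl⟩ := hg g hgP
    refine ⟨b, hb, ?_, ?_⟩
    · have := a1_mul (co := co) (hA ha) (hB hb)
      rw [hgc, (h0 a ha).1, zero_add] at this
      exact this.symm
    · have := a6_mul (co := co) (hA ha) (hB hb)
      rw [hgc, (h0 a ha).2, zero_add] at this
      exact this.symm
  intro x hx
  obtain ⟨h1, h6⟩ := h0 x hx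
  have hxP := hA hx
  have hcm : ∀ b ∈ B, cm b x = 1 := fun b hb => cm_eq_one.2 (hc x hx b hb).symm
  have h53 : (cx co x).a5 = 0 ∧ (cx co x).a3 = 0 := by
    apply hG.g1
    · intro t
      obtain ⟨b, hb, hb1, -⟩ := hex t 0
      have := a3_cm_R (co := co) (hB hb) hxP h1 h6
      rw [hcm b hb, cx_one, hb1] at this
      exact this.symm
    · intro t
      obtain ⟨b, hb, hb1, -⟩ := hex t 0
      have := a2_cm_R (co := co) (hB hb) hxP h1 h6
      rw [hcm b hb, cx_one, hb1] at this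
      exact this.symm
  have h2 : (cx co x).a2 = 0 := by
    obtain ⟨b, hb, -, hb6⟩ := hex 0 1
    have := a4_cm_F0 (co := co) (hB hb) hxP h1 h53.1 h6
    rw [hcm b hb, cx_one, hb6, h53.2, C.T_zero_right, one_mul, add_zero] at this
    exact this.symm
  rw [mem_centralizer_iff]
  intro g hgP
  exact comm_of_center hxP h1 h2 h53.2 h53.1 h6 hgP

/-- **(W1)** -/
theorem centIndec (co : Coord C P) (hG : Gd C) : CentIndec P := by
  intro A B hA hB hc hg
  have star : ∀ x ∈ A, ∀ y ∈ B, (cx co x).a6 • (cx co y).a1 = (cx co y).a6 • (cx co x).a1 := by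
    intro x hx y hy
    have h1 := a5_cm (co := co) (hA hx) (hB hy)
    rw [cm_eq_one.2 (hc x hx y hy), cx_one] at h1
    exact C.eq_of_add_eq_zeroK h1.symm
  have hdich : (∀ a ∈ A, (cx co a).a1 = 0 ∧ (cx co a).a6 = 0) ∨ ∀ b ∈ B, (cx co b).a1 = 0 ∧ (cx co b).a6 = 0 := by
    by_contra hcon
    rw [not_or] at hcon
    obtain ⟨hcA, hcB⟩ := hcon
    push Not at hcA hcB
    obtain ⟨x₀, hx₀, hx₀'⟩ := hcA
    obtain ⟨y₀, hy₀, hy₀'⟩ := hcB
    by_cases hy : ∃ y ∈ B, (cx co y).a6 ≠ 0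
    · obtain ⟨y₁, hy₁, hy₁'⟩ := hy
      have hx6 : (cx co x₀).a6 ≠ 0 := by
        intro h0
        have h1 := star x₀ hx₀ y₁ hy₁
        rw [h0, zero_smul] at h1
        have h2 : (cx co x₀).a1 = 0 := (smul_eq_zero.1 h1.symm).resolve_left hy₁'
        exact hx₀' h2 h0
      set κ := (cx co x₀).a6⁻¹ • (cx co x₀).a1 with hκ
      have hB' : ∀ y ∈ B, (cx co y).a1 = (cx co y).a6 • κ := by
        intro y hy
        have h1 := star x₀ hx₀ y hy
        rw [hκ, smul_comm, ← h1, smul_smul, inv_mul_cancel₀ hx6, one_smul]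
      have hA' : ∀ x ∈ A, (cx co x).a1 = (cx co x).a6 • κ := by
        intro x hx
        have h1 := star x hx y₁ hy₁
        rw [hB' y₁ hy₁, smul_comm] at h1
        have h2 := congrArg (fun t => (cx co y₁).a6⁻¹ • t) h1
        simp only [smul_smul, ← mul_assoc, inv_mul_cancel₀ hy₁', one_mul, one_smul] at h2
        exact h2.symm
      obtain ⟨g, hgP, hgc⟩ := exists_cx (co := co) ⟨1, 0, 0, 0, 0, 0⟩
      obtain ⟨a, ha, b, hb, rfl⟩ := hg g hgP
      have h1 := a1_mul (co := co) (hA ha) (hB hb)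
      have h6 := a6_mul (co := co) (hA ha) (hB hb)
      rw [hgc] at h1 h6
      rw [hA' a ha, hB' b hb, ← add_smul, ← h6] at h1
      simp at h1
    · push Not at hy
      have hy1 : (cx co y₀).a1 ≠ 0 := fun h => hy₀' h (hy y₀ hy₀)
      have hx6 : ∀ x ∈ A, (cx co x).a6 = 0 := by
        intro x hx
        have h1 := star x hx y₀ hy₀
        rw [hy y₀ hy₀, zero_smul] at h1
        exact (smul_eq_zero.1 h1).resolve_right hy1
      obtain ⟨g, hgP, hgc⟩ := exists_cx (co := co) ⟨0, 0, 0, 0, 0, 1⟩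
      obtain ⟨a, ha, b, hb, rfl⟩ := hg g hgP
      have h6 := a6_mul (co := co) (hA ha) (hB hb)
      rw [hgc, hx6 a ha, hy b hb] at h6
      simp at h6
  rcases hdich with h | h
  · exact Or.inl (centIndec_aux hG hA hB hc hg h)
  · refine Or.inr (centIndec_aux hG hB hA (fun b hb a ha => (hc a ha b hb).symm) (fun s hs => ?_) h)
    obtain ⟨a, ha, b, hb, hab⟩ := hg s hs
    exact ⟨b, hb, a, ha, by rw [← hc a ha b hb]; exact hab⟩

theorem cm_mem_commutator {g h : G} (hg : g ∈ P) (hh : h ∈ P) : cm g h ∈ ⁅P, P⁆ :=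
  Subgroup.commutator_mem_commutator hg hh

/-- **(W2)** -/
theorem centralizer_le (co : Coord C P) (hG : Gd C) :
    centralizer ((⁅P, P⁆ : Subgroup G) : Set G) ⊓ P ≤ ⁅P, P⁆ := by
  intro x hx
  obtain ⟨hxC, hxP⟩ := mem_inf.1 hx
  have hc : ∀ w ∈ ⁅P, P⁆, cm x w = 1 := fun w hw => cm_eq_one.2 (mem_centralizer_iff.1 hxC w hw).symm
  have hPP : ⁅P, P⁆ ≤ P := Subgroup.commutator_le_self P
  -- `X₂ ≤ P'`
  have hX2 : ∀ p : F, ∃ w ∈ ⁅P, P⁆, cx co w = ⟨0, p, 0, 0, 0, 0⟩ := by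
    intro p
    obtain ⟨g, hg, hgc⟩ := exists_cx (co := co) ⟨1, 0, 0, 0, 0, 0⟩
    obtain ⟨h, hh, hhc⟩ := exists_cx (co := co) ⟨0, 0, algebraMap F K p, 0, 0, 0⟩
    have e1 : (cx co h).a1 = 0 := by rw [hhc]
    have e5 : (cx co h).a5 = 0 := by rw [hhc]
    have e6 : (cx co h).a6 = 0 := by rw [hhc]
    refine ⟨cm g h, cm_mem_commutator hg hh, Tup.ext (a1_cm hg hh) ?_ (a3_cm_F0 hg hh e1 e5 e6) ?_
      (a5_cm_R hg hh e1 e6) (a6_cm hg hh)⟩
    · rw [a2_cm_F0 hg hh e1 e5 e6, hgc, hhc]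
      change C.T 1 (algebraMap F K p) = p
      unfold Cubic.T
      rw [one_mul, Algebra.algebraMap_eq_smul_one, map_smul, C.tr_one, smul_eq_mul, mul_one]
    · rw [a4_cm_F0 hg hh e1 e5 e6, hgc, hhc]
      change (0 : F) * 0 + C.T 0 _ = 0
      rw [C.T_zero_left, mul_zero, add_zero]
  have hX4 : ∀ z : F, ∃ w ∈ ⁅P, P⁆, cx co w = ⟨0, 0, 0, z, 0, 0⟩ := by
    intro z
    obtain ⟨g, hg, hgc⟩ := exists_cx (co := co) ⟨0, 0, 0, 0, 0, 1⟩
    obtain ⟨h, hh, hhc⟩ := exists_cx (co := co) ⟨0, z, 0, 0, 0, 0⟩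
    have e1 : (cx co h).a1 = 0 := by rw [hhc]
    have e5 : (cx co h).a5 = 0 := by rw [hhc]
    have e6 : (cx co h).a6 = 0 := by rw [hhc]
    refine ⟨cm g h, cm_mem_commutator hg hh, Tup.ext (a1_cm hg hh) ?_ (a3_cm_F0 hg hh e1 e5 e6) ?_
      (a5_cm_R hg hh e1 e6) (a6_cm hg hh)⟩
    · rw [a2_cm_F0 hg hh e1 e5 e6, hgc, hhc]
      exact C.T_zero_right _
    · rw [a4_cm_F0 hg hh e1 e5 e6, hgc, hhc]
      change (1 : F) * z + C.T 0 _ = z
      rw [C.T_zero_left, one_mul, add_zero]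
  -- `a6 x = 0`
  have h6 : (cx co x).a6 = 0 := by
    obtain ⟨w, hw, hwc⟩ := hX2 1
    have e1 : (cx co w).a1 = 0 := by rw [hwc]
    have e5 : (cx co w).a5 = 0 := by rw [hwc]
    have e6 : (cx co w).a6 = 0 := by rw [hwc]
    have := a4_cm_F0 (co := co) hxP (hPP hw) e1 e5 e6
    rw [hc w hw, cx_one, hwc] at this
    change (0 : F) = (cx co x).a6 * 1 + C.T _ 0 at this
    rw [C.T_zero_right, mul_one, add_zero] at this
    exact this.symm
  -- the elements `[x1(t), x6(1)]`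
  have hW : ∀ t : K, ∃ w ∈ ⁅P, P⁆, (cx co w).a1 = 0 ∧ (cx co w).a6 = 0 ∧ (cx co w).a5 = t ∧
      (cx co w).a3 = C.sh t := by
    intro t
    obtain ⟨g, hg, hgc⟩ := exists_cx (co := co) ⟨t, 0, 0, 0, 0, 0⟩
    obtain ⟨h, hh, hhc⟩ := exists_cx (co := co) ⟨0, 0, 0, 0, 0, 1⟩
    have e1 : (cx co h).a1 = 0 := by rw [hhc]
    refine ⟨cm g h, cm_mem_commutator hg hh, a1_cm hg hh, a6_cm hg hh, ?_, ?_⟩
    · rw [a5_cm_Da hg hh e1, hgc, hhc]
      exact one_smul _ _
    · rw [a3_cm_Da hg hh e1, hgc, hhc]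
      change (1 : F) • C.sh t + C.cr t 0 = C.sh t
      rw [C.cr_zero_right, one_smul, add_zero]
  have hV : ∀ t r : K, ∃ w ∈ ⁅P, P⁆, (cx co w).a1 = 0 ∧ (cx co w).a6 = 0 ∧ (cx co w).a5 = 0 ∧
      (cx co w).a3 = C.cr t r := by
    intro t r
    obtain ⟨g, hg, hgc⟩ := exists_cx (co := co) ⟨t, 0, 0, 0, 0, 0⟩
    obtain ⟨h, hh, hhc⟩ := exists_cx (co := co) ⟨0, 0, 0, 0, r, 0⟩
    have e1 : (cx co h).a1 = 0 := by rw [hhc]
    have e6 : (cx co h).a6 = 0 := by rw [hhc]
    refine ⟨cm g h, cm_mem_commutator hg hh, a1_cm hg hh, a6_cm hg hh, a5_cm_R hg hh e1 e6, ?_⟩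
    rw [a3_cm_R hg hh e1 e6, hgc, hhc]
  have h1 : (cx co x).a1 = 0 := by
    apply hG.g2
    · intro t
      obtain ⟨w, hw, w1, w6, w5, -⟩ := hW t
      have := a3_cm_R (co := co) hxP (hPP hw) w1 w6
      rw [hc w hw, cx_one, w5] at this
      exact this.symm
    · intro t
      obtain ⟨w, hw, w1, w6, w5, w3⟩ := hW t
      have := a2_cm_R (co := co) hxP (hPP hw) w1 w6
      rw [hc w hw, cx_one, w5, w3] at this
      exact this.symm
  have h53 : (cx co x).a5 = 0 ∧ (cx co x).a3 = 0 := by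
    apply hG.g3
    · intro t
      obtain ⟨w, hw, w1, w6, w5, w3⟩ := hW t
      have := a4_cm_R (co := co) hxP (hPP hw) w1 w6
      rw [hc w hw, cx_one, w5, w3, h6, h1, zero_mul, C.T_zero_left, zero_add, add_zero] at this
      exact this.symm
    · intro t r
      obtain ⟨w, hw, w1, w6, w5, w3⟩ := hV t r
      have := a4_cm_R (co := co) hxP (hPP hw) w1 w6
      rw [hc w hw, cx_one, w5, w3, h6, h1, zero_mul, C.T_zero_left, zero_add, add_zero, C.T_zero_right,
        add_zero] at this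
      exact this.symm
  obtain ⟨u, hu, huc⟩ := hX2 (cx co x).a2
  obtain ⟨v, hv, hvc⟩ := hX4 (cx co x).a4
  have e : x = u * v := by
    apply cx_inj (co := co) hxP (mul_mem (hPP hu) (hPP hv))
    rw [cx_mul (hPP hu) (hPP hv), huc, hvc]
    refine Tup.ext ?_ ?_ ?_ ?_ ?_ ?_
    · rw [h1]; simp [Cubic.mul]
    · simp [Cubic.mul, C.N_zero, C.sh_zero, C.T_zero_left]
    · rw [h53.2]; simp [Cubic.mul, C.sh_zero, C.cr_zero_left]
    · simp [Cubic.mul, C.N_zero, C.sh_zero, C.T_zero_left]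
    · rw [h53.1]; simp [Cubic.mul]
    · rw [h6]; simp [Cubic.mul]
  rw [e]
  exact mul_mem hu hv

end Group

end Cfsg.Agent.WreathFusion.HexUni
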