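import Mathlib
import Cfsg.Agent.StdRank2.HexU
import Cfsg.Agent.HexRec.OfHexRel
import Cfsg.Agent.HexRec.FixedField
import Cfsg.Agent.WreathFusion.HexUni

/-!
# Coordinates on the positive part of `HexTwo σ x`

`coord h : Coord (cubic σ) ↥(gen σ x (arc 1 6))`, and the inputs (W1), (W2) of Theorem W for this group.
-/

set_option autoImplicit false

namespace Cfsg.Agent.WreathFusion.HexCoord

open Subgroup Cfsg.Agent.StdRank2.Hex Cfsg.Agent.HexRec Cfsg.Agent.HexRec.FixedField Cfsg.Agent.HexRec.OfHexRel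
open scoped commutatorElement

/-- the relations are reflected by injective homomorphisms -/
theorem posRel_of_injective {F K : Type*} [Field F] [Field K] [Algebra F K] {C : Cubic F K} {S T : Type*} [Group S]
    [Group T] {y1 : K → S} {y2 : F → S} {y3 : K → S} {y4 : F → S} {y5 : K → S} {y6 : F → S} (f : S →* T)
    (hf : Function.Injective f)
    (H : PosRel C (fun t => f (y1 t)) (fun t => f (y2 t)) (fun t => f (y3 t)) (fun t => f (y4 t)) (fun t => f (y5 t))
      (fun t => f (y6 t))) : PosRel C y1 y2 y3 y4 y5 y6 where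
  add1 s t := hf (by simpa only [map_mul] using H.add1 s t)
  add2 s t := hf (by simpa only [map_mul] using H.add2 s t)
  add3 s t := hf (by simpa only [map_mul] using H.add3 s t)
  add4 s t := hf (by simpa only [map_mul] using H.add4 s t)
  add5 s t := hf (by simpa only [map_mul] using H.add5 s t)
  add6 s t := hf (by simpa only [map_mul] using H.add6 s t)
  r21 s t := hf (by simpa only [map_mul] using H.r21 s t)
  r31 s t := hf (by simpa only [map_mul] using H.r31 s t)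
  r41 s t := hf (by simpa only [map_mul] using H.r41 s t)
  r51 s t := hf (by simpa only [map_mul] using H.r51 s t)
  r61 s t := hf (by simpa only [map_mul] using H.r61 s t)
  r32 s t := hf (by simpa only [map_mul] using H.r32 s t)
  r42 s t := hf (by simpa only [map_mul] using H.r42 s t)
  r52 s t := hf (by simpa only [map_mul] using H.r52 s t)
  r62 s t := hf (by simpa only [map_mul] using H.r62 s t)
  r43 s t := hf (by simpa only [map_mul] using H.r43 s t)
  r53 s t := hf (by simpa only [map_mul] using H.r53 s t)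
  r63 s t := hf (by simpa only [map_mul] using H.r63 s t)
  r54 s t := hf (by simpa only [map_mul] using H.r54 s t)
  r64 s t := hf (by simpa only [map_mul] using H.r64 s t)
  r65 s t := hf (by simpa only [map_mul] using H.r65 s t)

variable {E : Type*} [Field E] {σ : E ≃+* E} {Γ : Type*} [Group Γ] {x : ZMod 12 → E → Γ} (h : HexTwo σ x)

/-- the fixed field of `σ` -/
abbrev FF (σ : E ≃+* E) : Type _ := ↥(Fx σ)

/-- root elements with parameter in the fixed field -/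
def yl (σ : E ≃+* E) (x : ZMod 12 → E → Γ) {k : ZMod 12} (hk : k ∈ arc 1 6) (t : FF σ) : ↥(gen σ x (arc 1 6)) :=
  ⟨x k t, x_mem_gen hk (ok_of_fix k ((mem_Fx σ).1 t.2))⟩

/-- root elements with odd index -/
def ys (σ : E ≃+* E) (x : ZMod 12 → E → Γ) {k : ZMod 12} (hk : k ∈ arc 1 6) (h1 : k.val % 2 = 1) (t : E) :
    ↥(gen σ x (arc 1 6)) := ⟨x k t, x_mem_gen hk (ok_odd h1 t)⟩

theorem mem_arc_of (k : ZMod 12) (hk : k = 1 ∨ k = 2 ∨ k = 3 ∨ k = 4 ∨ k = 5 ∨ k = 6) : k ∈ arc 1 6 := by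
  rw [mem_arc, set_pos]
  exact hk

include h

/-- the cubic pair -/
theorem cp : Hex.Defs.CubicPair (phi σ) := cubicPair σ h.two h.cube

theorem posRel : PosRel (OfPair.cubic (cp h))
    (ys σ x (mem_arc_of 1 (by simp)) (by decide)) (yl σ x (mem_arc_of 2 (by simp)))
    (ys σ x (mem_arc_of 3 (by simp)) (by decide)) (yl σ x (mem_arc_of 4 (by simp)))
    (ys σ x (mem_arc_of 5 (by simp)) (by decide)) (yl σ x (mem_arc_of 6 (by simp))) := by
  refine posRel_of_injective (Subgroup.subtype _) (Subgroup.subtype_injective _) ?_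
  exact posRel_of_hexRel (cp h) (x1 := x 1) (x2 := x 2) (x3 := x 3) (x4 := x 4) (x5 := x 5) (x6 := x 6)
    (by rw [phi_coe]; exact h.rel)

/-- normal form -/
theorem exists_nf {g : Γ} (hg : g ∈ gen σ x (arc 1 6)) : ∃ a1, ∃ a2, Ok σ 2 a2 ∧ ∃ a3, ∃ a4, Ok σ 4 a4 ∧ ∃ a5,
    ∃ a6, Ok σ 6 a6 ∧ g = x 1 a1 * (x 2 a2 * (x 3 a3 * (x 4 a4 * (x 5 a5 * x 6 a6)))) := by
  obtain ⟨a1, _, v1, hv1, rfl⟩ := (h.mem_gen_first (k := 1) (n := 5) (by norm_num)).1 hg
  obtain ⟨a2, h2, v2, hv2, rfl⟩ := (h.mem_gen_first (k := 2) (n := 4) (by norm_num)).1 hv1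
  obtain ⟨a3, _, v3, hv3, rfl⟩ := (h.mem_gen_first (k := 3) (n := 3) (by norm_num)).1 hv2
  obtain ⟨a4, h4, v4, hv4, rfl⟩ := (h.mem_gen_first (k := 4) (n := 2) (by norm_num)).1 hv3
  obtain ⟨a5, _, v5, hv5, rfl⟩ := (h.mem_gen_first (k := 5) (n := 1) (by norm_num)).1 hv4
  obtain ⟨a6, h6, v6, hv6, rfl⟩ := (h.mem_gen_first (k := 6) (n := 0) (by norm_num)).1 hv5
  rw [HexTwo.gen_arc_zero] at hv6
  have hv6' : v6 = 1 := mem_bot.1 hv6
  exact ⟨a1, a2, h2, a3, a4, h4, a5, a6, h6, by rw [hv6', mul_one]⟩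

theorem bij : Function.Bijective (PosRel.pm
    (ys σ x (mem_arc_of 1 (by simp)) (by decide)) (yl σ x (mem_arc_of 2 (by simp)))
    (ys σ x (mem_arc_of 3 (by simp)) (by decide)) (yl σ x (mem_arc_of 4 (by simp)))
    (ys σ x (mem_arc_of 5 (by simp)) (by decide)) (yl σ x (mem_arc_of 6 (by simp)))) := by
  constructor
  · intro a b hab
    have e1 : x 1 a.a1 * (x 2 a.a2 * (x 3 a.a3 * (x 4 a.a4 * (x 5 a.a5 * x 6 a.a6)))) =
        x 1 b.a1 * (x 2 b.a2 * (x 3 b.a3 * (x 4 b.a4 * (x 5 b.a5 * x 6 b.a6)))) :=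
      congrArg (Subtype.val) hab
    have o2 : ∀ t : FF σ, Ok σ 2 (t : E) := fun t => ok_of_fix _ ((mem_Fx σ).1 t.2)
    have o4 : ∀ t : FF σ, Ok σ 4 (t : E) := fun t => ok_of_fix _ ((mem_Fx σ).1 t.2)
    have o6 : ∀ t : FF σ, Ok σ 6 (t : E) := fun t => ok_of_fix _ ((mem_Fx σ).1 t.2)
    have o1 : ∀ t : E, Ok σ 1 t := fun t => ok_odd (by decide) t
    have o3 : ∀ t : E, Ok σ 3 t := fun t => ok_odd (by decide) t
    have o5 : ∀ t : E, Ok σ 5 t := fun t => ok_odd (by decide) t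
    have m6 : ∀ t : FF σ, x 6 (t : E) ∈ gen σ x (arc 6 1) := fun t => x_mem_gen (by rw [mem_arc]; decide) (o6 t)
    have m5 : ∀ (s : E) (t : FF σ), x 5 s * x 6 (t : E) ∈ gen σ x (arc 5 2) := fun s t =>
      mul_mem (x_mem_gen (by rw [mem_arc]; decide) (o5 s)) (x_mem_gen (by rw [mem_arc]; decide) (o6 t))
    have m4 : ∀ (u : FF σ) (s : E) (t : FF σ), x 4 (u : E) * (x 5 s * x 6 (t : E)) ∈ gen σ x (arc 4 3) := fun u s t =>
      mul_mem (x_mem_gen (by rw [mem_arc]; decide) (o4 u)) (mul_mem (x_mem_gen (by rw [mem_arc]; decide) (o5 s))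
        (x_mem_gen (by rw [mem_arc]; decide) (o6 t)))
    have m3 : ∀ (v : E) (u : FF σ) (s : E) (t : FF σ), x 3 v * (x 4 (u : E) * (x 5 s * x 6 (t : E))) ∈
        gen σ x (arc 3 4) := fun v u s t =>
      mul_mem (x_mem_gen (by rw [mem_arc]; decide) (o3 v)) (mul_mem (x_mem_gen (by rw [mem_arc]; decide) (o4 u))
        (mul_mem (x_mem_gen (by rw [mem_arc]; decide) (o5 s)) (x_mem_gen (by rw [mem_arc]; decide) (o6 t))))
    have m2 : ∀ (w : FF σ) (v : E) (u : FF σ) (s : E) (t : FF σ), x 2 (w : E) * (x 3 v * (x 4 (u : E) * (x 5 s *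
        x 6 (t : E)))) ∈ gen σ x (arc 2 5) := fun w v u s t =>
      mul_mem (x_mem_gen (by rw [mem_arc]; decide) (o2 w)) (mul_mem (x_mem_gen (by rw [mem_arc]; decide) (o3 v))
        (mul_mem (x_mem_gen (by rw [mem_arc]; decide) (o4 u))
        (mul_mem (x_mem_gen (by rw [mem_arc]; decide) (o5 s)) (x_mem_gen (by rw [mem_arc]; decide) (o6 t)))))
    obtain ⟨q1, e2⟩ := h.uniq_first (k := 1) (n := 5) (by norm_num) (o1 _) (o1 _) (m2 _ _ _ _ _) (m2 _ _ _ _ _) e1
    obtain ⟨q2, e3⟩ := h.uniq_first (k := 2) (n := 4) (by norm_num) (o2 _) (o2 _) (m3 _ _ _ _) (m3 _ _ _ _) e2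
    obtain ⟨q3, e4⟩ := h.uniq_first (k := 3) (n := 3) (by norm_num) (o3 _) (o3 _) (m4 _ _ _) (m4 _ _ _) e3
    obtain ⟨q4, e5⟩ := h.uniq_first (k := 4) (n := 2) (by norm_num) (o4 _) (o4 _) (m5 _ _) (m5 _ _) e4
    obtain ⟨q5, e6⟩ := h.uniq_first (k := 5) (n := 1) (by norm_num) (o5 _) (o5 _) (m6 _) (m6 _) e5
    have q6 := (h.x_inj (o6 _) (o6 _)).1 e6
    exact Tup.ext q1 (Subtype.ext q2) q3 (Subtype.ext q4) q5 (Subtype.ext q6)
  · rintro ⟨g, hg⟩
    obtain ⟨a1, a2, h2, a3, a4, h4, a5, a6, h6, e⟩ := exists_nf h hg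
    refine ⟨⟨a1, ⟨a2, (mem_Fx σ).2 (h2 (by decide))⟩, a3, ⟨a4, (mem_Fx σ).2 (h4 (by decide))⟩, a5,
      ⟨a6, (mem_Fx σ).2 (h6 (by decide))⟩⟩, ?_⟩
    exact Subtype.ext e.symm

/-- **Coordinates on the positive part.** -/
noncomputable def coord : Coord (OfPair.cubic (cp h)) ↥(gen σ x (arc 1 6)) := (posRel h).coord (bij h)

/-- The numerical conditions of Theorem W: `4 ≤ q`, or `³D₄(2)`. -/
theorem gd [Finite E] (hq : 2 < Nat.card {a : E // σ a = a} ∨ (Nat.card {a : E // σ a = a} = 2 ∧ 4 < Nat.card E)) :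
    HexUni.Gd (OfPair.cubic (cp h)) := by
  have e : Nat.card (FF σ) = Nat.card {a : E // σ a = a} :=
    Nat.card_congr (Equiv.subtypeEquivRight fun _ => mem_Fx σ)
  rcases hq with hq | ⟨h1, h2⟩
  · exact HexUni.Gd.of_card (by rw [e]; exact hq)
  · exact HexUni.Gd.of_card_two (by rw [e]; exact h1) h2

end Cfsg.Agent.WreathFusion.HexCoord
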