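import Mathlib
import Cfsg.Agent.WreathFusion.Dich

/-!
# The normaliser of `S₁ × S₂`

`P = S₁ × S₂` a Sylow 2-subgroup, `S₁`, `S₂` centrally indecomposable: `N_G(P)` normalises `C_P(S₁)`.
-/

set_option autoImplicit false

namespace Cfsg.Agent.WreathFusion

open Subgroup Cfsg.Agent.Lib.EssProd Cfsg.Agent.Lib.GoldschmidtFusion
open scoped commutatorElement

variable {G : Type*} [Group G] {S₁ S₂ : Subgroup G}

theorem isProd_symm {P : Subgroup G} (h : Cfsg.IsInternalDirectProduct S₁ S₂ P) :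
    Cfsg.IsInternalDirectProduct S₂ S₁ P :=
  ⟨h.2.1, h.1, fun a ha b hb => (h.2.2.1 b hb a ha).symm, by rw [inf_comm]; exact h.2.2.2.1,
    by rw [sup_comm]; exact h.2.2.2.2⟩

theorem rin_top {P : Subgroup G} (h : Cfsg.IsInternalDirectProduct S₁ S₂ P) : Rin S₁ S₂ P P :=
  ⟨le_rfl, h.2.1, fun _ ha _ _ _ => h.1 ha⟩

/-- (1), second case -/
theorem normalizer_case_eq [Finite G] {P : Sylow 2 G} (h : Cfsg.IsInternalDirectProduct S₁ S₂ (P : Subgroup G))
    (hi₁ : CentIndec S₁) (hi₂ : CentIndec S₂) (hcen : centralizer (S₂ : Set G) ⊓ S₂ ≤ ⁅S₂, S₂⁆) (hne : S₂ ≠ ⊥)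
    {n : G} (hn : n ∈ normalizer ((P : Subgroup G) : Set G)) :
    n ∈ normalizer (((P : Subgroup G) ⊓ centralizer (S₁ : Set G) : Subgroup G) : Set G) := by
  set B : Subgroup G := (P : Subgroup G) ⊓ centralizer (S₁ : Set G) with hB
  set B₁ : Subgroup G := (P : Subgroup G) ⊓ centralizer (S₂ : Set G) with hB₁
  have hinf : (P : Subgroup G) ⊓ S₁ = S₁ := inf_eq_right.2 h.1
  have hcomm : ∀ x ∈ (P : Subgroup G), x ∈ centralizer (S₁ : Set G) → ∀ y ∈ (P : Subgroup G),
      y ∈ centralizer (S₂ : Set G) → x * y = y * x := by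
    intro x hx hx' y hy hy'
    exact (rin_top h).comm_of h hx (by rw [hinf]; exact hx') hy hy'
  have hgen : ∀ (m : G), m ∈ normalizer ((P : Subgroup G) : Set G) → ∀ s ∈ (P : Subgroup G),
      ∃ x ∈ S₁.map (MulAut.conj m).toMonoidHom, ∃ y ∈ S₂.map (MulAut.conj m).toMonoidHom, x * y = s := by
    intro m hm s hs
    have hsR : m⁻¹ * s * m ∈ (P : Subgroup G) := by
      have := conj_mem_of_normalizer (inv_mem hm) hs
      simpa using this
    obtain ⟨a, ha, b, hb, hab⟩ := exists_mul h hsR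
    refine ⟨_, conj_mem_map_conj ha m, _, conj_mem_map_conj hb m, ?_⟩
    calc m * a * m⁻¹ * (m * b * m⁻¹) = m * (a * b) * m⁻¹ := by group
      _ = m * (m⁻¹ * s * m) * m⁻¹ := by rw [hab]
      _ = s := by group
  have hle : ∀ (m : G), m ∈ normalizer ((P : Subgroup G) : Set G) → ∀ {D : Subgroup G}, D ≤ P →
      D.map (MulAut.conj m).toMonoidHom ≤ P := by
    rintro m hm D hD _ ⟨x, hx, rfl⟩
    exact conj_mem_of_normalizer hm (hD hx)
  have hcc : ∀ m : G, ∀ x ∈ S₁.map (MulAut.conj m).toMonoidHom, ∀ y ∈ S₂.map (MulAut.conj m).toMonoidHom,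
      x * y = y * x := by
    rintro m _ ⟨x, hx, rfl⟩ _ ⟨y, hy, rfl⟩
    rw [← map_mul, h.2.2.1 x hx y hy, map_mul]
  -- straight elements normalise `B`
  have straight : ∀ m ∈ normalizer ((P : Subgroup G) : Set G),
      S₁.map (MulAut.conj m).toMonoidHom ≤ centralizer (S₂ : Set G) → m ∈ normalizer (B : Set G) := by
    intro m hm hs
    rw [← inv_inv m]
    apply inv_mem
    apply mem_normalizer_of_le
    intro x hx
    obtain ⟨hxP, hxC⟩ := mem_inf.1 hx
    refine mem_inf.2 ⟨conj_mem_of_normalizer (inv_mem hm) hxP, ?_⟩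
    rw [mem_centralizer_iff]
    intro c hc
    have h3 := hcomm x hxP hxC (m * c * m⁻¹) (conj_mem_of_normalizer hm (h.1 hc)) (hs (conj_mem_map_conj hc m))
    calc c * (m⁻¹ * x * m⁻¹⁻¹) = m⁻¹ * (m * c * m⁻¹ * x) * m := by group
      _ = m⁻¹ * (x * (m * c * m⁻¹)) * m := by rw [h3]
      _ = m⁻¹ * x * m⁻¹⁻¹ * c := by group
  -- the other elements swap `B` and `B₁`
  have swap : ∀ m ∈ normalizer ((P : Subgroup G) : Set G), m ∉ normalizer (B : Set G) →
      B.map (MulAut.conj m⁻¹).toMonoidHom = B₁ ∧ B₁.map (MulAut.conj m⁻¹).toMonoidHom = B := by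
    intro m hm hmB
    have h1 : S₂.map (MulAut.conj m).toMonoidHom ≤ centralizer (S₂ : Set G) := by
      rcases dich h hi₂ (hle m hm h.1) (hle m hm h.2.1) (hcc m) (fun s hs => hgen m hm s (h.2.1 hs)) with h1 | h1
      · exact absurd (straight m hm h1) hmB
      · exact h1
    have h2 : S₁.map (MulAut.conj m).toMonoidHom ≤ centralizer (S₁ : Set G) := by
      rcases dich (isProd_symm h) hi₁ (hle m hm h.2.1) (hle m hm h.1) (fun x hx y hy => (hcc m y hy x hx).symm)
        (fun s hs => by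
          obtain ⟨x, hx, y, hy, hxy⟩ := hgen m hm s (h.1 hs)
          exact ⟨y, hy, x, hx, by rw [← hcc m x hx y hy]; exact hxy⟩) with h2 | h2
      · exfalso
        apply hne
        -- `S₂` is abelian
        have hab : ∀ x ∈ S₂, ∀ y ∈ S₂, x * y = y * x := by
          intro x hx y hy
          obtain ⟨a, ha, b, hb, hab⟩ := exists_mul h (conj_mem_of_normalizer hm (h.2.1 hy))
          have h3 : Commute (m * x * m⁻¹) a :=
            (mem_centralizer_iff.1 (h2 (conj_mem_map_conj hx m)) a ha).symm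
          have h4 : Commute (m * x * m⁻¹) b :=
            (mem_centralizer_iff.1 (h1 (conj_mem_map_conj hx m)) b hb).symm
          have h5 : Commute (m * x * m⁻¹) (m * y * m⁻¹) := by rw [hab]; exact h3.mul_right h4
          have h6 : m * x * m⁻¹ * (m * y * m⁻¹) = m * y * m⁻¹ * (m * x * m⁻¹) := h5
          have e1 : m * x * m⁻¹ * (m * y * m⁻¹) = m * (x * y) * m⁻¹ := by group
          have e2 : m * y * m⁻¹ * (m * x * m⁻¹) = m * (y * x) * m⁻¹ := by group
          rw [e1, e2] at h6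
          exact mul_left_cancel (mul_right_cancel h6)
        have hbot : ⁅S₂, S₂⁆ = ⊥ := by
          rw [eq_bot_iff, Subgroup.commutator_le]
          intro x hx y hy
          rw [mem_bot, commutatorElement_def, hab x hx y hy]
          group
        rw [eq_bot_iff, ← hbot]
        refine le_trans ?_ hcen
        refine le_inf ?_ le_rfl
        intro x hx
        rw [mem_centralizer_iff]
        intro y hy
        exact hab y hy x hx
      · exact h2
    have h3 : B.map (MulAut.conj m⁻¹).toMonoidHom ≤ B₁ := by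
      rintro _ ⟨x, hx, rfl⟩
      obtain ⟨hxP, hxC⟩ := mem_inf.1 hx
      refine mem_inf.2 ⟨conj_mem_of_normalizer (inv_mem hm) hxP, ?_⟩
      rw [mem_centralizer_iff]
      intro c hc
      have h3 := hcomm x hxP hxC (m * c * m⁻¹) (conj_mem_of_normalizer hm (h.2.1 hc)) (h1 (conj_mem_map_conj hc m))
      change c * (m⁻¹ * x * m⁻¹⁻¹) = m⁻¹ * x * m⁻¹⁻¹ * c
      calc c * (m⁻¹ * x * m⁻¹⁻¹) = m⁻¹ * (m * c * m⁻¹ * x) * m := by group
        _ = m⁻¹ * (x * (m * c * m⁻¹)) * m := by rw [h3]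
        _ = m⁻¹ * x * m⁻¹⁻¹ * c := by group
    have h4 : B₁.map (MulAut.conj m⁻¹).toMonoidHom ≤ B := by
      rintro _ ⟨x, hx, rfl⟩
      obtain ⟨hxP, hxC⟩ := mem_inf.1 hx
      refine mem_inf.2 ⟨conj_mem_of_normalizer (inv_mem hm) hxP, ?_⟩
      rw [mem_centralizer_iff]
      intro c hc
      have h3 := hcomm (m * c * m⁻¹) (conj_mem_of_normalizer hm (h.1 hc)) (h2 (conj_mem_map_conj hc m)) x hxP hxC
      change c * (m⁻¹ * x * m⁻¹⁻¹) = m⁻¹ * x * m⁻¹⁻¹ * c
      calc c * (m⁻¹ * x * m⁻¹⁻¹) = m⁻¹ * (m * c * m⁻¹ * x) * m := by group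
        _ = m⁻¹ * (x * (m * c * m⁻¹)) * m := by rw [h3]
        _ = m⁻¹ * x * m⁻¹⁻¹ * c := by group
    have c1 := Nat.card_le_card_of_injective _ (Subgroup.inclusion_injective h3)
    have c2 := Nat.card_le_card_of_injective _ (Subgroup.inclusion_injective h4)
    rw [card_map_conj] at c1 c2
    refine ⟨Subgroup.eq_of_le_of_card_ge h3 ?_, Subgroup.eq_of_le_of_card_ge h4 ?_⟩
    · rw [card_map_conj]; exact c2
    · rw [card_map_conj]; exact c1
  by_contra hnB
  -- index two
  set N : Subgroup G := normalizer ((P : Subgroup G) : Set G) with hN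
  have hPN : (P : Subgroup G) ≤ N := le_normalizer
  have hPB : (P : Subgroup G) ≤ normalizer (B : Set G) := by
    intro x hx
    apply straight x (hPN hx)
    rintro _ ⟨y, hy, rfl⟩
    -- `P` normalises `S₁`
    obtain ⟨a, ha, b, hb, rfl⟩ := exists_mul h hx
    have e : (MulAut.conj (a * b)).toMonoidHom y = a * y * a⁻¹ := by
      change a * b * y * (a * b)⁻¹ = a * y * a⁻¹
      have := h.2.2.1 y hy b hb
      calc a * b * y * (a * b)⁻¹ = a * (b * y) * b⁻¹ * a⁻¹ := by group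
        _ = a * (y * b) * b⁻¹ * a⁻¹ := by rw [this]
        _ = _ := by group
    rw [e, mem_centralizer_iff]
    intro s hs
    exact (h.2.2.1 _ (mul_mem (mul_mem ha hy) (inv_mem ha)) s hs).symm
  have h2 : (N ⊓ normalizer (B : Set G)).relIndex N = 2 := by
    rw [Subgroup.relIndex_eq_two_iff]
    refine ⟨n, hn, fun b hb => ?_⟩
    by_cases hbB : b ∈ normalizer (B : Set G)
    · refine Or.inr ⟨mem_inf.2 ⟨hb, hbB⟩, fun hbn => hnB ?_⟩
      have := mul_mem (inv_mem hbB) (mem_inf.1 hbn).2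
      simpa using this
    · refine Or.inl ⟨mem_inf.2 ⟨mul_mem hb hn, ?_⟩, fun hb' => hbB (mem_inf.1 hb').2⟩
      obtain ⟨s1, s2⟩ := swap n hn hnB
      obtain ⟨s3, s4⟩ := swap b hb hbB
      rw [← inv_inv (b * n)]
      apply inv_mem
      rw [mem_normalizer_iff_map_conj, mul_inv_rev, ← map_conj_map_conj, s3, s2]
  have h3 : (P : Subgroup G).relIndex N = (P : Subgroup G).relIndex (N ⊓ normalizer (B : Set G)) * 2 := by
    have := Subgroup.relIndex_mul_relIndex (P : Subgroup G) (N ⊓ normalizer (B : Set G)) N (le_inf hPN hPB)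
      inf_le_left
    rw [h2] at this
    exact this.symm
  have h4 : ¬ 2 ∣ (P : Subgroup G).relIndex N := by
    intro hd
    exact P.not_dvd_index (hd.trans (Subgroup.relIndex_dvd_index_of_le hPN))
  exact h4 (h3 ▸ Dvd.intro_left _ rfl)

end Cfsg.Agent.WreathFusion
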