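import Mathlib
import Cfsg.Prelude.Def_TwoFusion
import Cfsg.Agent.Lib.SylowNormalInf

/-!
# The transfer argument for direct factors of Sylow subgroups

`inf_commutator_le`: `Q ≤ Y` of odd index, `Q = Z S` with `Z` a 2-group centralised by `Y` and `S ≤ [Y, Y]`,
`Z ∩ S = 1`. Then `Q ∩ [Y, Y] ≤ S`.
-/

set_option autoImplicit false

namespace Cfsg.Agent.WreathFusion.Transfer

open Subgroup
open scoped commutatorElement

variable {G : Type*} [Group G]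

/-- transfer: a central element of `Y` in `[Y, Y]` has its `[Y : Q]`-th power in `[Q, Q]` -/
theorem pow_relIndex_mem [Finite G] {Y Q : Subgroup G} (hQ : Q ≤ Y) {z : G} (hz : ∀ y ∈ Y, z * y = y * z)
    (hzY : z ∈ ⁅Y, Y⁆) : z ^ Q.relIndex Y ∈ ⁅Q, Q⁆ := by
  have hzY' : z ∈ Y := Subgroup.commutator_le_self Y hzY
  let Q' : Subgroup Y := Q.subgroupOf Y
  let ϕ : Q' →* Abelianization Q' := Abelianization.of
  have hfin : Q'.FiniteIndex := inferInstance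
  let zY : Y := ⟨z, hzY'⟩
  have key : ∀ (k : ℕ) (g₀ : Y), g₀⁻¹ * zY ^ k * g₀ ∈ Q' → g₀⁻¹ * zY ^ k * g₀ = zY ^ k := by
    intro k g₀ _
    have h1 : Commute zY g₀ := Subtype.ext (hz g₀ g₀.2)
    have h2 : Commute (zY ^ k) g₀ := h1.pow_left k
    rw [mul_assoc, h2.eq, inv_mul_cancel_left]
  have h1 := MonoidHom.transfer_eq_pow ϕ zY key
  -- `z` is in the commutator subgroup of `Y`
  have hzc : zY ∈ commutator Y := by
    rw [Subgroup.commutator_def] at hzY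
    have h2 : (commutator Y).map Y.subtype = ⁅Y, Y⁆ := by
      rw [_root_.commutator_def, Subgroup.map_commutator]
      simp [← MonoidHom.range_eq_map, Subgroup.range_subtype]
    have h3 : z ∈ (commutator Y).map Y.subtype := by
      rw [h2, Subgroup.commutator_def]; exact hzY
    obtain ⟨w, hw, hw'⟩ := h3
    have : w = zY := Subtype.ext hw'
    rwa [← this]
  have h4 : MonoidHom.transfer ϕ zY = 1 := by
    have : commutator Y ≤ (MonoidHom.transfer ϕ).ker := Abelianization.commutator_subset_ker _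
    exact this hzc
  rw [h4] at h1
  have h5 := h1.symm
  have h6 : (⟨zY ^ Q'.index, MonoidHom.transfer_eq_pow_aux zY key⟩ : Q') ∈ commutator Q' := by
    have := (QuotientGroup.eq_one_iff (N := commutator Q') (⟨zY ^ Q'.index, MonoidHom.transfer_eq_pow_aux zY key⟩ : Q')).1 h5
    exact this
  -- map to `G`
  have h7 : ((commutator Q').map Q'.subtype).map Y.subtype = ⁅Q, Q⁆ := by
    rw [_root_.commutator_def, Subgroup.map_commutator, Subgroup.map_commutator]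
    have h8 : (Subgroup.map Q'.subtype ⊤).map Y.subtype = Q := by
      rw [← MonoidHom.range_eq_map, Subgroup.range_subtype]
      exact Subgroup.map_subgroupOf_eq_of_le hQ
    rw [h8]
  rw [← h7]
  exact ⟨_, ⟨_, h6, rfl⟩, rfl⟩

/-- the transfer lemma for a central direct factor -/
theorem inf_commutator_le [Finite G] {Y Q Z S : Subgroup G} (hQ : Q ≤ Y) (hodd : ¬ 2 ∣ Q.relIndex Y)
    (hZ2 : IsPGroup 2 Z) (hZQ : Z ≤ Q) (hZ : ∀ z ∈ Z, ∀ y ∈ Y, z * y = y * z) (hS : S ≤ ⁅Y, Y⁆) (hSQ : S ≤ Q)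
    (hprod : ∀ x ∈ Q, ∃ z ∈ Z, ∃ s ∈ S, x = z * s) (hdisj : ∀ x ∈ Z, x ∈ S → x = 1) :
    Q ⊓ ⁅Y, Y⁆ ≤ S := by
  intro x hx
  obtain ⟨hxQ, hxY⟩ := mem_inf.1 hx
  obtain ⟨z, hz, s, hs, rfl⟩ := hprod x hxQ
  have hzY : z ∈ ⁅Y, Y⁆ := by
    have := mul_mem hxY (inv_mem (hS hs))
    simpa using this
  have h1 := pow_relIndex_mem hQ (hZ z hz) hzY
  -- `[Q, Q] ≤ S`
  have h2 : ⁅Q, Q⁆ ≤ S := by
    rw [Subgroup.commutator_le]
    intro a ha b hb
    obtain ⟨z₁, hz₁, s₁, hs₁, rfl⟩ := hprod a ha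
    obtain ⟨z₂, hz₂, s₂, hs₂, rfl⟩ := hprod b hb
    have c1 : Commute z₁ s₁ := hZ z₁ hz₁ s₁ (hQ (hSQ hs₁))
    have c2 : Commute z₁ s₂ := hZ z₁ hz₁ s₂ (hQ (hSQ hs₂))
    have c3 : Commute z₂ s₁ := hZ z₂ hz₂ s₁ (hQ (hSQ hs₁))
    have c4 : Commute z₂ s₂ := hZ z₂ hz₂ s₂ (hQ (hSQ hs₂))
    have c5 : Commute z₁ z₂ := hZ z₁ hz₁ z₂ (hQ (hZQ hz₂))
    have e : ⁅z₁ * s₁, z₂ * s₂⁆ = ⁅s₁, s₂⁆ := by
      have h3 : Commute z₁ (s₁ * (z₂ * s₂) * s₁⁻¹) := by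
        exact ((c1.mul_right (c5.mul_right c2)).mul_right c1.inv_right)
      have h4 : Commute z₁ (z₂ * s₂) := c5.mul_right c2
      have h5 : Commute z₂ (s₁ * s₂ * s₁⁻¹ * s₂⁻¹) :=
        ((c3.mul_right c4).mul_right c3.inv_right).mul_right c4.inv_right
      calc ⁅z₁ * s₁, z₂ * s₂⁆ = z₁ * (s₁ * (z₂ * s₂) * s₁⁻¹) * z₁⁻¹ * (z₂ * s₂)⁻¹ := by
            rw [commutatorElement_def]; group
        _ = s₁ * (z₂ * s₂) * s₁⁻¹ * (z₂ * s₂)⁻¹ := by rw [h3.eq, mul_inv_cancel_right]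
        _ = (s₁ * z₂) * s₂ * s₁⁻¹ * s₂⁻¹ * z₂⁻¹ := by group
        _ = z₂ * (s₁ * s₂ * s₁⁻¹ * s₂⁻¹) * z₂⁻¹ := by rw [← c3.eq]; group
        _ = s₁ * s₂ * s₁⁻¹ * s₂⁻¹ := by rw [h5.eq, mul_inv_cancel_right]
        _ = _ := by rw [commutatorElement_def]
    rw [e, commutatorElement_def]
    exact mul_mem (mul_mem (mul_mem hs₁ hs₂) (inv_mem hs₁)) (inv_mem hs₂)
  have h3 : z ^ Q.relIndex Y = 1 := hdisj _ (pow_mem hz _) (h2 h1)
  have h4 : z = 1 := by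
    obtain ⟨k, hk⟩ := hZ2 ⟨z, hz⟩
    have hk' : z ^ 2 ^ k = 1 := by
      have := congrArg Subtype.val hk
      simpa using this
    have hcop : Nat.Coprime (Q.relIndex Y) (2 ^ k) :=
      Nat.Coprime.pow_right _ (Nat.Coprime.symm ((Nat.Prime.coprime_iff_not_dvd Nat.prime_two).2 hodd))
    have h5 : orderOf z ∣ Q.relIndex Y := orderOf_dvd_of_pow_eq_one h3
    have h6 : orderOf z ∣ 2 ^ k := orderOf_dvd_of_pow_eq_one hk'
    have h7 := Nat.dvd_gcd h5 h6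
    rw [Nat.Coprime.gcd_eq_one hcop, Nat.dvd_one] at h7
    exact orderOf_eq_one_iff.1 h7
  rw [h4, one_mul]
  exact hs

/-- `Q ∩ K` has odd index in `K` if `Q` has odd index in `N` and `K` is normal in `N` -/
theorem not_dvd_inf [Finite G] {p : ℕ} {Q K N : Subgroup G} (hK : K ≤ N)
    (hn : N ≤ normalizer (K : Set G)) (hodd : ¬ p ∣ Q.relIndex N) : ¬ p ∣ (Q ⊓ K).relIndex K := by
  have hKn : (K.subgroupOf N).Normal := (normal_subgroupOf_iff_le_normalizer hK).2 hn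
  have h1 := Cfsg.Agent.Lib.SylowNormalInf.relIndex_sup_of_normal (Q.subgroupOf N) (K.subgroupOf N)
  have h2 : (Q.subgroupOf N).relIndex (K.subgroupOf N) = Q.relIndex K := by
    rw [Subgroup.relIndex_subgroupOf hK]
  rw [h2] at h1
  rw [Subgroup.inf_relIndex_right, ← h1]
  intro h
  exact hodd (h.trans (Subgroup.relIndex_dvd_index_of_le le_sup_left))

end Cfsg.Agent.WreathFusion.Transfer
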