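import Mathlib
import Cfsg.Agent.WreathFusion.Main
import Cfsg.Agent.StdEven.OddQuot

/-!
# The data of Theorem W: transport

`PCore P S₁ S₂`: the intrinsic part of `WData`; `PData P S₁ S₂ D₁ D₂`: in addition `S_i` lies in a perfect group
`D_i` centralising `S_j`.  Transport along homomorphisms which are injective on `P`, and lifting through a kernel of
odd order.
-/

set_option autoImplicit false

namespace Cfsg.Agent.WreathFusion

open Subgroup
open scoped commutatorElement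

variable {G : Type*} [Group G] {X : Type*} [Group X]

/-- the intrinsic part of `WData` -/
structure PCore (P S₁ S₂ : Subgroup G) : Prop where
  prod : Cfsg.IsInternalDirectProduct S₁ S₂ P
  card_eq : Nat.card S₁ = Nat.card S₂
  ne₁ : S₁ ≠ ⊥
  ne₂ : S₂ ≠ ⊥
  ind₁ : CentIndec S₁
  ind₂ : CentIndec S₂
  cen₁ : centralizer ((⁅S₁, S₁⁆ : Subgroup G) : Set G) ⊓ S₁ ≤ ⁅S₁, S₁⁆
  cen₂ : centralizer ((⁅S₂, S₂⁆ : Subgroup G) : Set G) ⊓ S₂ ≤ ⁅S₂, S₂⁆

/-- `S_i` lies in a perfect group `D_i` centralising `S_j` -/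
structure PData (P S₁ S₂ D₁ D₂ : Subgroup G) : Prop extends PCore P S₁ S₂ where
  perf₁ : D₁ ≤ ⁅D₁, D₁⁆
  perf₂ : D₂ ≤ ⁅D₂, D₂⁆
  le₁ : S₁ ≤ D₁
  le₂ : S₂ ≤ D₂
  com₁ : D₁ ≤ centralizer (S₂ : Set G)
  com₂ : D₂ ≤ centralizer (S₁ : Set G)

theorem PData.wdata {P S₁ S₂ D₁ D₂ : Subgroup G} (h : PData P S₁ S₂ D₁ D₂) : WData P S₁ S₂ where
  prod := h.prod
  card_eq := h.card_eq
  ne₁ := h.ne₁
  ne₂ := h.ne₂
  ind₁ := h.ind₁
  ind₂ := h.ind₂
  cen₁ := h.cen₁
  cen₂ := h.cen₂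
  com₁ := (h.le₁.trans h.perf₁).trans (commutator_mono h.com₁ h.com₁)
  com₂ := (h.le₂.trans h.perf₂).trans (commutator_mono h.com₂ h.com₂)

section comap

variable (f : G →* X)

/-- injectivity on a subgroup -/
theorem eq_of_map_eq {P : Subgroup G} (hinj : ∀ x ∈ P, f x = 1 → x = 1) {x y : G} (hx : x ∈ P) (hy : y ∈ P)
    (h : f x = f y) : x = y := by
  have h1 : x * y⁻¹ = 1 := hinj _ (mul_mem hx (inv_mem hy)) (by rw [map_mul, map_inv, h, mul_inv_cancel])
  exact mul_inv_eq_one.1 h1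

theorem map_comap_eq' {P : Subgroup G} {S' : Subgroup X} (hS : S' ≤ P.map f) : (P ⊓ S'.comap f).map f = S' := by
  apply le_antisymm
  · rintro _ ⟨x, hx, rfl⟩
    exact (mem_inf.1 hx).2
  · intro y hy
    obtain ⟨x, hx, rfl⟩ := hS hy
    exact ⟨x, mem_inf.2 ⟨hx, hy⟩, rfl⟩

theorem CentIndec.of_map {S : Subgroup G} (hinj : ∀ x ∈ S, f x = 1 → x = 1) (h : CentIndec (S.map f)) :
    CentIndec S := by
  intro A B hA hB hc hg
  have key : ∀ {Y : Subgroup G}, Y ≤ S → Y.map f ≤ centralizer ((S.map f : Subgroup X) : Set X) →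
      Y ≤ centralizer (S : Set G) := by
    intro Y hY h1 y hy
    rw [mem_centralizer_iff]
    intro s hs
    have h2 := mem_centralizer_iff.1 (h1 (mem_map_of_mem f hy)) (f s) (mem_map_of_mem f hs)
    rw [← map_mul, ← map_mul] at h2
    exact eq_of_map_eq f hinj (mul_mem hs (hY hy)) (mul_mem (hY hy) hs) h2
  have hc' : ∀ a ∈ A.map f, ∀ b ∈ B.map f, a * b = b * a := by
    rintro _ ⟨a, ha, rfl⟩ _ ⟨b, hb, rfl⟩
    rw [← map_mul, ← map_mul, hc a ha b hb]
  have hg' : ∀ s ∈ S.map f, ∃ a ∈ A.map f, ∃ b ∈ B.map f, a * b = s := by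
    rintro _ ⟨s, hs, rfl⟩
    obtain ⟨a, ha, b, hb, e⟩ := hg s hs
    exact ⟨f a, mem_map_of_mem f ha, f b, mem_map_of_mem f hb, by rw [← map_mul, e]⟩
  rcases h (A.map f) (B.map f) (map_mono hA) (map_mono hB) hc' hg' with h1 | h1
  · exact Or.inl (key hA h1)
  · exact Or.inr (key hB h1)

theorem cen_of_map {S : Subgroup G} (hinj : ∀ x ∈ S, f x = 1 → x = 1)
    (h : centralizer ((⁅S.map f, S.map f⁆ : Subgroup X) : Set X) ⊓ S.map f ≤ ⁅S.map f, S.map f⁆) :
    centralizer ((⁅S, S⁆ : Subgroup G) : Set G) ⊓ S ≤ ⁅S, S⁆ := by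
  intro x hx
  obtain ⟨hxc, hxS⟩ := mem_inf.1 hx
  have h1 : f x ∈ ⁅S.map f, S.map f⁆ := by
    apply h
    refine mem_inf.2 ⟨?_, mem_map_of_mem f hxS⟩
    rw [mem_centralizer_iff]
    intro y hy
    rw [← map_commutator] at hy
    obtain ⟨y, hy, rfl⟩ := hy
    rw [← map_mul, ← map_mul, mem_centralizer_iff.1 hxc y hy]
  rw [← map_commutator] at h1
  obtain ⟨y, hy, e⟩ := h1
  rw [← eq_of_map_eq f hinj (commutator_le_self S hy) hxS e]
  exact hy

theorem card_map_eq {S : Subgroup G} (hinj : ∀ x ∈ S, f x = 1 → x = 1) : Nat.card (S.map f) = Nat.card S := by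
  have h1 : Function.Injective (f.subgroupMap S) := by
    intro a b hab
    exact Subtype.ext (eq_of_map_eq f hinj a.2 b.2 (congrArg Subtype.val hab))
  exact (Nat.card_congr (Equiv.ofBijective _ ⟨h1, f.subgroupMap_surjective S⟩)).symm

/-- the intrinsic part, from the images -/
theorem PCore.of_map {P S₁ S₂ : Subgroup G} (hinj : ∀ x ∈ P, f x = 1 → x = 1) (h1 : S₁ ≤ P) (h2 : S₂ ≤ P)
    (h : PCore (P.map f) (S₁.map f) (S₂.map f)) : PCore P S₁ S₂ where
  prod := by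
    refine ⟨h1, h2, fun a ha b hb => ?_, ?_, ?_⟩
    · have h3 := h.prod.2.2.1 (f a) (mem_map_of_mem f ha) (f b) (mem_map_of_mem f hb)
      rw [← map_mul, ← map_mul] at h3
      exact eq_of_map_eq f hinj (mul_mem (h1 ha) (h2 hb)) (mul_mem (h2 hb) (h1 ha)) h3
    · rw [eq_bot_iff]
      intro x hx
      obtain ⟨hx1, hx2⟩ := mem_inf.1 hx
      have h3 : f x ∈ S₁.map f ⊓ S₂.map f := mem_inf.2 ⟨mem_map_of_mem f hx1, mem_map_of_mem f hx2⟩
      rw [h.prod.2.2.2.1, mem_bot] at h3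
      rw [mem_bot]
      exact hinj x (h1 hx1) h3
    · apply le_antisymm (sup_le h1 h2)
      intro x hx
      have h3 : f x ∈ (S₁ ⊔ S₂).map f := by
        rw [Subgroup.map_sup, h.prod.2.2.2.2]
        exact mem_map_of_mem f hx
      obtain ⟨y, hy, e⟩ := h3
      rw [← eq_of_map_eq f hinj (sup_le h1 h2 hy) hx e]
      exact hy
  card_eq := by
    rw [← card_map_eq f (fun x hx => hinj x (h1 hx)), ← card_map_eq f (fun x hx => hinj x (h2 hx))]
    exact h.card_eq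
  ne₁ := fun e => h.ne₁ (by rw [e, Subgroup.map_bot])
  ne₂ := fun e => h.ne₂ (by rw [e, Subgroup.map_bot])
  ind₁ := CentIndec.of_map f (fun x hx => hinj x (h1 hx)) h.ind₁
  ind₂ := CentIndec.of_map f (fun x hx => hinj x (h2 hx)) h.ind₂
  cen₁ := cen_of_map f (fun x hx => hinj x (h1 hx)) h.cen₁
  cen₂ := cen_of_map f (fun x hx => hinj x (h2 hx)) h.cen₂

end comap

section map

variable (f : G →* X) (hf : Function.Injective f)

include hf

theorem CentIndec.map {S : Subgroup G} (h : CentIndec S) : CentIndec (S.map f) := by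
  intro A B hA hB hc hg
  have key : ∀ {Y : Subgroup X}, Y ≤ S.map f → Y.comap f ≤ S := by
    intro Y hY y hy
    obtain ⟨s, hs, e⟩ := hY hy
    rw [← hf e]
    exact hs
  have key2 : ∀ {Y : Subgroup X}, Y ≤ S.map f → Y.comap f ≤ centralizer (S : Set G) →
      Y ≤ centralizer ((S.map f : Subgroup X) : Set X) := by
    intro Y hY h1 y hy
    obtain ⟨s, hs, rfl⟩ := hY hy
    rw [mem_centralizer_iff]
    rintro _ ⟨u, hu, rfl⟩
    rw [← map_mul, ← map_mul, mem_centralizer_iff.1 (h1 hy) u hu]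
  have hc' : ∀ a ∈ A.comap f, ∀ b ∈ B.comap f, a * b = b * a := by
    intro a ha b hb
    apply hf
    rw [map_mul, map_mul]
    exact hc _ ha _ hb
  have hg' : ∀ s ∈ S, ∃ a ∈ A.comap f, ∃ b ∈ B.comap f, a * b = s := by
    intro s hs
    obtain ⟨a, ha, b, hb, e⟩ := hg (f s) (mem_map_of_mem f hs)
    obtain ⟨a', _, rfl⟩ := hA ha
    obtain ⟨b', _, rfl⟩ := hB hb
    refine ⟨a', ha, b', hb, hf ?_⟩
    rw [map_mul]
    exact e
  rcases h (A.comap f) (B.comap f) (key hA) (key hB) hc' hg' with h1 | h1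
  · exact Or.inl (key2 hA h1)
  · exact Or.inr (key2 hB h1)

theorem cen_map {S : Subgroup G} (h : centralizer ((⁅S, S⁆ : Subgroup G) : Set G) ⊓ S ≤ ⁅S, S⁆) :
    centralizer ((⁅S.map f, S.map f⁆ : Subgroup X) : Set X) ⊓ S.map f ≤ ⁅S.map f, S.map f⁆ := by
  rw [← map_commutator]
  intro y hy
  obtain ⟨hyc, x, hx, rfl⟩ := mem_inf.1 hy
  refine mem_map_of_mem f (h (mem_inf.2 ⟨?_, hx⟩))
  rw [mem_centralizer_iff]
  intro z hz
  apply hf
  rw [map_mul, map_mul]
  exact mem_centralizer_iff.1 hyc (f z) (mem_map_of_mem f hz)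

theorem PCore.map {P S₁ S₂ : Subgroup G} (h : PCore P S₁ S₂) : PCore (P.map f) (S₁.map f) (S₂.map f) where
  prod := by
    refine ⟨map_mono h.prod.1, map_mono h.prod.2.1, ?_, ?_, ?_⟩
    · rintro _ ⟨a, ha, rfl⟩ _ ⟨b, hb, rfl⟩
      rw [← map_mul, ← map_mul, h.prod.2.2.1 a ha b hb]
    · rw [← map_inf _ _ f hf, h.prod.2.2.2.1, Subgroup.map_bot]
    · rw [← Subgroup.map_sup, h.prod.2.2.2.2]
  card_eq := by
    have hinj : ∀ x : G, f x = 1 → x = 1 := fun x hx => hf (by rw [hx, map_one])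
    rw [card_map_eq f (fun x _ => hinj x), card_map_eq f (fun x _ => hinj x)]
    exact h.card_eq
  ne₁ := fun e => h.ne₁ ((map_eq_bot_iff_of_injective _ hf).1 e)
  ne₂ := fun e => h.ne₂ ((map_eq_bot_iff_of_injective _ hf).1 e)
  ind₁ := h.ind₁.map f hf
  ind₂ := h.ind₂.map f hf
  cen₁ := cen_map f hf h.cen₁
  cen₂ := cen_map f hf h.cen₂

theorem PData.map {P S₁ S₂ D₁ D₂ : Subgroup G} (h : PData P S₁ S₂ D₁ D₂) :
    PData (P.map f) (S₁.map f) (S₂.map f) (D₁.map f) (D₂.map f) where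
  toPCore := h.toPCore.map f hf
  perf₁ := by rw [← map_commutator]; exact map_mono h.perf₁
  perf₂ := by rw [← map_commutator]; exact map_mono h.perf₂
  le₁ := map_mono h.le₁
  le₂ := map_mono h.le₂
  com₁ := by
    rintro _ ⟨a, ha, rfl⟩
    rw [mem_centralizer_iff]
    rintro _ ⟨b, hb, rfl⟩
    rw [← map_mul, ← map_mul, mem_centralizer_iff.1 (h.com₁ ha) b hb]
  com₂ := by
    rintro _ ⟨a, ha, rfl⟩
    rw [mem_centralizer_iff]
    rintro _ ⟨b, hb, rfl⟩
    rw [← map_mul, ← map_mul, mem_centralizer_iff.1 (h.com₂ ha) b hb]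

theorem PData.of_map {P S₁ S₂ D₁ D₂ : Subgroup G}
    (h : PData (P.map f) (S₁.map f) (S₂.map f) (D₁.map f) (D₂.map f)) : PData P S₁ S₂ D₁ D₂ := by
  have hinj : ∀ x : G, f x = 1 → x = 1 := fun x hx => hf (by rw [hx, map_one])
  have hle : ∀ {A B : Subgroup G}, A.map f ≤ B.map f → A ≤ B := fun hAB => (map_le_map_iff_of_injective hf).1 hAB
  have hcom : ∀ {A B : Subgroup G}, A.map f ≤ centralizer ((B.map f : Subgroup X) : Set X) →
      A ≤ centralizer (B : Set G) := by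
    intro A B hAB a ha
    rw [mem_centralizer_iff]
    intro b hb
    apply hf
    rw [map_mul, map_mul]
    exact mem_centralizer_iff.1 (hAB (mem_map_of_mem f ha)) (f b) (mem_map_of_mem f hb)
  refine ⟨PCore.of_map f (fun x _ => hinj x) (hle h.prod.1) (hle h.prod.2.1) h.toPCore, ?_, ?_, hle h.le₁, hle h.le₂,
    hcom h.com₁, hcom h.com₂⟩
  · apply hle
    rw [map_commutator]
    exact h.perf₁
  · apply hle
    rw [map_commutator]
    exact h.perf₂

end map

/-! ### Lifting through a kernel of odd order -/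

section lift

variable [Finite G] (f : G →* X) (hf : Function.Surjective f) (hk : Odd (Nat.card f.ker))

include hf hk

/-- a perfect group centralising the image of a 2-group lifts to a perfect group centralising the 2-group, which
contains all 2-elements of its preimage centralising the 2-group -/
theorem exists_perfect_lift {Y : Subgroup G} (hY : IsPGroup 2 Y) {D' : Subgroup X} (hD : D' ≤ ⁅D', D'⁆)
    (hc : D' ≤ centralizer ((Y.map f : Subgroup X) : Set X)) :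
    ∃ D : Subgroup G, D ≤ ⁅D, D⁆ ∧ D ≤ centralizer (Y : Set G) ∧ D.map f = D' ∧
      ∀ g : G, (∀ y ∈ Y, g * y = y * g) → f g ∈ D' → (∃ k : ℕ, g ^ 2 ^ k = 1) → g ∈ D := by
  classical
  let M : Subgroup G := centralizer (Y : Set G) ⊓ D'.comap f
  have hM : M.map f = D' := by
    apply le_antisymm
    · rintro _ ⟨x, hx, rfl⟩
      exact (mem_inf.1 hx).2
    · intro x hx
      obtain ⟨g, hg, hgc⟩ := StdEven.OddQuot.exists_centralizer f hf hk hY (x := x) (fun y hy =>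
        (mem_centralizer_iff.1 (hc hx) (f y) (mem_map_of_mem f hy)).symm)
      refine ⟨g, mem_inf.2 ⟨?_, ?_⟩, hg⟩
      · rw [mem_centralizer_iff]
        intro y hy
        exact (hgc y hy).symm
      · show f g ∈ D'
        rw [hg]
        exact hx
  -- a minimal normal subgroup of `M` with image `D'`
  obtain ⟨D, ⟨hDM, hDn, hDm⟩, hmin⟩ := Set.Finite.exists_minimal
    (s := {D : Subgroup G | D ≤ M ∧ M ≤ normalizer (D : Set G) ∧ D.map f = D'}) (Set.toFinite _)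
    ⟨M, le_rfl, le_normalizer, hM⟩
  have hcomm : ⁅D, D⁆ = D := by
    apply le_antisymm (commutator_le_self D)
    refine hmin ⟨(commutator_le_self D).trans hDM, ?_, ?_⟩ (commutator_le_self D)
    · intro m hm
      have h1 := hDn hm
      rw [mem_normalizer_iff_map_conj_eq] at h1 ⊢
      rw [map_commutator, h1]
    · rw [map_commutator, hDm]
      exact le_antisymm (commutator_le_self D') hD
  refine ⟨D, hcomm.ge, hDM.trans inf_le_left, hDm, ?_⟩
  rintro g hgY hgD ⟨k, hgk⟩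
  have hgM : g ∈ M := mem_inf.2 ⟨by rw [mem_centralizer_iff]; exact fun y hy => (hgY y hy).symm, hgD⟩
  -- `g = d k`
  obtain ⟨d, hd, hdg⟩ : ∃ d ∈ D, f d = f g := by
    have : f g ∈ D.map f := by rw [hDm]; exact hgD
    exact this
  set c := d⁻¹ * g with hcdef
  have hck : c ∈ f.ker := by
    rw [MonoidHom.mem_ker, hcdef, map_mul, map_inv, hdg, inv_mul_cancel]
  have hgn : ∀ n : ℕ, ∀ z ∈ D, (g ^ n)⁻¹ * z * g ^ n ∈ D := by
    intro n z hz
    have h1 : (g ^ n)⁻¹ ∈ normalizer (D : Set G) := inv_mem (pow_mem (hDn hgM) n)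
    have h2 := (mem_normalizer_iff.1 h1 z).1 hz
    rwa [inv_inv] at h2
  have hpow : ∀ n : ℕ, (g ^ n)⁻¹ * c ^ n ∈ D := by
    intro n
    induction n with
    | zero => simp
    | succ n ih =>
      have h1 : g⁻¹ * c ∈ D := by
        have e : g⁻¹ * c = g⁻¹ * d⁻¹ * g := by rw [hcdef]; group
        rw [e]
        have := hgn 1 d⁻¹ (inv_mem hd)
        rwa [pow_one] at this
      have h2 := mul_mem (hgn n _ h1) ih
      have e : (g ^ (n + 1))⁻¹ * c ^ (n + 1) = (g ^ n)⁻¹ * (g⁻¹ * c) * g ^ n * ((g ^ n)⁻¹ * c ^ n) := by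
        rw [pow_succ' g n, pow_succ' c n]
        group
      rw [e]
      exact h2
  have hcm : c ^ Nat.card f.ker = 1 := by
    have h1 := pow_card_eq_one' (G := f.ker) (x := ⟨c, hck⟩)
    exact congrArg Subtype.val h1
  have h1 := hpow (Nat.card f.ker)
  rw [hcm, mul_one, inv_mem_iff] at h1
  -- coprime exponents
  have hcop : Nat.Coprime (2 ^ k) (Nat.card f.ker) := Nat.Coprime.pow_left k (Nat.coprime_two_left.2 hk)
  have h2 : g ^ (Nat.gcd (2 ^ k) (Nat.card f.ker) : ℤ) ∈ D := by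
    rw [Nat.gcd_eq_gcd_ab, zpow_add, zpow_mul, zpow_mul, zpow_natCast, zpow_natCast, hgk, one_zpow, one_mul]
    exact zpow_mem h1 _
  rw [hcop] at h2
  simpa using h2

/-- **The data of Theorem W lift.** -/
theorem PData.lift {P : Subgroup G} (hP : IsPGroup 2 P) {S₁' S₂' D₁' D₂' : Subgroup X}
    (h : PData (P.map f) S₁' S₂' D₁' D₂') :
    ∃ D₁ D₂ : Subgroup G, PData P (P ⊓ S₁'.comap f) (P ⊓ S₂'.comap f) D₁ D₂ := by
  have e1 := map_comap_eq' f h.prod.1
  have e2 := map_comap_eq' f h.prod.2.1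
  have hinj : ∀ x ∈ P, f x = 1 → x = 1 := fun x hx hx1 => StdEven.OddQuot.eq_one_of_mem f hk hP hx hx1
  have hcore : PCore P (P ⊓ S₁'.comap f) (P ⊓ S₂'.comap f) :=
    PCore.of_map f hinj inf_le_left inf_le_left (by rw [e1, e2]; exact h.toPCore)
  have h2el : ∀ g ∈ P, ∃ k : ℕ, g ^ 2 ^ k = 1 := by
    intro g hg
    obtain ⟨k, hk'⟩ := hP ⟨g, hg⟩
    exact ⟨k, congrArg Subtype.val hk'⟩
  obtain ⟨D₁, a1, a2, a3, a4⟩ := exists_perfect_lift f hf hk (Y := P ⊓ S₂'.comap f) (hP.to_le inf_le_left) h.perf₁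
    (by rw [e2]; exact h.com₁)
  obtain ⟨D₂, b1, b2, b3, b4⟩ := exists_perfect_lift f hf hk (Y := P ⊓ S₁'.comap f) (hP.to_le inf_le_left) h.perf₂
    (by rw [e1]; exact h.com₂)
  refine ⟨D₁, D₂, hcore, a1, b1, fun s hs => ?_, fun s hs => ?_, a2, b2⟩
  · exact a4 s (fun y hy => hcore.prod.2.2.1 s hs y hy) (h.le₁ (mem_inf.1 hs).2) (h2el s (mem_inf.1 hs).1)
  · exact b4 s (fun y hy => (hcore.prod.2.2.1 y hy s hs).symm) (h.le₂ (mem_inf.1 hs).2) (h2el s (mem_inf.1 hs).1)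

end lift

end Cfsg.Agent.WreathFusion
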