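import Mathlib
import Cfsg.Agent.StdRank2.HexTorus
import Cfsg.Agent.WreathFusion.HexCoord
import Cfsg.Agent.WreathFusion.Pair

/-!
# Two commuting hexagonal systems: the data of Theorem W
-/

set_option autoImplicit false

namespace Cfsg.Agent.WreathFusion.HexPair

open Subgroup Cfsg.Agent.StdRank2.Hex
open scoped commutatorElement

variable {E : Type*} [Field E] {σ : E ≃+* E} {Γ : Type*} [Group Γ]

section One

variable {x : ZMod 12 → E → Γ} (h : HexTwo σ x)

include h

omit h in
theorem hh_mem (k : ZMod 12) {t : E} (ht : Ok σ k t) : hh x k t ∈ gen σ x Set.univ := by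
  have m : ∀ {j : ZMod 12} {a : E}, Ok σ j a → x j a ∈ gen σ x Set.univ := fun ha => x_mem_gen (Set.mem_univ _) ha
  have h6 : Ok σ (k + 6) t⁻¹ := ht.inv.congr (val_add_6 k)
  exact mul_mem (mul_mem (mul_mem (m ht) (m h6)) (m ht))
    (mul_mem (mul_mem (m (ok_one σ k)) (m (ok_one σ (k + 6)))) (m (ok_one σ k)))

/-- the group generated by all root elements is perfect -/
theorem perfect (hE : ∃ t : E, t ≠ 0 ∧ t ≠ 1) :
    gen σ x Set.univ ≤ ⁅gen σ x Set.univ, gen σ x Set.univ⁆ := by
  obtain ⟨t, ht0, ht1⟩ := hE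
  have m : ∀ {j : ZMod 12} {a : E}, Ok σ j a → x j a ∈ gen σ x Set.univ := fun ha => x_mem_gen (Set.mem_univ _) ha
  refine gen_le fun k _ a ha => ?_
  by_cases hk : k.val % 2 = 0
  · -- long
    have hk2 : (k - 2).val % 2 = 0 := by
      have : ∀ k : ZMod 12, k.val % 2 = 0 → (k - 2).val % 2 = 0 := by decide
      exact this k hk
    have hσ := ha hk
    have h1 := h.commL4 (k := k - 2) hk2 (t := 1) (u := a) (map_one σ) hσ
    rw [one_mul, sub_add_cancel, show k - 2 + 4 = k + 2 by ring] at h1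
    rw [← h1]
    exact commutator_mem_commutator (m (ok_of_fix _ (map_one σ))) (m (ok_of_fix _ hσ))
  · have hk1 : k.val % 2 = 1 := by omega
    have hne : t ^ 2 + 1 ≠ 0 := by
      intro h0
      apply ht1
      have h2 : (t - 1) ^ 2 = 0 := by
        have : (t - 1) ^ 2 = t ^ 2 + 1 - 2 * t := by ring
        rw [this, h0, h.two, zero_mul, sub_zero]
      have h3 := pow_eq_zero_iff (two_ne_zero) |>.1 h2
      exact sub_eq_zero.1 h3
    set b := (t ^ 2 + 1)⁻¹ * a with hb
    have hok : ∀ c : E, Ok σ k c := fun c => ok_odd hk1 c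
    have e1 : ⁅hh x k t, x k b⁆ = x k a := by
      rw [commutatorElement_def, h.tor k k ht0 (hok t) (hok b), sub_self, ch_zero_right, h.x_inv (hok b),
        ← h.add k _ _ (hok _) (hok _)]
      congr 1
      rw [hb]
      field_simp
    rw [← e1]
    exact commutator_mem_commutator (hh_mem k (hok t)) (m (hok b))

/-- an element of the positive part centralising all root elements is trivial -/
theorem eq_one_of_comm {g : Γ} (hg : g ∈ gen σ x (arc 1 6)) (hc : ∀ k, ∀ a, Ok σ k a → Commute g (x k a)) : g = 1 := by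
  apply h.opp_one hg
  have hnn : ∀ k, Commute g (nn x k) := fun k =>
    ((hc k 1 (ok_one σ k)).mul_right (hc (k + 6) 1 (ok_one σ _))).mul_right (hc k 1 (ok_one σ k))
  -- the product of three orthogonal pairs of reflections maps the positive part to the negative part
  have key : ∀ y ∈ gen σ x (arc 1 6), (nn x 1 * nn x 6) ^ 3 * y * ((nn x 1 * nn x 6) ^ 3)⁻¹ ∈
      gen σ x (arc (1 + 6) 6) := by
    intro y hy
    refine conj_gen (fun l hl a ha => ?_) hy
    have e := h.rot_pow 3 l (a := a) ha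
    rw [e]
    refine x_mem_gen ?_ (ha.congr ?_)
    · rw [mem_arc] at hl ⊢
      have : l + 2 * ((3 : ℕ) : ZMod 12) - (1 + 6) = l - 1 := by push_cast; ring
      rw [this]
      exact hl
    · have : ∀ l : ZMod 12, (l + 2 * ((3 : ℕ) : ZMod 12)).val % 2 = l.val % 2 := by decide
      exact this l
  have h1 := key g hg
  have h2 : Commute ((nn x 1 * nn x 6) ^ 3) g := (((hnn 1).mul_right (hnn 6)).pow_right 3).symm
  rwa [h2.eq, mul_inv_cancel_right] at h1

theorem ne_bot : gen σ x (arc 1 6) ≠ ⊥ := by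
  intro h0
  have h1 : x 1 1 ∈ gen σ x (arc 1 6) := x_mem_gen (by rw [mem_arc]; decide) (ok_one σ _)
  rw [h0, mem_bot] at h1
  exact one_ne_zero (h.inj 1 1 (ok_one σ _) h1)

end One

/-- two commuting hexagonal systems -/
structure IsPair (σ : E ≃+* E) (y1 y2 : ZMod 12 → E → Γ) : Prop where
  h1 : HexTwo σ y1
  h2 : HexTwo σ y2
  comm : ∀ k l a b, Ok σ k a → Ok σ l b → y1 k a * y2 l b = y2 l b * y1 k a

namespace IsPair

variable {y1 y2 : ZMod 12 → E → Γ} (p : IsPair σ y1 y2)

include p

theorem symm : IsPair σ y2 y1 := ⟨p.h2, p.h1, fun k l a b ha hb => (p.comm l k b a hb ha).symm⟩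

theorem le_centralizer (S T : Set (ZMod 12)) : gen σ y1 S ≤ centralizer (gen σ y2 T : Set Γ) := by
  refine gen_le fun k _ a ha => ?_
  have : gen σ y2 T ≤ centralizer ({y1 k a} : Set Γ) := by
    refine gen_le fun l _ b hb => ?_
    rw [mem_centralizer_singleton_iff]
    exact (p.comm k l a b ha hb).symm
  rw [mem_centralizer_iff]
  intro g hg
  exact mem_centralizer_singleton_iff.1 (this hg)

/-- **The data of Theorem W for two commuting hexagonal systems.** -/
theorem pdata [Finite E]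
    (hq : 2 < Nat.card {a : E // σ a = a} ∨ (Nat.card {a : E // σ a = a} = 2 ∧ 4 < Nat.card E)) :
    PData (gen σ y1 (arc 1 6) ⊔ gen σ y2 (arc 1 6)) (gen σ y1 (arc 1 6)) (gen σ y2 (arc 1 6))
      (gen σ y1 Set.univ) (gen σ y2 Set.univ) := by
  have hE : ∃ t : E, t ≠ 0 ∧ t ≠ 1 := by
    by_contra hcon
    push Not at hcon
    have h1 : Nat.card E ≤ 2 := by
      have h2 : Set.univ ⊆ ({0, 1} : Set E) := by
        intro t _
        by_cases ht : t = 0
        · exact Or.inl ht
        · exact Or.inr (hcon t ht)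
      have h3 := Set.ncard_le_ncard h2 (Set.toFinite _)
      rw [Set.ncard_univ] at h3
      exact h3.trans (Set.ncard_pair zero_ne_one).le
    have h2 : Nat.card {a : E // σ a = a} ≤ Nat.card E := Nat.card_le_card_of_injective _ Subtype.val_injective
    rcases hq with hq | ⟨_, hq⟩ <;> omega
  refine ⟨⟨⟨le_sup_left, le_sup_right, ?_, ?_, rfl⟩, ?_, ne_bot p.h1, ne_bot p.h2, ?_, ?_, ?_, ?_⟩,
    perfect p.h1 hE, perfect p.h2 hE, gen_mono (Set.subset_univ _), gen_mono (Set.subset_univ _),
    p.le_centralizer _ _, p.symm.le_centralizer _ _⟩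
  · intro a ha b hb
    exact (mem_centralizer_iff.1 (p.le_centralizer (arc 1 6) (arc 1 6) ha) b hb).symm
  · rw [eq_bot_iff]
    intro g hg
    obtain ⟨hg1, hg2⟩ := mem_inf.1 hg
    rw [mem_bot]
    refine eq_one_of_comm p.h1 hg1 fun k a ha => ?_
    have h3 := mem_centralizer_iff.1 (p.le_centralizer Set.univ (arc 1 6) (x_mem_gen (Set.mem_univ k) ha)) g hg2
    exact h3
  · rw [p.h1.card_U, p.h2.card_U]
  · exact HexUni.centIndec (HexCoord.coord p.h1) (HexCoord.gd p.h1 hq)
  · exact HexUni.centIndec (HexCoord.coord p.h2) (HexCoord.gd p.h2 hq)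
  · exact HexUni.centralizer_le (HexCoord.coord p.h1) (HexCoord.gd p.h1 hq)
  · exact HexUni.centralizer_le (HexCoord.coord p.h2) (HexCoord.gd p.h2 hq)

end IsPair

end Cfsg.Agent.WreathFusion.HexPair
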