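import Mathlib
import Cfsg.Agent.StdL3.OneParity
import Cfsg.Agent.StdEven.Syl

/-!
# The end of S1778 when `P / S` has only one involution `tS`

`S` is the grown 2-group, `T` a Sylow 2-subgroup of `C_G(t)` normalising `S`, `P = ST`, `U = S ⊓ C(t)`.  If `tS` is the
only involution of `P / S` and all involutions of `tS` are conjugate to `t` then `P` is a Sylow 2-subgroup of `G`, `t ∉ L`
and `P ⊓ L = S` for a perfect normal subgroup `L ≥ S`.
-/

set_option autoImplicit false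
set_option linter.unusedSectionVars false
set_option linter.style.haveILetI false

namespace Cfsg.Agent.WreathFusion.Closing

open Subgroup Cfsg.Agent.StdEven.Syl
open scoped commutatorElement

variable {G : Type*} [Group G]

/-- the hypotheses -/
structure End (t : G) (T U S V Z : Subgroup G) : Prop where
  tt : t * t = 1
  tT : t ∈ T
  twoS : IsPGroup 2 S
  twoT : IsPGroup 2 T
  TC : ∀ x ∈ T, x * t = t * x
  syl : ∀ Q : Subgroup G, IsPGroup 2 Q → (∀ x ∈ Q, x * t = t * x) → T ≤ Q → Q = T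
  norm : ∀ x ∈ T, ∀ s ∈ S, x * s * x⁻¹ ∈ S
  US : U ≤ S
  UT : U ≤ T
  cent : ∀ s ∈ S, s * t = t * s → s ∈ U
  tS : t ∉ S
  /-- the involutions of `t S` -/
  good : ∀ s ∈ S, (t * s) * (t * s) = 1 → ∃ g ∈ S, g * t * g⁻¹ = t * s
  /-- `tS` is the only involution of `P / S` -/
  inv : ∀ y ∈ T, y * y ∈ U → y ∈ U ∨ t * y ∈ U
  /-- `T / U` is abelian -/
  ab : ∀ x ∈ T, ∀ y ∈ T, ⁅x, y⁆ ∈ U
  VS : V ≤ S
  Vc : ∀ v ∈ V, ∀ s ∈ S, v * s = s * v
  Vn : ∀ x ∈ T, ∀ v ∈ V, x * v * x⁻¹ ∈ V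
  gen : U ≤ closure {a | ∃ s ∈ S, a = ⁅t, s⁆}
  VU : V ≤ ⁅U, S⁆
  fix : ∀ y ∈ T, (∀ u ∈ U, y * u = u * y) → (∀ v ∈ V, y * v = v * y) → y ∈ Z
  lt : Nat.card Z < Nat.card V

namespace End

variable {t : G} {T U S V Z : Subgroup G} (e : End t T U S V Z)

include e

theorem norm' {x s : G} (hx : x ∈ T) (hs : s ∈ S) : x⁻¹ * s * x ∈ S := by
  have := e.norm x⁻¹ (inv_mem hx) s hs
  rwa [inv_inv] at this

theorem T_le_normalizer : T ≤ normalizer (S : Set G) := by
  intro x hx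
  rw [mem_normalizer_iff]
  intro s
  refine ⟨fun hs => e.norm x hx s hs, fun hs => ?_⟩
  have h1 := e.norm' hx hs
  have h2 : x⁻¹ * (x * s * x⁻¹) * x = s := by group
  rwa [h2] at h1

/-- elements of `P = S T` -/
theorem mem_P {g : G} : g ∈ S ⊔ T ↔ ∃ s ∈ S, ∃ x ∈ T, s * x = g := by
  constructor
  · let Y : Subgroup G :=
      { carrier := {g | ∃ s ∈ S, ∃ x ∈ T, s * x = g}
        one_mem' := ⟨1, S.one_mem, 1, T.one_mem, by simp⟩
        mul_mem' := by
          rintro _ _ ⟨a, ha, b, hb, rfl⟩ ⟨a', ha', b', hb', rfl⟩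
          exact ⟨a * (b * a' * b⁻¹), mul_mem ha (e.norm b hb a' ha'), b * b', mul_mem hb hb', by group⟩
        inv_mem' := by
          rintro _ ⟨a, ha, b, hb, rfl⟩
          exact ⟨b⁻¹ * a⁻¹ * b⁻¹⁻¹, e.norm _ (inv_mem hb) _ (inv_mem ha), b⁻¹, inv_mem hb, by group⟩ }
    have h1 : S ⊔ T ≤ Y :=
      sup_le (fun a ha => ⟨a, ha, 1, T.one_mem, by simp⟩) (fun b hb => ⟨1, S.one_mem, b, hb, by simp⟩)
    exact fun hg => h1 hg
  · rintro ⟨s, hs, x, hx, rfl⟩
    exact mul_mem (mem_sup_left hs) (mem_sup_right hx)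

theorem two_P : IsPGroup 2 (S ⊔ T : Subgroup G) := e.twoS.to_sup_of_normal_left' e.twoT e.T_le_normalizer

theorem conj_S {p s : G} (hp : p ∈ S ⊔ T) (hs : s ∈ S) : p * s * p⁻¹ ∈ S := by
  obtain ⟨a, ha, x, hx, rfl⟩ := e.mem_P.1 hp
  have h1 : a * x * s * (a * x)⁻¹ = a * (x * s * x⁻¹) * a⁻¹ := by group
  rw [h1]
  exact mul_mem (mul_mem ha (e.norm x hx s hs)) (inv_mem ha)

theorem conj_V {p v : G} (hp : p ∈ S ⊔ T) (hv : v ∈ V) : p * v * p⁻¹ ∈ V := by
  obtain ⟨a, ha, x, hx, rfl⟩ := e.mem_P.1 hp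
  have h0 := e.Vn x hx v hv
  have h1 : a * x * v * (a * x)⁻¹ = a * (x * v * x⁻¹) * a⁻¹ := by group
  rw [h1, ← e.Vc _ h0 a ha, mul_inv_cancel_right]
  exact h0

theorem mem_U_of_inf {y : G} (hy : y ∈ T) (hyS : y ∈ S) : y ∈ U := e.cent y hyS (e.TC y hy)

theorem t_inv : t⁻¹ = t := inv_eq_of_mul_eq_one_right e.tt

theorem conj_t {s : G} (hs : s ∈ S) : t * s * t ∈ S := by
  have := e.norm t e.tT s hs
  rwa [e.t_inv] at this

/-- elements of `P` whose square lies in `S` -/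
theorem of_sq {p : G} (hp : p ∈ S ⊔ T) (h2 : p * p ∈ S) : p ∈ S ∨ ∃ s ∈ S, p = t * s := by
  obtain ⟨s, hs, y, hy, rfl⟩ := e.mem_P.1 hp
  have h1 : y * y ∈ S := by
    have h3 : y * y = (y * s * y⁻¹)⁻¹ * (s⁻¹ * (s * y * (s * y))) := by group
    rw [h3]
    exact mul_mem (inv_mem (e.norm y hy s hs)) (mul_mem (inv_mem hs) h2)
  rcases e.inv y hy (e.mem_U_of_inf (mul_mem hy hy) h1) with h3 | h3
  · exact Or.inl (mul_mem hs (e.US h3))
  · right
    refine ⟨t * s * t * (t * y), mul_mem (e.conj_t hs) (e.US h3), ?_⟩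
    calc s * y = (t * t) * s * (t * t) * y := by rw [e.tt]; group
      _ = t * (t * s * t * (t * y)) := by group

/-- involutions of `P` outside `S` are conjugate to `t` under `S` -/
theorem conj_of_not_mem {p : G} (hp : p ∈ S ⊔ T) (h2 : p * p = 1) (hpS : p ∉ S) : ∃ g ∈ S, g * t * g⁻¹ = p := by
  rcases e.of_sq hp (by rw [h2]; exact one_mem S) with h | ⟨s, hs, rfl⟩
  · exact absurd h hpS
  · exact e.good s hs h2

theorem mem_T_of_comm {p : G} (hp : p ∈ S ⊔ T) (hpt : p * t = t * p) : p ∈ T := by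
  obtain ⟨s, hs, y, hy, rfl⟩ := e.mem_P.1 hp
  have h1 : s * t = t * s := by
    have h2 := e.TC y hy
    have h3 : s * t * y = t * s * y := by
      calc s * t * y = s * (t * y) := by group
        _ = s * y * t := by rw [← h2]; group
        _ = t * (s * y) := hpt
        _ = t * s * y := by group
    exact mul_right_cancel h3
  exact mul_mem (e.UT (e.cent s hs h1)) hy

section Finite

variable [Finite G]

/-- an element normalising `P` does not conjugate `t` into `S` -/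
theorem not_mem_S {x : G} (hx : x ∈ normalizer ((S ⊔ T : Subgroup G) : Set G)) : x * t * x⁻¹ ∉ S := by
  intro hu
  -- `Y = x⁻¹ V x`
  have hxn : ∀ p ∈ S ⊔ T, x * p * x⁻¹ ∈ S ⊔ T := fun p hp => (mem_normalizer_iff.1 hx p).1 hp
  have hxn' : ∀ p ∈ S ⊔ T, x⁻¹ * p * x ∈ S ⊔ T := by
    intro p hp
    have h1 := (mem_normalizer_iff.1 (inv_mem hx) p).1 hp
    rwa [inv_inv] at h1
  have hYt : ∀ v ∈ V, ∀ p ∈ S ⊔ T, Commute (x⁻¹ * v * x) (p * t * p⁻¹) := by
    intro v hv p hp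
    -- move by `p`
    have h1 : x * p⁻¹ * x⁻¹ ∈ S ⊔ T := hxn _ (inv_mem hp)
    set w := (x * p⁻¹ * x⁻¹) * v * (x * p⁻¹ * x⁻¹)⁻¹ with hw
    have hwV : w ∈ V := e.conj_V h1 hv
    have h2 : w * (x * t * x⁻¹) = x * t * x⁻¹ * w := e.Vc w hwV _ hu
    have h3 : x⁻¹ * v * x = p * (x⁻¹ * w * x) * p⁻¹ := by rw [hw]; group
    have h4 : (x⁻¹ * w * x) * t = t * (x⁻¹ * w * x) := by
      calc (x⁻¹ * w * x) * t = x⁻¹ * (w * (x * t * x⁻¹)) * x := by group
        _ = x⁻¹ * (x * t * x⁻¹ * w) * x := by rw [h2]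
        _ = _ := by group
    show x⁻¹ * v * x * (p * t * p⁻¹) = p * t * p⁻¹ * (x⁻¹ * v * x)
    rw [h3]
    calc p * (x⁻¹ * w * x) * p⁻¹ * (p * t * p⁻¹) = p * ((x⁻¹ * w * x) * t) * p⁻¹ := by group
      _ = p * (t * (x⁻¹ * w * x)) * p⁻¹ := by rw [h4]
      _ = _ := by group
  -- the normal closure `N` of `t` in `P`
  let N : Subgroup G := closure {a | ∃ p ∈ S ⊔ T, a = p * t * p⁻¹}
  have hYN : ∀ v ∈ V, ∀ n ∈ N, Commute (x⁻¹ * v * x) n := by
    intro v hv n hn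
    induction hn using closure_induction with
    | mem a ha =>
      obtain ⟨p, hp, rfl⟩ := ha
      exact hYt v hv p hp
    | one => exact Commute.one_right _
    | mul a b _ _ ha hb => exact ha.mul_right hb
    | inv a _ ha => exact ha.inv_right
  have hNn : ∀ p ∈ S ⊔ T, ∀ n ∈ N, p * n * p⁻¹ ∈ N := by
    intro p hp n hn
    induction hn using closure_induction with
    | mem a ha =>
      obtain ⟨q, hq, rfl⟩ := ha
      exact subset_closure ⟨p * q, mul_mem hp hq, by group⟩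
    | one => rw [mul_one, mul_inv_cancel]; exact one_mem N
    | mul a b _ _ ha hb =>
      have : p * (a * b) * p⁻¹ = (p * a * p⁻¹) * (p * b * p⁻¹) := by group
      rw [this]; exact mul_mem ha hb
    | inv a _ ha =>
      have : p * a⁻¹ * p⁻¹ = (p * a * p⁻¹)⁻¹ := by group
      rw [this]; exact inv_mem ha
  have htN : t ∈ N := subset_closure ⟨1, one_mem _, by group⟩
  have hUN : U ≤ N := by
    refine e.gen.trans ((closure_le _).2 ?_)
    rintro _ ⟨s, hs, rfl⟩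
    have h1 : ⁅t, s⁆ = t * (s * t⁻¹ * s⁻¹) := by rw [commutatorElement_def]; group
    rw [h1]
    exact mul_mem htN (hNn s (mem_sup_left hs) _ (inv_mem htN))
  have hVN : V ≤ N := by
    refine e.VU.trans (commutator_le.2 fun u hu s hs => ?_)
    rw [commutatorElement_def]
    have h1 : u * s * u⁻¹ * s⁻¹ = u * (s * u⁻¹ * s⁻¹) := by group
    rw [h1]
    exact mul_mem (hUN hu) (hNn s (mem_sup_left hs) _ (inv_mem (hUN hu)))
  -- so `Y ≤ Z`
  have hYZ : ∀ v ∈ V, x⁻¹ * v * x ∈ Z := by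
    intro v hv
    have h1 : x⁻¹ * v * x ∈ S ⊔ T := hxn' v (mem_sup_left (e.VS hv))
    have h2 : x⁻¹ * v * x ∈ T := e.mem_T_of_comm h1 (hYN v hv t htN)
    exact e.fix _ h2 (fun u hu => hYN v hv u (hUN hu)) (fun w hw => hYN v hv w (hVN hw))
  have hcard : Nat.card V ≤ Nat.card Z := by
    refine Nat.card_le_card_of_injective (fun v : V => (⟨x⁻¹ * v * x, hYZ v v.2⟩ : Z)) ?_
    intro v w h
    have h1 : x⁻¹ * (v : G) * x = x⁻¹ * w * x := congrArg Subtype.val h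
    exact Subtype.ext (mul_left_cancel (mul_right_cancel h1))
  exact absurd e.lt (not_lt.2 hcard)

/-- **`P = S T` is a Sylow 2-subgroup of `G`.** -/
theorem isSyl_P : IsSyl (S ⊔ T) ⊤ := by
  have : Fact (Nat.Prime 2) := ⟨Nat.prime_two⟩
  refine ⟨le_top, e.two_P, fun X hX _ hle => ?_⟩
  by_contra hne
  have hlt : S ⊔ T < X := lt_of_le_of_ne hle (Ne.symm hne)
  have h1 := Cfsg.Agent.SmallSimple.SylowMaxInter.lt_inf_normalizer hX hlt
  obtain ⟨x, hx, hxP⟩ := SetLike.exists_of_lt h1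
  obtain ⟨hxX, hxn⟩ := mem_inf.1 hx
  have h2 : x * t * x⁻¹ ∈ S ⊔ T := (mem_normalizer_iff.1 hxn t).1 (mem_sup_right e.tT)
  obtain ⟨g, hg, hgt⟩ := e.conj_of_not_mem h2 (by
    calc x * t * x⁻¹ * (x * t * x⁻¹) = x * (t * t) * x⁻¹ := by group
      _ = 1 := by rw [e.tt]; group) (e.not_mem_S hxn)
  have h3 : (g⁻¹ * x) * t = t * (g⁻¹ * x) := by
    calc (g⁻¹ * x) * t = g⁻¹ * (x * t * x⁻¹) * x := by group
      _ = g⁻¹ * (g * t * g⁻¹) * x := by rw [hgt]
      _ = _ := by group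
  -- the 2-group `X ⊓ C(t)`
  have h4 := e.syl (X ⊓ centralizer ({t} : Set G)) (hX.to_le inf_le_left)
    (fun y hy => mem_centralizer_singleton_iff.1 (mem_inf.1 hy).2)
    (fun y hy => mem_inf.2 ⟨hle (mem_sup_right hy), mem_centralizer_singleton_iff.2 (e.TC y hy)⟩)
  have h5 : g⁻¹ * x ∈ T := by
    rw [← h4]
    exact mem_inf.2 ⟨mul_mem (inv_mem (hle (mem_sup_left hg))) hxX, mem_centralizer_singleton_iff.2 h3⟩
  apply hxP
  have h6 : x = g * (g⁻¹ * x) := by group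
  rw [h6]
  exact mul_mem (mem_sup_left hg) (mem_sup_right h5)

theorem odd_index : Odd (((S ⊔ T : Subgroup G)).subgroupOf (centralizer ({t} : Set G))).index := by
  have hT : IsSyl T (centralizer ({t} : Set G)) := by
    refine ⟨fun x hx => mem_centralizer_singleton_iff.2 (e.TC x hx), e.twoT, fun Q hQ hQC hle => ?_⟩
    exact e.syl Q hQ (fun x hx => mem_centralizer_singleton_iff.1 (hQC hx)) hle
  have h1 := hT.odd_relIndex
  have h2 : ((S ⊔ T : Subgroup G)).subgroupOf (centralizer ({t} : Set G)) =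
      T.subgroupOf (centralizer ({t} : Set G)) := by
    ext x
    rw [mem_subgroupOf, mem_subgroupOf]
    exact ⟨fun hx => e.mem_T_of_comm hx (mem_centralizer_singleton_iff.1 x.2), fun hx => mem_sup_right hx⟩
  rw [h2]
  exact h1

/-- **`t ∉ L`.** -/
theorem not_mem {L : Subgroup G} (hL : commutator L = ⊤) : t ∉ L := by
  intro htL
  let P : Subgroup G := S ⊔ T
  let S' : Subgroup P := S.subgroupOf P
  have hS'n : S'.Normal := by
    refine ⟨fun s hs p => ?_⟩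
    rw [mem_subgroupOf] at hs ⊢
    exact e.conj_S p.2 hs
  have hcomm : ∀ a b : P, (QuotientGroup.mk' S') a * (QuotientGroup.mk' S') b =
      (QuotientGroup.mk' S') b * (QuotientGroup.mk' S') a := by
    intro a b
    have key : (⁅a, b⁆ : P) ∈ S' := by
      rw [mem_subgroupOf]
      obtain ⟨s, hs, y, hy, ha⟩ := e.mem_P.1 a.2
      obtain ⟨s', hs', y', hy', hb⟩ := e.mem_P.1 b.2
      have h1 : ((⁅a, b⁆ : P) : G) = (a : G) * b * (a : G)⁻¹ * (b : G)⁻¹ := by
        rw [commutatorElement_def]; rfl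
      rw [h1, ← ha, ← hb]
      have h2 : s * y * (s' * y') * (s * y)⁻¹ * (s' * y')⁻¹ =
          s * (y * s' * y⁻¹) * (⁅y, y'⁆ * (y' * s⁻¹ * y'⁻¹) * ⁅y, y'⁆⁻¹) * ⁅y, y'⁆ * s'⁻¹ := by
        rw [commutatorElement_def]; group
      rw [h2]
      have h3 : ⁅y, y'⁆ ∈ S := e.US (e.ab y hy y' hy')
      exact mul_mem (mul_mem (mul_mem (mul_mem hs (e.norm y hy s' hs')) (mul_mem (mul_mem h3 (e.norm y' hy' _
        (inv_mem hs))) (inv_mem h3))) h3) (inv_mem hs')
    have h4 := (QuotientGroup.eq_one_iff (N := S') _).2 key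
    have h5 : (QuotientGroup.mk' S') ⁅a, b⁆ = 1 := h4
    rw [map_commutatorElement, commutatorElement_eq_one_iff_mul_comm] at h5
    exact h5
  let A := P ⧸ S'
  have hcommA : ∀ a b : A, a * b = b * a := by
    intro a b
    obtain ⟨a, rfl⟩ := QuotientGroup.mk'_surjective S' a
    obtain ⟨b, rfl⟩ := QuotientGroup.mk'_surjective S' b
    exact hcomm a b
  letI : CommGroup A := { (inferInstance : Group A) with mul_comm := hcommA }
  let φ : P →* A := QuotientGroup.mk' S'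
  have hφ : ∀ p : P, φ p = 1 ↔ (p : G) ∈ S := fun p => by
    have := QuotientGroup.eq_one_iff (N := S') p
    rw [mem_subgroupOf] at this
    exact this
  have htP : t ∈ P := mem_sup_right e.tT
  have key := Cfsg.Agent.StdL3.OneParity.transfer_eq_of_one_class P φ t e.tt htP (by
    intro g hg hne
    have h1 : g⁻¹ * t * g ∉ S := fun h => hne ((hφ _).2 h)
    obtain ⟨x, hx, h2⟩ := e.conj_of_not_mem hg (by
      calc g⁻¹ * t * g * (g⁻¹ * t * g) = g⁻¹ * (t * t) * g := by group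
        _ = 1 := by rw [e.tt]; group) h1
    exact ⟨x⁻¹, inv_mem (mem_sup_left hx), by rw [inv_inv]; exact h2.symm⟩) e.odd_index
  have h1 : ((MonoidHom.transfer φ).comp L.subtype) ⟨t, htL⟩ = 1 := by
    have h2 : (⟨t, htL⟩ : L) ∈ commutator L := by rw [hL]; trivial
    exact Abelianization.commutator_subset_ker ((MonoidHom.transfer φ).comp L.subtype) h2
  have h2 : MonoidHom.transfer φ t = 1 := h1
  rw [key, hφ] at h2
  exact e.tS h2

/-- **`P ⊓ L = S`.** -/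
theorem inf_eq {L : Subgroup G} (hSL : S ≤ L) (htL : t ∉ L) : (S ⊔ T) ⊓ L = S := by
  apply le_antisymm _ (le_inf le_sup_left hSL)
  intro p hp
  by_contra hpS
  obtain ⟨hpP, hpL⟩ := mem_inf.1 hp
  obtain ⟨k, hk⟩ := e.two_P ⟨p, hpP⟩
  have hk' : p ^ 2 ^ k ∈ S := by
    have : p ^ 2 ^ k = 1 := congrArg Subtype.val hk
    rw [this]
    exact one_mem S
  have hex : ∃ k, p ^ 2 ^ k ∈ S := ⟨k, hk'⟩
  classical
  set m := Nat.find hex with hm
  have h1 : p ^ 2 ^ m ∈ S := Nat.find_spec hex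
  have hm0 : m ≠ 0 := by
    intro h0
    rw [h0, pow_zero, pow_one] at h1
    exact hpS h1
  obtain ⟨j, hj⟩ := Nat.exists_eq_succ_of_ne_zero hm0
  have h2 : p ^ 2 ^ j ∉ S := Nat.find_min hex (m := j) (by omega)
  have h3 : p ^ 2 ^ j * p ^ 2 ^ j ∈ S := by
    have h4 : p ^ 2 ^ j * p ^ 2 ^ j = p ^ 2 ^ m := by
      rw [← pow_add, hj, Nat.succ_eq_add_one, pow_succ]
      congr 1
      ring
    rw [h4]
    exact h1
  rcases e.of_sq (pow_mem hpP _) h3 with h4 | ⟨s, hs, h4⟩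
  · exact h2 h4
  · apply htL
    have h5 : t = p ^ 2 ^ j * s⁻¹ := by rw [h4]; group
    rw [h5]
    exact mul_mem (pow_mem hpL _) (inv_mem (hSL hs))

/-- **The end.**  `S` is a Sylow 2-subgroup of `L`, and `t ∉ L`. -/
theorem main {L : Subgroup G} [hLn : L.Normal] (hL : commutator L = ⊤) (hSL : S ≤ L) : IsSyl S L ∧ t ∉ L := by
  have htL := e.not_mem hL
  have h1 := e.isSyl_P.inf_normal (N' := L) le_top (by rw [normalizer_eq_top_iff.2 hLn])
  rw [e.inf_eq hSL htL] at h1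
  exact ⟨h1, htL⟩

end Finite

end End

end Cfsg.Agent.WreathFusion.Closing
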