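import Mathlib
import Cfsg.Agent.HexGrow.Defs

/-!
# The doubled root groups are canonical

An element `y` of `C(t)` normalising all root groups `X r` and the torus normalises the doubled root groups `V r`.
-/

set_option autoImplicit false

namespace Cfsg.Agent.WreathFusion.HexCanon

open Cfsg.Agent.HexGrow.Defs
open scoped commutatorElement

variable {G : Type*} [Group G] {t : G} {T : Subgroup G} {X : ZMod 12 → Subgroup G} {n : ZMod 12 → G}
  {V : ZMod 12 → Subgroup G}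

theorem comm_of_sq {A : Subgroup G} (h : ∀ a ∈ A, a * a = 1) {a b : G} (ha : a ∈ A) (hb : b ∈ A) : a * b = b * a := by
  have hinv : ∀ y ∈ A, y⁻¹ = y := fun y hy => inv_eq_of_mul_eq_one_right (h y hy)
  have h1 := hinv _ (mul_mem ha hb)
  rw [mul_inv_rev, hinv a ha, hinv b hb] at h1
  exact h1.symm

/-- conjugation transports commuting -/
theorem comm_conj {y a b : G} (h : a * (y⁻¹ * b * y) = (y⁻¹ * b * y) * a) : y * a * y⁻¹ * b = b * (y * a * y⁻¹) := by
  calc y * a * y⁻¹ * b = y * (a * (y⁻¹ * b * y)) * y⁻¹ := by group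
    _ = y * ((y⁻¹ * b * y) * a) * y⁻¹ := by rw [h]
    _ = _ := by group

/-- common part: `w = y v y⁻¹`, `v' ∈ V r` with the same displacement -/
theorem aux (W : Grown t T X n V) {y : G} (tt : t * t = 1) (hyt : y * t = t * y)
    (hyX : ∀ r, ∀ a ∈ X r, y * a * y⁻¹ ∈ X r) (r : ZMod 12) {v : G} (hv : v ∈ V r)
    (hc : ∀ v' ∈ V r, (v'⁻¹ * (y * v * y⁻¹)) * t = t * (v'⁻¹ * (y * v * y⁻¹)) →
      v'⁻¹ * (y * v * y⁻¹) ∈ X r ∨ t * (v'⁻¹ * (y * v * y⁻¹)) ∈ X r) : y * v * y⁻¹ ∈ V r := by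
  have hti : t⁻¹ = t := inv_eq_of_mul_eq_one_right tt
  set w := y * v * y⁻¹ with hw
  have hbr : ⁅t, w⁆ = y * ⁅t, v⁆ * y⁻¹ := by
    rw [commutatorElement_def, commutatorElement_def, hw]
    have e1 : y⁻¹ * t⁻¹ = t⁻¹ * y⁻¹ := by rw [← mul_inv_rev, ← mul_inv_rev, hyt]
    have e2 : y⁻¹ * t = t * y⁻¹ := by rw [hti] at e1; exact e1
    calc t * (y * v * y⁻¹) * t⁻¹ * (y * v * y⁻¹)⁻¹ = (t * y) * v * (y⁻¹ * t⁻¹) * y * v⁻¹ * y⁻¹ := by group
      _ = (y * t) * v * (t⁻¹ * y⁻¹) * y * v⁻¹ * y⁻¹ := by rw [hyt, e1]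
      _ = _ := by group
  have hw2 : w * w = 1 := by
    calc w * w = y * (v * v) * y⁻¹ := by rw [hw]; group
      _ = 1 := by rw [W.sq r v hv]; group
  obtain ⟨v', hv', hv'w⟩ := W.onto r _ (hyX r _ (W.br r v hv))
  rw [← hbr] at hv'w
  have hct : (v'⁻¹ * w) * t = t * (v'⁻¹ * w) := by
    have h1 : t * v' * t⁻¹ * v'⁻¹ = t * w * t⁻¹ * w⁻¹ := by
      rw [← commutatorElement_def, ← commutatorElement_def]; exact hv'w
    have h2 : t * (v'⁻¹ * w) * t⁻¹ = v'⁻¹ * w := by
      calc t * (v'⁻¹ * w) * t⁻¹ = (t * v' * t⁻¹ * v'⁻¹ * v')⁻¹ * (t * w * t⁻¹ * w⁻¹ * w) := by group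
        _ = (t * w * t⁻¹ * w⁻¹ * v')⁻¹ * (t * w * t⁻¹ * w⁻¹ * w) := by rw [h1]
        _ = _ := by group
    calc (v'⁻¹ * w) * t = t * (v'⁻¹ * w) * t⁻¹ * t := by rw [h2]
      _ = _ := by group
  rcases hc v' hv' hct with h1 | h1
  · have h2 : w = v' * (v'⁻¹ * w) := by group
    rw [h2]
    exact mul_mem hv' (W.le r h1)
  · -- `w = v' t a`
    set a := t * (v'⁻¹ * w) with ha
    have hwa : w = v' * t * a := by
      rw [ha]
      calc w = v' * (v'⁻¹ * w) := by group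
        _ = v' * (t * t) * (v'⁻¹ * w) := by rw [tt]; group
        _ = _ := by group
    have hat : a * t = t * a := by
      calc a * t = t * ((v'⁻¹ * w) * t) := by rw [ha]; group
        _ = t * (t * (v'⁻¹ * w)) := by rw [hct]
        _ = _ := by rw [ha]
    have hav : a * v' = v' * a := comm_of_sq (W.sq r) (W.le r h1) hv'
    have haa : a * a = 1 := W.sq r a (W.le r h1)
    have hvt : v' * t = t * v' := by
      have h3 : v' * t * v' * t = 1 := by
        calc v' * t * v' * t = v' * t * (v' * (a * a)) * t := by rw [haa]; group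
          _ = v' * t * (a * v') * a * t := by rw [hav]; group
          _ = (v' * t * a) * v' * (a * t) := by group
          _ = (v' * t * a) * (v' * t * a) := by rw [hat]; group
          _ = 1 := by rw [← hwa, hw2]
      have hv2 := W.sq r v' hv'
      calc v' * t = v' * t * (v' * v') * (t * t) := by rw [hv2, tt]; group
        _ = v' * t * v' * (v' * t) * t := by group
        _ = v' * t * v' * t * (t * (v' * t)) * t := by
            rw [show v' * t * v' * t * (t * (v' * t)) * t = v' * t * v' * (t * t) * (v' * t) * t by group, tt]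
            group
        _ = t * v' * (t * t) := by rw [h3]; group
        _ = t * v' := by rw [tt, mul_one]
    -- so `w`, hence `v`, commutes with `t`
    have hv'X : v' ∈ X r := W.fix r v' hv' hvt
    have h4 : ⁅t, w⁆ = 1 := by
      rw [← hv'w, commutatorElement_eq_one_iff_mul_comm, hvt]
    have h5 : ⁅t, v⁆ = 1 := by
      have : ⁅t, v⁆ = y⁻¹ * ⁅t, w⁆ * y := by rw [hbr]; group
      rw [this, h4]; group
    have h6 : v * t = t * v := (commutatorElement_eq_one_iff_mul_comm.1 h5).symm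
    exact W.le r (hyX r v (W.fix r v hv h6))

/-- **The doubled root groups are canonical.** -/
theorem conj_V (E : Env t T X n) (W : Grown t T X n V) {y : G} (hyt : y * t = t * y)
    (hyX : ∀ r, ∀ a ∈ X r, y * a * y⁻¹ ∈ X r) (hyX' : ∀ r, ∀ a ∈ X r, y⁻¹ * a * y ∈ X r)
    (hyT : ∀ h ∈ T, y⁻¹ * h * y ∈ T) (r : ZMod 12) {v : G} (hv : v ∈ V r) : y * v * y⁻¹ ∈ V r := by
  have hcc : ∀ {s : ZMod 12}, (∀ a ∈ V r, ∀ b ∈ V s, a * b = b * a) → ∀ v' ∈ V r, ∀ b ∈ X s,
      (v'⁻¹ * (y * v * y⁻¹)) * b = b * (v'⁻¹ * (y * v * y⁻¹)) := by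
    intro s hs v' hv' b hb
    have h1 : v'⁻¹ * b = b * v'⁻¹ := hs _ (inv_mem hv') b (W.le s hb)
    have h2 : y * v * y⁻¹ * b = b * (y * v * y⁻¹) := comm_conj (hs v hv _ (W.le s (hyX' s b hb)))
    calc (v'⁻¹ * (y * v * y⁻¹)) * b = v'⁻¹ * (y * v * y⁻¹ * b) := by group
      _ = v'⁻¹ * (b * (y * v * y⁻¹)) := by rw [h2]
      _ = v'⁻¹ * b * (y * v * y⁻¹) := by group
      _ = b * v'⁻¹ * (y * v * y⁻¹) := by rw [h1]
      _ = _ := by group
  have k0 : ∀ a ∈ V r, ∀ b ∈ V r, a * b = b * a := fun a ha b hb => comm_of_sq (W.sq r) ha hb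
  have k1 : ∀ a ∈ V r, ∀ b ∈ V (r + 1), a * b = b * a := W.c1 r
  have k1' : ∀ a ∈ V r, ∀ b ∈ V (r - 1), a * b = b * a := fun a ha b hb => by
    have := W.c1 (r - 1) b hb a (by rw [sub_add_cancel]; exact ha)
    exact this.symm
  refine aux W E.tt hyt hyX r hv fun v' hv' hct => ?_
  by_cases hr : Ev r
  · have k2 : ∀ a ∈ V r, ∀ b ∈ V (r + 2), a * b = b * a := W.l2 r hr
    have k2' : ∀ a ∈ V r, ∀ b ∈ V (r - 2), a * b = b * a := fun a ha b hb => by
      have hr2 : Ev (r - 2) := by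
        have : ∀ r : ZMod 12, Ev r → Ev (r - 2) := by decide
        exact this r hr
      have := W.l2 (r - 2) hr2 b hb a (by rw [sub_add_cancel]; exact ha)
      exact this.symm
    apply E.cQ1' r hr _ hct
    -- commutes with `QQ X r`
    have hle : QQ X r ≤ Subgroup.centralizer ({v'⁻¹ * (y * v * y⁻¹)} : Set G) := by
      refine sup_le (sup_le (sup_le (sup_le ?_ ?_) ?_) ?_) ?_
      · exact fun b hb => Subgroup.mem_centralizer_singleton_iff.2 (hcc k2' v' hv' b hb).symm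
      · exact fun b hb => Subgroup.mem_centralizer_singleton_iff.2 (hcc k1' v' hv' b hb).symm
      · exact fun b hb => Subgroup.mem_centralizer_singleton_iff.2 (hcc k0 v' hv' b hb).symm
      · exact fun b hb => Subgroup.mem_centralizer_singleton_iff.2 (hcc k1 v' hv' b hb).symm
      · exact fun b hb => Subgroup.mem_centralizer_singleton_iff.2 (hcc k2 v' hv' b hb).symm
    intro a ha
    exact (Subgroup.mem_centralizer_singleton_iff.1 (hle ha)).symm
  · obtain ⟨h, hT, hcen, -, hq, -, -⟩ := E.tod r hr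
    have hh1 : h * (v'⁻¹ * (y * v * y⁻¹)) * h⁻¹ = v'⁻¹ * (y * v * y⁻¹) := by
      have e1 : h * v' * h⁻¹ = v' := W.cen h hT r hcen v' hv'
      have hcen' : Cen (y⁻¹ * h * y) (X r) := by
        intro a ha
        have e2 := hcen _ (hyX r a ha)
        calc y⁻¹ * h * y * a * (y⁻¹ * h * y)⁻¹ = y⁻¹ * (h * (y * a * y⁻¹) * h⁻¹) * y := by group
          _ = y⁻¹ * (y * a * y⁻¹) * y := by rw [e2]
          _ = a := by group
      have e3 := W.cen _ (hyT h hT) r hcen' v hv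
      have e4 : h * (y * v * y⁻¹) * h⁻¹ = y * v * y⁻¹ := by
        calc h * (y * v * y⁻¹) * h⁻¹ = y * ((y⁻¹ * h * y) * v * (y⁻¹ * h * y)⁻¹) * y⁻¹ := by group
          _ = _ := by rw [e3]
      calc h * (v'⁻¹ * (y * v * y⁻¹)) * h⁻¹ = (h * v' * h⁻¹)⁻¹ * (h * (y * v * y⁻¹) * h⁻¹) := by group
        _ = _ := by rw [e1, e4]
    have hcW := E.cW r hr _ hct (fun a ha => hcc k1' v' hv' a ha) (fun a ha => hcc k1 v' hv' a ha) (fun a ha => by
      have : ⁅v'⁻¹ * (y * v * y⁻¹), a⁆ = 1 := by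
        rw [commutatorElement_eq_one_iff_mul_comm]
        exact hcc k0 v' hv' a ha
      rw [this]
      exact one_mem _)
    rcases hcW with h1 | h1
    · exact Or.inl (hq _ h1 hh1)
    · right
      refine hq _ h1 ?_
      have ht := E.tT h hT
      calc h * (t * (v'⁻¹ * (y * v * y⁻¹))) * h⁻¹ = (h * t) * (v'⁻¹ * (y * v * y⁻¹)) * h⁻¹ := by group
        _ = t * (h * (v'⁻¹ * (y * v * y⁻¹)) * h⁻¹) := by rw [ht]; group
        _ = _ := by rw [hh1]

end Cfsg.Agent.WreathFusion.HexCanon
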