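import Mathlib
import Cfsg.Agent.HexGrow.Defs
import Cfsg.Agent.StdRank2.HexTwoRel
import Cfsg.Agent.WreathFusion.HexCanon
import Cfsg.Agent.WreathFusion.Closing

/-!
# The grown hexagonal 2-group satisfies the hypotheses of `Closing.End`

All `q` (including `³D₄(2)`).
-/

set_option autoImplicit false

namespace Cfsg.Agent.WreathFusion.HexEnd

open Subgroup Cfsg.Agent.HexGrow.Defs Cfsg.Agent.StdRank2.Hex
open scoped commutatorElement

section Grown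

variable {Γ : Type*} [Group Γ] {t : Γ} {H : Subgroup Γ} {X : ZMod 12 → Subgroup Γ} {n : ZMod 12 → Γ}
  {V : ZMod 12 → Subgroup Γ}

theorem UU_mono (W : Grown t H X n V) (r : ZMod 12) : UU X r ≤ UU V r :=
  sup_le_sup (sup_le_sup (sup_le_sup (sup_le_sup (sup_le_sup (W.le _) (W.le _)) (W.le _)) (W.le _)) (W.le _)) (W.le _)

theorem le_UU1 (Y : ZMod 12 → Subgroup Γ) (r : ZMod 12) (hr : r = 1 ∨ r = 2 ∨ r = 3 ∨ r = 4 ∨ r = 5 ∨ r = 6) :
    Y r ≤ UU Y 1 := by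
  rcases hr with rfl | rfl | rfl | rfl | rfl | rfl
  · exact le_sup_left.trans (le_sup_left.trans (le_sup_left.trans (le_sup_left.trans le_sup_left)))
  · exact (show Y 2 ≤ Y 1 ⊔ Y (1 + 1) from le_sup_right).trans
      (le_sup_left.trans (le_sup_left.trans (le_sup_left.trans le_sup_left)))
  · exact (show Y 3 ≤ Y 1 ⊔ Y (1 + 1) ⊔ Y (1 + 2) from le_sup_right).trans
      (le_sup_left.trans (le_sup_left.trans le_sup_left))
  · exact (show Y 4 ≤ Y 1 ⊔ Y (1 + 1) ⊔ Y (1 + 2) ⊔ Y (1 + 3) from le_sup_right).trans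
      (le_sup_left.trans le_sup_left)
  · exact (show Y 5 ≤ Y 1 ⊔ Y (1 + 1) ⊔ Y (1 + 2) ⊔ Y (1 + 3) ⊔ Y (1 + 4) from le_sup_right).trans le_sup_left
  · exact (show Y 6 ≤ UU Y 1 from le_sup_right)

theorem UU1_le {Y : ZMod 12 → Subgroup Γ} {Z : Subgroup Γ}
    (h : ∀ r : ZMod 12, (r = 1 ∨ r = 2 ∨ r = 3 ∨ r = 4 ∨ r = 5 ∨ r = 6) → Y r ≤ Z) : UU Y 1 ≤ Z := by
  refine sup_le (sup_le (sup_le (sup_le (sup_le (h 1 (by simp)) ?_) ?_) ?_) ?_) ?_
  · exact h (1 + 1) (Or.inr (Or.inl rfl))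
  · exact h (1 + 2) (Or.inr (Or.inr (Or.inl rfl)))
  · exact h (1 + 3) (Or.inr (Or.inr (Or.inr (Or.inl rfl))))
  · exact h (1 + 4) (Or.inr (Or.inr (Or.inr (Or.inr (Or.inl rfl)))))
  · exact h (1 + 5) (Or.inr (Or.inr (Or.inr (Or.inr (Or.inr rfl)))))

theorem twoV [Finite Γ] (W : Grown t H X n V) (r : ZMod 12) : ∃ k, Nat.card (V r) = 2 ^ k := by
  have : Fact (Nat.Prime 2) := ⟨Nat.prime_two⟩
  have h1 : IsPGroup 2 (V r) := by
    rintro ⟨y, hy⟩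
    exact ⟨1, Subtype.ext (by
      show y ^ 2 ^ 1 = 1
      rw [pow_one, pow_two]
      exact W.sq r y hy)⟩
  exact IsPGroup.iff_card.1 h1

theorem twoUU [Finite Γ] (W : Grown t H X n V) : IsPGroup 2 (UU V 1) := by
  have hm : ∀ (p : V 1 × V (1 + 1) × V (1 + 2) × V (1 + 3) × V (1 + 4) × V (1 + 5)),
      (p.1 : Γ) * p.2.1 * p.2.2.1 * p.2.2.2.1 * p.2.2.2.2.1 * p.2.2.2.2.2 ∈ UU V 1 := by
    rintro ⟨a, b, c, d, e, f⟩
    exact mul_mem (mul_mem (mul_mem (mul_mem (mul_mem (le_UU1 V 1 (by simp) a.2) (le_UU1 V 2 (by simp) b.2))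
      (le_UU1 V 3 (by simp) c.2)) (le_UU1 V 4 (by simp) d.2)) (le_UU1 V 5 (by simp) e.2)) (le_UU1 V 6 (by simp) f.2)
  let F : V 1 × V (1 + 1) × V (1 + 2) × V (1 + 3) × V (1 + 4) × V (1 + 5) → UU V 1 := fun p => ⟨_, hm p⟩
  have hF : Function.Bijective F := by
    constructor
    · rintro ⟨a, b, c, d, e, f⟩ ⟨a', b', c', d', e', f'⟩ h
      have h1 := congrArg Subtype.val h
      obtain ⟨q1, q2, q3, q4, q5, q6⟩ := W.nf 1 a a.2 b b.2 c c.2 d d.2 e e.2 f f.2 a' a'.2 b' b'.2 c' c'.2 d' d'.2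
        e' e'.2 f' f'.2 h1
      rw [Subtype.ext q1, Subtype.ext q2, Subtype.ext q3, Subtype.ext q4, Subtype.ext q5, Subtype.ext q6]
    · rintro ⟨g, hg⟩
      obtain ⟨a, ha, b, hb, c, hc, d, hd, e, he, f, hf, rfl⟩ := W.mem 1 g hg
      exact ⟨⟨⟨a, ha⟩, ⟨b, hb⟩, ⟨c, hc⟩, ⟨d, hd⟩, ⟨e, he⟩, ⟨f, hf⟩⟩, rfl⟩
  obtain ⟨k1, e1⟩ := twoV W 1
  obtain ⟨k2, e2⟩ := twoV W (1 + 1)
  obtain ⟨k3, e3⟩ := twoV W (1 + 2)
  obtain ⟨k4, e4⟩ := twoV W (1 + 3)
  obtain ⟨k5, e5⟩ := twoV W (1 + 4)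
  obtain ⟨k6, e6⟩ := twoV W (1 + 5)
  apply IsPGroup.of_card (n := k1 + k2 + k3 + k4 + k5 + k6)
  rw [← Nat.card_congr (Equiv.ofBijective F hF), Nat.card_prod, Nat.card_prod, Nat.card_prod, Nat.card_prod,
    Nat.card_prod, e1, e2, e3, e4, e5, e6]
  simp only [pow_add, mul_assoc]

/-- `V 4` is central in the grown group. -/
theorem V4_comm (W : Grown t H X n V) {v s : Γ} (hv : v ∈ V 4) (hs : s ∈ UU V 1) : v * s = s * v := by
  have hle : UU V 1 ≤ centralizer ({v} : Set Γ) := by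
    apply UU1_le
    intro r hr s hs
    rw [mem_centralizer_singleton_iff]
    rcases hr with rfl | rfl | rfl | rfl | rfl | rfl
    · exact W.c3 1 s hs v hv
    · exact W.l2 2 (by decide) s hs v hv
    · exact W.c1 3 s hs v hv
    · exact HexCanon.comm_of_sq (W.sq 4) hs hv
    · exact (W.c1 4 v hv s hs).symm
    · exact (W.l2 4 (by decide) v hv s hs).symm
  exact (mem_centralizer_singleton_iff.1 (hle hs)).symm

end Grown

section Main

variable {E : Type*} [Field E] {σ : E ≃+* E} {Γ : Type*} [Group Γ] {x : ZMod 12 → E → Γ} (h : HexTwo σ x)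
  {t : Γ} {H : Subgroup Γ} {X : ZMod 12 → Subgroup Γ} {n : ZMod 12 → Γ} {V : ZMod 12 → Subgroup Γ}
  (W : Grown t H X n V) (hX : ∀ r g, g ∈ X r ↔ ∃ a, Ok σ r a ∧ g = x r a)

include h W hX

theorem V4_le (htx : ∀ a ∈ X 2, a * t = t * a) : V 4 ≤ ⁅UU X 1, UU V 1⁆ := by
  have ht2 : x 2 1 ∈ X 2 := (hX 2 _).2 ⟨1, ok_one σ 2, rfl⟩
  have hc2 : x 2 1 ∈ UU X 1 := le_UU1 X 2 (by simp) ht2
  have hx2t := htx _ ht2
  intro v hv
  obtain ⟨u, hu, hvu⟩ := (hX 4 _).1 (W.br 4 v hv)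
  have hu' : σ u = u := hu (by decide)
  obtain ⟨y, hy, hyu⟩ := W.onto 6 (x 6 u) ((hX 6 _).2 ⟨u, ok_of_fix 6 hu', rfl⟩)
  have hx6 : x 6 u ∈ V 6 := W.le 6 ((hX 6 _).2 ⟨u, ok_of_fix 6 hu', rfl⟩)
  have hd : ⁅x 2 1, y⁆ ∈ V 4 := W.l4 2 (by decide) _ (W.le 2 ht2) y hy
  have hyU : y ∈ UU V 1 := le_UU1 V 6 (by simp) hy
  have c26 : ⁅x 2 1, x 6 u⁆ = x 4 u := by
    have := h.commL4 (k := 2) (by decide) (t := 1) (u := u) (map_one σ) hu'
    rw [one_mul] at this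
    exact this
  -- `⁅t, d⁆ = x 4 u`
  have e1 : t * ⁅x 2 1, y⁆ * t⁻¹ = x 4 u * ⁅x 2 1, y⁆ := by
    have e2 : t * x 2 1 * t⁻¹ = x 2 1 := by rw [← hx2t, mul_inv_cancel_right]
    have e3 : t * y * t⁻¹ = x 6 u * y := by
      rw [← hyu, commutatorElement_def]; group
    have e4 : t * ⁅x 2 1, y⁆ * t⁻¹ = ⁅t * x 2 1 * t⁻¹, t * y * t⁻¹⁆ := by
      rw [commutatorElement_def, commutatorElement_def]; group
    rw [e4, e2, e3]
    have e5 : ⁅x 2 1, x 6 u * y⁆ = ⁅x 2 1, x 6 u⁆ * (x 6 u * ⁅x 2 1, y⁆ * (x 6 u)⁻¹) := by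
      rw [commutatorElement_def, commutatorElement_def, commutatorElement_def]; group
    have e6 : x 6 u * ⁅x 2 1, y⁆ = ⁅x 2 1, y⁆ * x 6 u := (W.l2 4 (by decide) _ hd _ hx6).symm
    rw [e5, c26, e6, mul_inv_cancel_right]
  have e2 : t * v * t⁻¹ = x 4 u * v := by
    rw [← hvu, commutatorElement_def]; group
  set d := ⁅x 2 1, y⁆ with hddef
  have hvd : v * d⁻¹ ∈ V 4 := mul_mem hv (inv_mem hd)
  have hx4 : x 4 u ∈ V 4 := W.le 4 ((hX 4 _).2 ⟨u, hu, rfl⟩)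
  have e3 : v * d⁻¹ * t = t * (v * d⁻¹) := by
    have e4 : t * (v * d⁻¹) * t⁻¹ = v * d⁻¹ := by
      calc t * (v * d⁻¹) * t⁻¹ = (t * v * t⁻¹) * (t * d * t⁻¹)⁻¹ := by group
        _ = x 4 u * (v * d⁻¹) * (x 4 u)⁻¹ := by rw [e1, e2]; group
        _ = v * d⁻¹ := by rw [HexCanon.comm_of_sq (W.sq 4) hx4 hvd, mul_inv_cancel_right]
    calc v * d⁻¹ * t = t * (v * d⁻¹) * t⁻¹ * t := by rw [e4]
      _ = _ := by group
  obtain ⟨s, hs, e4⟩ := (hX 4 _).1 (W.fix 4 _ hvd e3)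
  have hs' : σ s = s := hs (by decide)
  have c26' : ⁅x 2 1, x 6 s⁆ = x 4 s := by
    have := h.commL4 (k := 2) (by decide) (t := 1) (u := s) (map_one σ) hs'
    rw [one_mul] at this
    exact this
  have e5 : v = ⁅x 2 1, x 6 s⁆ * d := by
    rw [c26', ← e4]; group
  rw [e5]
  refine mul_mem (commutator_mem_commutator hc2 ?_) (commutator_mem_commutator hc2 hyU)
  exact le_UU1 V 6 (by simp) (W.le 6 ((hX 6 _).2 ⟨s, ok_of_fix 6 hs', rfl⟩))

/-- **The hypotheses of `Closing.End` for the grown hexagonal group.** -/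
theorem end_of_grown [Finite Γ] (tt : t * t = 1) {T : Subgroup Γ} (tT : t ∈ T) (twoT : IsPGroup 2 T)
    (TC : ∀ y ∈ T, y * t = t * y)
    (syl : ∀ Q : Subgroup Γ, IsPGroup 2 Q → (∀ y ∈ Q, y * t = t * y) → T ≤ Q → Q = T)
    (UT : UU X 1 ≤ T) (tnot : t ∉ UU X 1)
    (hfix : ∀ y ∈ T, (∀ a ∈ UU X 1, y * a = a * y) → y ∈ X 4 ∨ t * y ∈ X 4)
    (hn : ∀ y ∈ T, ∀ s ∈ UU V 1, y * s * y⁻¹ ∈ UU V 1) (hn4 : ∀ y ∈ T, ∀ s ∈ V 4, y * s * y⁻¹ ∈ V 4)
    (hinv : ∀ y ∈ T, y * y ∈ UU X 1 → y ∈ UU X 1 ∨ t * y ∈ UU X 1)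
    (hab : ∀ y ∈ T, ∀ z ∈ T, ⁅y, z⁆ ∈ UU X 1) :
    Closing.End t T (UU X 1) (UU V 1) (V 4) (X 4) := by
  -- `V 4` does not centralise `t`
  have hV4 : ¬ ∀ v ∈ V 4, v * t = t * v := by
    intro hc
    obtain ⟨v, hv, e⟩ := W.onto 4 (x 4 1) ((hX 4 _).2 ⟨1, ok_one σ 4, rfl⟩)
    have h1 : ⁅t, v⁆ = 1 := commutatorElement_eq_one_iff_mul_comm.2 (hc v hv).symm
    rw [h1] at e
    exact one_ne_zero (h.inj 4 1 (ok_one σ 4) e.symm)
  exact
  { tt := tt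
    tT := tT
    twoS := twoUU W
    twoT := twoT
    TC := TC
    syl := syl
    norm := hn
    US := UU_mono W 1
    UT := UT
    cent := fun s hs hst => W.cent 1 s hs hst
    tS := fun hts => tnot (W.cent 1 t hts rfl)
    good := fun s hs hts => W.good 1 s hs hts
    inv := hinv
    ab := hab
    VS := le_UU1 V 4 (by simp)
    Vc := fun v hv s hs => V4_comm W hv hs
    Vn := hn4
    gen := by
      apply UU1_le
      intro r hr a ha
      obtain ⟨y, hy, e⟩ := W.onto r a ha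
      exact subset_closure ⟨y, le_UU1 V r hr hy, e.symm⟩
    VU := V4_le h W hX fun a ha => TC a (UT (le_UU1 X 2 (by simp) ha))
    fix := by
      intro y hy hyU hyV
      rcases hfix y hy hyU with h1 | h1
      · exact h1
      · exfalso
        apply hV4
        intro v hv
        have h2 : (t * y) * v = v * (t * y) := HexCanon.comm_of_sq (W.sq 4) (W.le 4 h1) hv
        have h3 := hyV v hv
        have h4 : t * v * y = v * t * y := by
          calc t * v * y = t * (v * y) := by group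
            _ = t * (y * v) := by rw [h3]
            _ = t * y * v := by group
            _ = v * (t * y) := h2
            _ = v * t * y := by group
        exact (mul_right_cancel h4).symm
    lt := by
      by_contra hcon
      push Not at hcon
      have h1 : X 4 = V 4 := Subgroup.eq_of_le_of_card_ge (W.le 4) hcon
      apply hV4
      intro v hv
      rw [← h1] at hv
      exact TC v (UT (le_UU1 X 4 (by simp) hv)) }

end Main

end Cfsg.Agent.WreathFusion.HexEnd
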