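import Mathlib

/-!
# Automorphisms of a quadratic extension, characteristic 2 (arithmetic)
-/

set_option autoImplicit false

namespace Cfsg.Agent.WreathFusion.WpField

section Wp

variable {F : Type*} [Field F]

/-- elements of `Fix ρ` are of the form `c² + c` in `F`, if `ρ ≠ 1` has order 2 -/
theorem wp_surj [Finite F] (h2 : (2 : F) = 0) {ρ : F ≃+* F} {e : F} (he : ρ e = e + 1) {b : F} (hb : ρ b = b) :
    ∃ c : F, c * c + c = b := by
  -- the fixed elements
  let F0 : AddSubgroup F :=
    { carrier := {a | ρ a = a}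
      zero_mem' := map_zero ρ
      add_mem' := fun {a b} ha hb => by
        change ρ (a + b) = a + b
        rw [map_add, show ρ a = a from ha, show ρ b = b from hb]
      neg_mem' := fun {a} ha => by
        change ρ (-a) = -a
        rw [map_neg, show ρ a = a from ha] }
  have m0 : ∀ {a : F}, a ∈ F0 ↔ ρ a = a := Iff.rfl
  let p : F0 →+ F0 :=
    { toFun := fun a => ⟨(a : F) * a + a, by
        rw [m0, map_add, map_mul, m0.1 a.2]⟩
      map_zero' := by
        apply Subtype.ext
        show (0 : F) * 0 + 0 = 0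
        ring
      map_add' := fun a b => by
        apply Subtype.ext
        show ((a : F) + b) * (a + b) + (a + b) = (a * a + a) + (b * b + b)
        linear_combination ((a : F) * b) * h2 }
  have p1 : ∀ a : F0, ((p a : F0) : F) = (a : F) * a + a := fun a => rfl
  have h1 : (1 : F) ∈ F0 := m0.2 (map_one ρ)
  have hker : Nat.card p.ker = 2 := by
    rw [Nat.card_eq_two_iff]
    refine ⟨⟨0, by rw [AddMonoidHom.mem_ker, map_zero]⟩, ⟨⟨1, h1⟩, ?_⟩, ?_, ?_⟩
    · rw [AddMonoidHom.mem_ker]
      apply Subtype.ext
      rw [p1]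
      show (1 : F) * 1 + 1 = 0
      linear_combination h2
    · intro h
      have := congrArg (fun a : p.ker => ((a : F0) : F)) h
      exact zero_ne_one this
    · ext ⟨⟨a, ha⟩, hk⟩
      simp only [Set.mem_insert_iff, Set.mem_singleton_iff, Set.mem_univ, iff_true]
      have hk' := congrArg Subtype.val ((AddMonoidHom.mem_ker).1 hk)
      have hk2 : a * a + a = 0 := hk'
      have hk3 : a * (a + 1) = 0 := by linear_combination hk2
      rcases mul_eq_zero.1 hk3 with h | h
      · left
        exact Subtype.ext (Subtype.ext h)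
      · right
        refine Subtype.ext (Subtype.ext ?_)
        show a = 1
        linear_combination h - h2
  have hidx : p.range.index = 2 := by
    have e1 : Nat.card p.ker * Nat.card p.range = Nat.card F0 := by
      have := p.ker.card_mul_index
      rw [AddSubgroup.index_ker] at this
      exact this
    have e2 := p.range.card_mul_index
    rw [← e1, hker, mul_comm 2] at e2
    exact Nat.eq_of_mul_eq_mul_left Nat.card_pos e2
  have he' : ρ (e * e + e) = e * e + e := by
    rw [map_add, map_mul, he]
    linear_combination (e + 1) * h2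
  have hg : (⟨e * e + e, he'⟩ : F0) ∉ p.range := by
    rintro ⟨⟨c, hc⟩, h⟩
    have h3 : c * c + c = e * e + e := congrArg Subtype.val h
    have h4 : (c + e) * (c + e + 1) = 0 := by
      linear_combination h3 + (c * e + e * e + e) * h2
    have hce : ρ e = e := by
      rcases mul_eq_zero.1 h4 with h | h
      · have : e = c := by linear_combination h - c * h2
        rw [this]; exact hc
      · have : e = c + 1 := by linear_combination h - (c + 1) * h2
        rw [this, map_add, map_one, m0.1 hc]
    rw [he] at hce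
    exact one_ne_zero (left_eq_add.1 hce.symm)
  by_cases hb' : (⟨b, hb⟩ : F0) ∈ p.range
  · obtain ⟨⟨c, hc⟩, h⟩ := hb'
    exact ⟨c, congrArg Subtype.val h⟩
  · have h5 : (⟨e * e + e, he'⟩ : F0) + ⟨b, hb⟩ ∈ p.range :=
      (AddSubgroup.add_mem_iff_of_index_two hidx).2 (iff_of_false hg hb')
    obtain ⟨⟨c, hc⟩, h⟩ := h5
    have h6 : c * c + c = e * e + e + b := congrArg Subtype.val h
    exact ⟨c + e, by linear_combination h6 + (c * e + e * e + e) * h2⟩

/-- an automorphism of order `≤ 2` different from `1` moves some `e` to `e + 1` -/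
theorem exists_move (h2 : (2 : F) = 0) {ρ : F ≃+* F} (hρ : ∀ a, ρ (ρ a) = a) {a : F} (ha : ρ a ≠ a) :
    ∃ e : F, ρ e = e + 1 := by
  have h0 : a + ρ a ≠ 0 := by
    intro h
    apply ha
    linear_combination h - a * h2
  have h1 : ρ a + a ≠ 0 := by rwa [add_comm]
  refine ⟨a / (a + ρ a), ?_⟩
  rw [map_div₀, map_add, hρ, div_eq_iff h1, add_mul, div_mul_eq_mul_div, one_mul, add_comm (ρ a) a,
    mul_div_assoc, div_self h0, mul_one]
  linear_combination (-a) * h2

/-- **The automorphism of the quadratic extension is trivial on `F`.** -/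
theorem field_part [Finite F] (h2 : (2 : F) = 0) {ρ : F ≃+* F} (hρ : ∀ a, ρ (ρ a) = a) {β d : F}
    (hβ : ρ β + d = d * d + β) (hd : ρ d = d) (hno : ¬ ∃ c : F, c * c + c = β) : ∀ a, ρ a = a := by
  by_contra hcon
  push Not at hcon
  obtain ⟨a, ha⟩ := hcon
  obtain ⟨e, he⟩ := exists_move h2 hρ ha
  -- `c₁ = d e`
  have hfix : ρ (β + (d * e) * (d * e) + d * e) = β + (d * e) * (d * e) + d * e := by
    rw [map_add, map_add, map_mul, map_mul, hd, he]
    linear_combination hβ + (d * d * e + d * d) * h2
  obtain ⟨c, hc⟩ := wp_surj h2 he hfix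
  exact hno ⟨c + d * e, by linear_combination hc + (c * (d * e) + (d * e) * (d * e) + d * e) * h2⟩

end Wp

section Cubic

variable {K : Type*} [Field K]

/-- an automorphism of order `≤ 2` commuting with `φ` (`φ³ = 1`), trivial on `Fix φ`, is trivial -/
theorem cubic_part (h2 : (2 : K) = 0) {φ ρ : K ≃+* K} (h3 : ∀ a, φ (φ (φ a)) = a) (hρ : ∀ a, ρ (ρ a) = a)
    (hρφ : ∀ a, ρ (φ a) = φ (ρ a)) (hF : ∀ a, φ a = a → ρ a = a) : ∀ a, ρ a = a := by
  by_contra hcon
  push Not at hcon
  obtain ⟨a, ha⟩ := hcon
  obtain ⟨e, he⟩ := exists_move h2 hρ ha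
  have h1 : φ (e + φ e + φ (φ e)) = e + φ e + φ (φ e) := by
    rw [map_add, map_add, h3]; ring
  have h4 := hF _ h1
  rw [map_add, map_add, hρφ, hρφ, hρφ, he, map_add, map_add, map_one, map_one] at h4
  apply one_ne_zero (α := K)
  linear_combination h4 - h2

end Cubic

end Cfsg.Agent.WreathFusion.WpField
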