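import Mathlib
import Cfsg.Agent.HexEight.Glue
import Cfsg.Agent.WreathFusion.WpField
import Cfsg.Agent.WreathFusion.HexEnd

/-!
# The field case: pure elements of `T` whose square lies in `U` are trivial

`pure_trivial`: in the field case of the growth, an element `y` of `C(t)` acting on the root groups as a field
automorphism `ρ`, with `y² ∈ U`, acts trivially.
-/

set_option autoImplicit false
set_option linter.unusedSectionVars false

namespace Cfsg.Agent.WreathFusion.HexField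

open Cfsg.Agent.StdRank2.Hex Cfsg.Agent.SplitTwo Cfsg.Agent.StdRank2.Hex.HexTwo Cfsg.Agent.HexEight.Def
open Cfsg.Agent.HexEight.Lab Cfsg.Agent.HexEight.ToPos Cfsg.Agent.HexEight.SplitA
open Cfsg.Agent.HexRing.Def Cfsg.Agent.HexRec Cfsg.Agent.Hex.Defs
open scoped commutatorElement

section First

variable {E : Type*} [Field E] {σ : E ≃+* E} {G : Type*} [Group G] {x : ZMod 12 → E → G} (h : HexTwo σ x)

include h

/-- elements of `U` act trivially on the first coordinate -/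
theorem conj_first' {u : G} (hu : u ∈ gen σ x (arc 1 6)) (a : E) :
    ∃ v ∈ gen σ x (arc (1 + 1) 5), u * x 1 a * u⁻¹ = x 1 a * v := by
  obtain ⟨b, hb, w, hw, rfl⟩ := (h.mem_gen_first (k := 1) (n := 5) le_rfl).1 hu
  have hinv : ∀ c : E, (x 1 c)⁻¹ = x 1 c := fun c => inv_eq_of_mul_eq_one_left (h.x_sq (ok1 c))
  have h1 : x 1 a * w * (x 1 a)⁻¹ ∈ gen σ x (arc (1 + 1) 5) := h.conj_first le_rfl (ok1 a) hw
  rw [hinv] at h1
  have h2 : x 1 a * w * x 1 a * w⁻¹ ∈ gen σ x (arc (1 + 1) 5) := mul_mem h1 (inv_mem hw)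
  have h3 := h.conj_first (k := 1) le_rfl (ok1 b) h2
  refine ⟨_, h3, ?_⟩
  have e1 : x 1 b * x 1 a = x 1 a * x 1 b := by
    rw [← h.add 1 b a (ok1 b) (ok1 a), ← h.add 1 a b (ok1 a) (ok1 b), add_comm]
  have e2 : x 1 a * x 1 a = 1 := h.x_sq (ok1 a)
  calc x 1 b * w * x 1 a * (x 1 b * w)⁻¹ = x 1 b * 1 * w * x 1 a * w⁻¹ * (x 1 b)⁻¹ := by group
    _ = x 1 b * (x 1 a * x 1 a) * w * x 1 a * w⁻¹ * (x 1 b)⁻¹ := by rw [e2]
    _ = (x 1 b * x 1 a) * (x 1 a * w * x 1 a * w⁻¹) * (x 1 b)⁻¹ := by group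
    _ = _ := by rw [e1]; group

theorem conj_conj {y : G} {ρ : E ≃+* E} (hok : ∀ k a, Ok σ k a → Ok σ k (ρ a))
    (hρ : ∀ k a, Ok σ k a → y * x k a * y⁻¹ = x k (ρ a)) (k : ZMod 12) {a : E} (ha : Ok σ k a) :
    (y * y) * x k a * (y * y)⁻¹ = x k (ρ (ρ a)) := by
  rw [← hρ k (ρ a) (hok k a ha), ← hρ k a ha]
  group

/-- `y² ∈ U` ⟹ `ρ² = 1` -/
theorem rho_sq {y : G} {ρ : E ≃+* E} (hok : ∀ k a, Ok σ k a → Ok σ k (ρ a))
    (hρ : ∀ k a, Ok σ k a → y * x k a * y⁻¹ = x k (ρ a)) (hy : y * y ∈ gen σ x (arc 1 6)) (a : E) :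
    ρ (ρ a) = a := by
  obtain ⟨v, hv, e⟩ := conj_first' h hy a
  rw [conj_conj h hok hρ 1 (ok1 a)] at e
  exact (h.uniq_first (k := 1) (n := 5) le_rfl (ok1 _) (ok1 a) (one_mem _) hv (by rw [mul_one]; exact e)).1

end First

section Ring

variable {G : Type*} [Group G] {t : G} {V : ZMod 12 → Subgroup G}
  {F K : Type*} [Field F] [Field K] [Algebra F K] {φ : K ≃ₐ[F] K} {hφ : CubicPair φ} [Finite K]
  {x z : ZMod 12 → K → G} {g : Gr (φ : K ≃+* K) x t V} {L : Lab (φ : K ≃+* K) x t V z} {β : F} {c : K}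

theorem V4_comm (g : Gr (φ : K ≃+* K) x t V) {v u : G} (hv : v ∈ V 4) (hu : u ∈ gen (φ : K ≃+* K) x (arc 1 6)) :
    v * u = u * v := by
  have hle : gen (φ : K ≃+* K) x (arc 1 6) ≤ Subgroup.centralizer ({v} : Set G) := by
    refine gen_le fun k hk a ha => ?_
    rw [Subgroup.mem_centralizer_singleton_iff]
    have hx := g.le k a ha
    rw [mem_arc, set_pos] at hk
    rcases hk with rfl | rfl | rfl | rfl | rfl | rfl
    · exact g.c3 1 _ hx v hv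
    · exact g.l2 2 (by decide) _ hx v hv
    · exact g.c1 3 _ hx v hv
    · exact comm_V g hx hv
    · exact (g.c1 4 v hv _ hx).symm
    · exact (g.l2 4 (by decide) v hv _ hx).symm
  exact (Subgroup.mem_centralizer_singleton_iff.1 (hle hu)).symm

/-- the long labels -/
def Z (x z : ZMod 12 → K → G) (k : ZMod 12) (m : RQ β) : G :=
  Y x z k (algebraMap F K (m.re + 0 * m.im)) (algebraMap F K m.im)

theorem Z_eq (k : ZMod 12) (a b : F) : Z x z k (⟨a, b⟩ : RQ β) = Y x z k (algebraMap F K a) (algebraMap F K b) := by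
  unfold Z
  simp only [zero_mul, add_zero]

theorem Z_mul (g : Gr (φ : K ≃+* K) x t V) (L : Lab (φ : K ≃+* K) x t V z) (k : ZMod 12) (a b a' b' : F) :
    Z x z k (⟨a + a', b + b'⟩ : RQ β) = Z x z k (⟨a, b⟩ : RQ β) * Z x z k (⟨a', b'⟩ : RQ β) := by
  rw [Z_eq, Z_eq, Z_eq, map_add, map_add]
  exact Y_add g L (okF _ _) (okF _ _) (okF _ _) (okF _ _)

theorem Z_inj (g : Gr (φ : K ≃+* K) x t V) (L : Lab (φ : K ≃+* K) x t V z) (k : ZMod 12) {a b a' b' : F} (e : Z x z k (⟨a, b⟩ : RQ β) = Z x z k (⟨a', b'⟩ : RQ β)) :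
    a = a' ∧ b = b' := by
  rw [Z_eq, Z_eq] at e
  obtain ⟨h1, h2⟩ := Y_inj g L (okF _ _) (okF _ _) (okF _ _) (okF _ _) e
  exact ⟨(algebraMap F K).injective h1, (algebraMap F K).injective h2⟩

/-- **The long relation.** -/
theorem r62 (hQ : QR hφ g L β c) (b s : RQ β) : Z x z 6 b * Z x z 2 s = Z x z 2 s * (Z x z 4 (b * s) * Z x z 6 b) :=
  hQ.r62 b s

/-- conjugation of the long relation -/
theorem r62_conj (hQ : QR hφ g L β c) {y : G} {b s b' s' : RQ β} (h6 : y * Z x z 6 b * y⁻¹ = Z x z 6 b')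
    (h2 : y * Z x z 2 s * y⁻¹ = Z x z 2 s') : y * Z x z 4 (b * s) * y⁻¹ = Z x z 4 (b' * s') := by
  have e1 : Z x z 4 (b * s) = (Z x z 2 s)⁻¹ * Z x z 6 b * Z x z 2 s * (Z x z 6 b)⁻¹ := by
    have := r62 hQ b s
    calc Z x z 4 (b * s) = (Z x z 2 s)⁻¹ * (Z x z 2 s * (Z x z 4 (b * s) * Z x z 6 b)) * (Z x z 6 b)⁻¹ := by group
      _ = _ := by rw [← this]; group
  have e2 : Z x z 4 (b' * s') = (Z x z 2 s')⁻¹ * Z x z 6 b' * Z x z 2 s' * (Z x z 6 b')⁻¹ := by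
    have := r62 hQ b' s'
    calc Z x z 4 (b' * s') = (Z x z 2 s')⁻¹ * (Z x z 2 s' * (Z x z 4 (b' * s') * Z x z 6 b')) * (Z x z 6 b')⁻¹ := by
          group
      _ = _ := by rw [← this]; group
  rw [e2, e1, ← h6, ← h2]
  group

/-- the restriction to `F` of an automorphism commuting with `φ` -/
theorem exists_restrict (hφ : CubicPair φ) {ρ : K ≃+* K} (hρφ : ∀ a, ρ (φ a) = φ (ρ a)) :
    ∃ ρF : F ≃+* F, ∀ a, algebraMap F K (ρF a) = ρ (algebraMap F K a) := by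
  have : Finite F := Finite.of_injective (algebraMap F K) (algebraMap F K).injective
  have h1 : ∀ a : F, ∃ b : F, algebraMap F K b = ρ (algebraMap F K a) := fun a =>
    hφ.fixed _ (by rw [← hρφ, φ.commutes])
  choose f hf using h1
  have inj := (algebraMap F K).injective
  let fh : F →+* F :=
    { toFun := f
      map_one' := inj (by rw [hf, map_one, map_one])
      map_zero' := inj (by rw [hf, map_zero, map_zero])
      map_add' := fun a b => inj (by rw [hf, map_add, map_add, map_add, hf, hf])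
      map_mul' := fun a b => inj (by rw [hf, map_mul, map_mul, map_mul, hf, hf]) }
  exact ⟨RingEquiv.ofBijective fh (Finite.injective_iff_bijective.1 fh.injective), hf⟩

/-- **`ρ = 1` on `F`.** -/
theorem trivial_F (hQ : QR hφ g L β c) (hno : ¬ ∃ c0 : F, c0 * c0 + c0 = β) {y : G} (hyt : y * t = t * y)
    {ρ : K ≃+* K} (hρφ : ∀ a, ρ (φ a) = φ (ρ a))
    (hρ : ∀ k a, Ok (φ : K ≃+* K) k a → y * x k a * y⁻¹ = x k (ρ a)) (hV : ∀ k, ∀ v ∈ V k, y * v * y⁻¹ ∈ V k)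
    (hy : y * y ∈ gen (φ : K ≃+* K) x (arc 1 6)) (a : K) (ha : φ a = a) : ρ a = a := by
  have : Finite F := Finite.of_injective (algebraMap F K) (algebraMap F K).injective
  obtain ⟨ρF, hF⟩ := exists_restrict hφ hρφ
  have inj := (algebraMap F K).injective
  have hok : ∀ k a, Ok (φ : K ≃+* K) k a → Ok (φ : K ≃+* K) k (ρ a) := fun k a ha h0 => by
    change φ (ρ a) = ρ a
    rw [← hρφ]
    exact congrArg ρ (ha h0)
  have hsq := rho_sq g.hex hok hρ hy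
  have hsqF : ∀ a, ρF (ρF a) = a := fun a => inj (by rw [hF, hF, hsq])
  have h2F : (2 : F) = 0 := inj (by rw [map_ofNat, map_zero]; exact hφ.two)
  -- the images of `Z k ⟨a, 0⟩` and `Z k ⟨0, 1⟩`
  have z0 : ∀ (k : ZMod 12) (a : F), Z x z k (⟨a, 0⟩ : RQ β) = x k (algebraMap F K a) := fun k a => by
    rw [Z_eq, map_zero, Y_zero_right g L]
  have c0 : ∀ (k : ZMod 12) (a : F), y * Z x z k (⟨a, 0⟩ : RQ β) * y⁻¹ = Z x z k (⟨ρF a, 0⟩ : RQ β) := fun k a => by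
    rw [z0, z0, hρ k _ (okF k a), hF]
  have c1 : ∀ (k : ZMod 12), k.val % 2 = 0 → ∃ d : F, y * Z x z k (⟨0, 1⟩ : RQ β) * y⁻¹ = Z x z k (⟨d, 1⟩ : RQ β) := by
    intro k hk
    have hm : Z x z k (⟨0, 1⟩ : RQ β) ∈ V k := by
      rw [Z_eq]; exact Y_mem g L (okF _ _) (okF _ _)
    obtain ⟨p, q, hp, hq, e⟩ := Y_surj g L (hV k _ hm)
    obtain ⟨p', rfl⟩ := exists_F hφ (hp hk)
    obtain ⟨q', rfl⟩ := exists_F hφ (hq hk)
    have hbr : ⁅t, Z x z k (⟨0, 1⟩ : RQ β)⁆ = x k 1 := by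
      rw [Z_eq, map_one]
      exact Y_br g L (okF _ _) (ok_one _ k)
    have hbr2 : ⁅t, y * Z x z k (⟨0, 1⟩ : RQ β) * y⁻¹⁆ = x k 1 := by
      have e1 : y⁻¹ * t * y = t := by rw [mul_assoc, ← hyt]; group
      have e2 : ⁅t, y * Z x z k (⟨0, 1⟩ : RQ β) * y⁻¹⁆ = y * ⁅y⁻¹ * t * y, Z x z k (⟨0, 1⟩ : RQ β)⁆ * y⁻¹ := by
        rw [commutatorElement_def, commutatorElement_def]; group
      rw [e2, e1, hbr, hρ k 1 (ok_one _ k), map_one]
    rw [e, Y_br g L (okF _ _) (okF _ _), g.hex.x_inj (okF _ _) (ok_one _ k)] at hbr2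
    have hq1 : q' = 1 := inj (by rw [hbr2, map_one])
    refine ⟨p', ?_⟩
    rw [e, hq1, Z_eq]
  obtain ⟨d2, e2⟩ := c1 2 (by decide)
  obtain ⟨d4, e4⟩ := c1 4 (by decide)
  obtain ⟨d6, e6⟩ := c1 6 (by decide)
  have one0 : ∀ k : ZMod 12, y * Z x z k (1 : RQ β) * y⁻¹ = Z x z k (1 : RQ β) := fun k => by
    have := c0 k 1
    rw [map_one] at this
    exact this
  -- `d4 = d2`, `d4 = d6`
  have q1 := r62_conj hQ (one0 6) e2
  rw [one_mul, one_mul, e4] at q1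
  have q1' := (Z_inj g L 4 q1).1
  have q2 := r62_conj hQ e6 (one0 2)
  rw [mul_one, mul_one, e4] at q2
  have q2' := (Z_inj g L 4 q2).1
  subst q1'
  subst q2'
  -- `ω² = β + ω`
  have q3 := r62_conj hQ e6 e2
  have m1 : (⟨0, 1⟩ : RQ β) * ⟨0, 1⟩ = ⟨β + 0, 0 + 1⟩ := by
    ext
    · simp
    · simp
  have m2 : (⟨d4, 1⟩ : RQ β) * ⟨d4, 1⟩ = ⟨d4 * d4 + β, 1⟩ := by
    ext
    · simp
    · simp only [QuadraticAlgebra.im_mul]
      linear_combination d4 * h2F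
  have q4 : y * (Z x z 4 (⟨β, 0⟩ : RQ β) * Z x z 4 (⟨0, 1⟩ : RQ β)) * y⁻¹ =
      Z x z 4 (⟨ρF β + d4, 0 + 1⟩ : RQ β) := by
    rw [Z_mul g L, ← c0, ← e4]
    group
  rw [m1, m2, Z_mul g L, q4] at q3
  have q5 := (Z_inj g L 4 q3).1
  -- `ρ d = d`
  have hcen : (y * y) * Z x z 4 (⟨0, 1⟩ : RQ β) * (y * y)⁻¹ = Z x z 4 (⟨0, 1⟩ : RQ β) := by
    have hm : Z x z 4 (⟨0, 1⟩ : RQ β) ∈ V 4 := by
      rw [Z_eq]; exact Y_mem g L (okF _ _) (okF _ _)
    rw [← V4_comm g hm hy]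
    group
  have q6 : y * (Z x z 4 (⟨d4, 0⟩ : RQ β) * Z x z 4 (⟨0, 1⟩ : RQ β)) * y⁻¹ =
      Z x z 4 (⟨ρF d4 + d4, 0 + 1⟩ : RQ β) := by
    rw [Z_mul g L, ← c0, ← e4]
    group
  have q7 : (y * y) * Z x z 4 (⟨0, 1⟩ : RQ β) * (y * y)⁻¹ = Z x z 4 (⟨ρF d4 + d4, 0 + 1⟩ : RQ β) := by
    rw [← q6, ← Z_mul g L, add_zero, zero_add, ← e4]
    group
  rw [hcen] at q7
  have q8 := (Z_inj g L 4 q7).1
  have q9 : ρF d4 = d4 := by linear_combination -q8 - d4 * h2F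
  have hfin := WpField.field_part h2F hsqF q5 q9 hno
  obtain ⟨a', rfl⟩ := hφ.fixed a ha
  rw [← hF, hfin]

/-- **Pure elements with square in `U` are trivial.** -/
theorem pure_trivial (hQ : QR hφ g L β c) (hno : ¬ ∃ c0 : F, c0 * c0 + c0 = β) {y : G} (hyt : y * t = t * y)
    {ρ : K ≃+* K} (hρφ : ∀ a, ρ (φ a) = φ (ρ a))
    (hρ : ∀ k a, Ok (φ : K ≃+* K) k a → y * x k a * y⁻¹ = x k (ρ a)) (hV : ∀ k, ∀ v ∈ V k, y * v * y⁻¹ ∈ V k)
    (hy : y * y ∈ gen (φ : K ≃+* K) x (arc 1 6)) (a : K) : ρ a = a := by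
  have hok : ∀ k a, Ok (φ : K ≃+* K) k a → Ok (φ : K ≃+* K) k (ρ a) := fun k a ha h0 => by
    change φ (ρ a) = ρ a
    rw [← hρφ]
    exact congrArg ρ (ha h0)
  exact WpField.cubic_part (φ := (φ : K ≃+* K)) hφ.two hφ.three (rho_sq g.hex hok hρ hy) hρφ
    (trivial_F hQ hno hyt hρφ hρ hV hy) a

end Ring

end Cfsg.Agent.WreathFusion.HexField
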