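import Mathlib
import Cfsg.Agent.HexGrow.OfHexTwo
import Cfsg.Agent.WreathFusion.HexField

/-!
# Pure elements, and the end of the field case

`Pure σ x y ρ`: `y` acts on the hexagonal root groups as the field automorphism `ρ`.  `comm_of_pure`: pure elements of
`C(t)` commute (`C(A) ∩ C(t) = ⟨t⟩`).  `end_field`: the hypotheses of `Closing.End` in the field case of the growth.
-/

set_option autoImplicit false
set_option linter.unusedSectionVars false

namespace Cfsg.Agent.WreathFusion.HexPure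

open Subgroup Cfsg.Agent.StdRank2.Hex Cfsg.Agent.SplitTwo Cfsg.Agent.StdRank2.Hex.HexTwo
open Cfsg.Agent.HexGrow.Defs Cfsg.Agent.HexGrow.OfHexTwo
open scoped commutatorElement

section Aut

/-- the automorphism group of a finite field is cyclic -/
theorem isCyclic_aut (E : Type*) [Field E] [Finite E] : IsCyclic (E ≃+* E) := by
  obtain ⟨p, hp⟩ := CharP.exists E
  have hpr : Fact p.Prime := ⟨CharP.char_is_prime E p⟩
  let _ : Algebra (ZMod p) E := ZMod.algebra E p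
  let f : Gal(E/ZMod p) →* (E ≃+* E) :=
    { toFun := fun e => e.toRingEquiv
      map_one' := rfl
      map_mul' := fun _ _ => rfl }
  refine isCyclic_of_surjective f fun ρ => ⟨AlgEquiv.ofRingEquiv (f := ρ) fun r => ?_, RingEquiv.ext fun _ => rfl⟩
  have : (ρ : E →+* E).comp (algebraMap (ZMod p) E) = algebraMap (ZMod p) E := Subsingleton.elim _ _
  exact congrArg (fun f : ZMod p →+* E => f r) this

/-- automorphisms of a finite field commute -/
theorem aut_comm {E : Type*} [Field E] [Finite E] (ρ τ : E ≃+* E) (a : E) : ρ (τ a) = τ (ρ a) := by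
  have := isCyclic_aut E
  have h1 : ρ * τ = τ * ρ :=
    ((MonoidHom.id (E ≃+* E)).isMulCommutative_of_isCyclic_of_ker_le_center
      (by rw [MonoidHom.ker_id]; exact bot_le)).is_comm.comm ρ τ
  exact congrArg (fun f : E ≃+* E => f a) h1

end Aut

section Pure

variable {E : Type*} [Field E] [Finite E] {σ : E ≃+* E} {Γ : Type*} [Group Γ] {x : ZMod 12 → E → Γ}

variable (σ x) in
/-- `y` acts on the root groups as the field automorphism `ρ` -/
def Pure (y : Γ) (ρ : E ≃+* E) : Prop := ∀ k a, Ok σ k a → y * x k a * y⁻¹ = x k (ρ a)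

theorem ok_aut {ρ : E ≃+* E} {k : ZMod 12} {a : E} (ha : Ok σ k a) : Ok σ k (ρ a) := fun h0 => by
  rw [← aut_comm ρ σ]
  exact congrArg ρ (ha h0)

theorem Pure.one : Pure σ x (1 : Γ) (RingEquiv.refl E) := fun k a _ => by
  rw [one_mul, inv_one, mul_one]; rfl

theorem Pure.mul {y y' : Γ} {ρ ρ' : E ≃+* E} (h : Pure σ x y ρ) (h' : Pure σ x y' ρ') :
    Pure σ x (y * y') (ρ * ρ') := fun k a ha => by
  have e : y * y' * x k a * (y * y')⁻¹ = y * (y' * x k a * y'⁻¹) * y⁻¹ := by group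
  rw [e, h' k a ha, h k _ (ok_aut ha)]
  rfl

theorem Pure.inv {y : Γ} {ρ : E ≃+* E} (h : Pure σ x y ρ) : Pure σ x y⁻¹ ρ.symm := fun k a ha => by
  have e := h k (ρ.symm a) (ok_aut ha)
  rw [RingEquiv.apply_symm_apply] at e
  rw [← e]
  group

theorem Pure.mem_gen {y : Γ} {ρ : E ≃+* E} (h : Pure σ x y ρ) (S : Set (ZMod 12)) {g : Γ} (hg : g ∈ gen σ x S) :
    y * g * y⁻¹ ∈ gen σ x S :=
  conj_gen (fun k hk a ha => by
    rw [h k a ha]
    exact x_mem_gen hk (ok_aut ha)) hg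

theorem Pure.conj_hh {y : Γ} {ρ : E ≃+* E} (h : Pure σ x y ρ) {k : ZMod 12} {s : E} (hs : Ok σ k s) :
    y * hh x k s * y⁻¹ = hh x k (ρ s) := by
  have h1 := h k s hs
  have h2 := h (k + 6) s⁻¹ (hs.inv.congr (val_add_6 k))
  have h3 := h k 1 (ok_one σ k)
  have h4 := h (k + 6) 1 (ok_one σ _)
  rw [map_one] at h3 h4
  rw [map_inv₀] at h2
  unfold hh nt nn
  calc y * (x k s * x (k + 6) s⁻¹ * x k s * (x k 1 * x (k + 6) 1 * x k 1)) * y⁻¹ =
      (y * x k s * y⁻¹) * (y * x (k + 6) s⁻¹ * y⁻¹) * (y * x k s * y⁻¹) *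
        ((y * x k 1 * y⁻¹) * (y * x (k + 6) 1 * y⁻¹) * (y * x k 1 * y⁻¹)) := by group
    _ = _ := by rw [h1, h2, h3, h4]

theorem Pure.torus (hx : HexTwo σ x) {y : Γ} {ρ : E ≃+* E} (h : Pure σ x y ρ) {g : Γ} (hg : g ∈ hx.H) :
    y * g * y⁻¹ ∈ hx.H := by
  obtain ⟨s, u, hs, hu, hu', rfl⟩ := hg
  have e : y * (hh x 1 s * hh x 6 u) * y⁻¹ =
      (y * hh x 1 s * y⁻¹) * (y * hh x 6 u * y⁻¹) := by group
  refine ⟨ρ s, ρ u, by simpa using hs, by simpa using hu, by rw [← aut_comm ρ σ, hu'], ?_⟩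
  rw [e, h.conj_hh (ok1 s), h.conj_hh (ok_of_fix _ hu')]

/-- the pure elements commuting with `t` -/
def pureGroup (σ : E ≃+* E) (x : ZMod 12 → E → Γ) (t : Γ) : Subgroup Γ where
  carrier := {y | y * t = t * y ∧ ∃ ρ, Pure σ x y ρ}
  one_mem' := ⟨by rw [one_mul, mul_one], _, Pure.one⟩
  mul_mem' := by
    rintro a b ⟨ha, ρ, hρ⟩ ⟨hb, ρ', hρ'⟩
    exact ⟨by rw [mul_assoc, hb, ← mul_assoc, ha, mul_assoc], _, hρ.mul hρ'⟩
  inv_mem' := by
    rintro a ⟨ha, ρ, hρ⟩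
    refine ⟨?_, _, hρ.inv⟩
    calc a⁻¹ * t = a⁻¹ * (t * a) * a⁻¹ := by group
      _ = a⁻¹ * (a * t) * a⁻¹ := by rw [ha]
      _ = t * a⁻¹ := by group

/-- **Pure elements commute.** -/
theorem comm_of_pure (hx : HexTwo σ x) {t : Γ}
    (cen : ∀ y, y * t = t * y → (∀ k a, Ok σ k a → y * x k a = x k a * y) → y = 1 ∨ y = t)
    {y y' : Γ} (hy : y * t = t * y) (hy' : y' * t = t * y') {ρ ρ' : E ≃+* E} (h : Pure σ x y ρ)
    (h' : Pure σ x y' ρ') : y * y' = y' * y := by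
  have := isCyclic_aut E
  choose r hr using fun y : pureGroup σ x t => y.2.2
  have uniq : ∀ {y : Γ} {ρ ρ' : E ≃+* E}, Pure σ x y ρ → Pure σ x y ρ' → ρ = ρ' := by
    intro y ρ ρ' h h'
    ext a
    have e := (h 1 a (ok1 a)).symm.trans (h' 1 a (ok1 a))
    exact (hx.x_inj (ok1 _) (ok1 _)).1 e
  let f : pureGroup σ x t →* (E ≃+* E) :=
    { toFun := r
      map_one' := uniq (hr 1) (by exact Pure.one)
      map_mul' := fun a b => uniq (hr (a * b)) (by exact (hr a).mul (hr b)) }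
  have hker : f.ker ≤ center (pureGroup σ x t) := by
    rintro ⟨c, hc⟩ hk
    have hk' : r ⟨c, hc⟩ = 1 := hk
    have hc1 : Pure σ x c 1 := by rw [← hk']; exact hr ⟨c, hc⟩
    rw [mem_center_iff]
    rintro ⟨b, hb⟩
    apply Subtype.ext
    change b * c = c * b
    rcases cen c hc.1 (fun k a ha => by
      have := hc1 k a ha
      rw [mul_inv_eq_iff_eq_mul] at this
      exact this) with rfl | rfl
    · rw [mul_one, one_mul]
    · exact hb.1
  have key := (f.isMulCommutative_of_isCyclic_of_ker_le_center hker).is_comm.comm ⟨y, hy, ρ, h⟩ ⟨y', hy', ρ', h'⟩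
  exact congrArg Subtype.val key

end Pure

section End

variable {Γ : Type*} [Group Γ] [Finite Γ] {t : Γ}

section Out

variable {E : Type*} [Field E] [Finite E] {σ : E ≃+* E} {x : ZMod 12 → E → Γ} (hx : HexTwo σ x)
  {V : ZMod 12 → Subgroup Γ} (En : Env t hx.H (XX σ x) (nn x)) (W : Grown t hx.H (XX σ x) (nn x) V)

include hx En W

/-- pure elements of `C(t)` normalise the grown root groups -/
theorem conj_V {p : Γ} (hpt : p * t = t * p) {ρ : E ≃+* E} (hp : Pure σ x p ρ) (k : ZMod 12) {v : Γ} (hv : v ∈ V k) :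
    p * v * p⁻¹ ∈ V k := by
  refine HexCanon.conj_V En W hpt (fun r a ha => hp.mem_gen _ ha) (fun r a ha => ?_) (fun g hg => ?_) k hv
  · have := hp.inv.mem_gen _ ha
    rwa [inv_inv] at this
  · have := hp.inv.torus hx hg
    rwa [inv_inv] at this

variable {T : Subgroup Γ} (TC : ∀ y ∈ T, y * t = t * y) (UT : UU (XX σ x) 1 ≤ T)
  (cen : ∀ y, y * t = t * y → (∀ k a, Ok σ k a → y * x k a = x k a * y) → y = 1 ∨ y = t)
  (out : ∀ y ∈ T, ∃ u ∈ UU (XX σ x) 1, ∃ ρ : E ≃+* E, Pure σ x (u * y) ρ)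

omit [Finite Γ] hx En W in
theorem Pure.mem_UU {p : Γ} {ρ : E ≃+* E} (hp : Pure σ x p ρ) (r : ZMod 12) {a : Γ} (ha : a ∈ UU (XX σ x) r) :
    p * a * p⁻¹ ∈ UU (XX σ x) r := by
  rw [UU_eq] at ha ⊢
  exact hp.mem_gen _ ha

include TC UT cen out

omit [Finite Γ] En W UT cen in
theorem norm_U {y : Γ} (hy : y ∈ T) {a : Γ} (ha : a ∈ UU (XX σ x) 1) : y * a * y⁻¹ ∈ UU (XX σ x) 1 := by
  obtain ⟨u, hu, ρ, hp⟩ := out y hy
  have h1 := hp.mem_UU 1 ha
  have e : y * a * y⁻¹ = u⁻¹ * (u * y * a * (u * y)⁻¹) * u := by group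
  rw [e]
  exact mul_mem (mul_mem (inv_mem hu) h1) hu

theorem norm_V {y : Γ} (hy : y ∈ T) {a : Γ} (ha : a ∈ UU V 1) : y * a * y⁻¹ ∈ UU V 1 := by
  obtain ⟨u, hu, ρ, hp⟩ := out y hy
  have hpt : (u * y) * t = t * (u * y) := TC _ (mul_mem (UT hu) hy)
  have h1 : (u * y) * a * (u * y)⁻¹ ∈ UU V 1 := by
    have hle : UU V 1 ≤ (UU V 1).comap (MulAut.conj (u * y)).toMonoidHom := by
      apply HexEnd.UU1_le
      intro r hr v hv
      exact HexEnd.le_UU1 V r hr (conj_V hx En W hpt hp r hv)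
    exact hle ha
  have e : y * a * y⁻¹ = u⁻¹ * (u * y * a * (u * y)⁻¹) * u := by group
  have hu' := HexEnd.UU_mono W 1 hu
  rw [e]
  exact mul_mem (mul_mem (inv_mem hu') h1) hu'

theorem norm_V4 {y : Γ} (hy : y ∈ T) {a : Γ} (ha : a ∈ V 4) : y * a * y⁻¹ ∈ V 4 := by
  obtain ⟨u, hu, ρ, hp⟩ := out y hy
  have hpt : (u * y) * t = t * (u * y) := TC _ (mul_mem (UT hu) hy)
  have h1 := conj_V hx En W hpt hp 4 ha
  have hu' := HexEnd.UU_mono W 1 hu
  have e : y * a * y⁻¹ = u⁻¹ * (u * y * a * (u * y)⁻¹) * u := by group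
  have h2 := HexEnd.V4_comm W h1 hu'
  rw [e]
  have e2 : u⁻¹ * (u * y * a * (u * y)⁻¹) * u = u * y * a * (u * y)⁻¹ := by
    rw [mul_assoc, h2, inv_mul_cancel_left]
  rw [e2]
  exact h1

omit [Finite Γ] En W in
theorem comm_T {y y' : Γ} (hy : y ∈ T) (hy' : y' ∈ T) : ⁅y, y'⁆ ∈ UU (XX σ x) 1 := by
  obtain ⟨u, hu, ρ, hp⟩ := out y hy
  obtain ⟨v, hv, ρ', hp'⟩ := out y' hy'
  have e := comm_of_pure hx cen (TC _ (mul_mem (UT hu) hy)) (TC _ (mul_mem (UT hv) hy')) hp hp'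
  have h1 := hp.mem_UU 1 (inv_mem hv)
  have h2 := inv_mem (hp'.mem_UU 1 (inv_mem hu))
  have e2 : ⁅y, y'⁆ = u⁻¹ * (u * y * v⁻¹ * (u * y)⁻¹) * (v * y' * u⁻¹ * (v * y')⁻¹)⁻¹ * v := by
    rw [commutatorElement_def]
    calc y * y' * y⁻¹ * y'⁻¹ = u⁻¹ * (u * y * v⁻¹ * (u * y)⁻¹) * ((u * y) * (v * y')) * ((u * y)⁻¹ * u * (v * y')⁻¹) * v := by
          group
      _ = u⁻¹ * (u * y * v⁻¹ * (u * y)⁻¹) * ((v * y') * (u * y)) * ((u * y)⁻¹ * u * (v * y')⁻¹) * v := by rw [e]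
      _ = _ := by group
  rw [e2]
  exact mul_mem (mul_mem (mul_mem (inv_mem hu) h1) h2) hv

end Out

variable {F K : Type*} [Field F] [Field K] [Algebra F K] {φ : K ≃ₐ[F] K} {hφ : Cfsg.Agent.Hex.Defs.CubicPair φ}
  [Finite K] {x z : ZMod 12 → K → Γ} (hx : HexTwo (φ : K ≃+* K) x)
  {V : ZMod 12 → Subgroup Γ} (En : Env t hx.H (XX (φ : K ≃+* K) x) (nn x))
  (W : Grown t hx.H (XX (φ : K ≃+* K) x) (nn x) V) {g : HexEight.Def.Gr (φ : K ≃+* K) x t V}
  {L : HexEight.Lab.Lab (φ : K ≃+* K) x t V z} {β : F} {c : K}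

include hx En W in
/-- **The end of the field case.** -/
theorem end_field (hQ : HexEight.SplitA.QR hφ g L β c) (hno : ¬ ∃ c0 : F, c0 * c0 + c0 = β)
    {T : Subgroup Γ} (tT : t ∈ T) (twoT : IsPGroup 2 T) (TC : ∀ y ∈ T, y * t = t * y)
    (syl : ∀ Q : Subgroup Γ, IsPGroup 2 Q → (∀ y ∈ Q, y * t = t * y) → T ≤ Q → Q = T)
    (UT : UU (XX (φ : K ≃+* K) x) 1 ≤ T)
    (cen : ∀ y, y * t = t * y → (∀ k a, Ok (φ : K ≃+* K) k a → y * x k a = x k a * y) → y = 1 ∨ y = t)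
    (out : ∀ y ∈ T, ∃ u ∈ UU (XX (φ : K ≃+* K) x) 1, ∃ ρ : K ≃+* K, Pure (φ : K ≃+* K) x (u * y) ρ) :
    Closing.End t T (UU (XX (φ : K ≃+* K) x) 1) (UU V 1) (V 4) (XX (φ : K ≃+* K) x 4) := by
  refine HexEnd.end_of_grown hx W (fun r y => mem_XX hx) En.tt tT twoT TC syl UT ?_ ?_
    (fun y hy s hs => norm_V hx En W TC UT cen out hy hs) (fun y hy s hs => norm_V4 hx En W TC UT cen out hy hs) ?_
    (fun y hy y' hy' => comm_T hx TC UT cen out hy hy')
  · -- `t ∉ U`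
    intro ht
    apply En.tnot
    have : UU (XX (φ : K ≃+* K) x) 1 ≤ ⨆ r, XX (φ : K ≃+* K) x r :=
      HexEnd.UU1_le fun r _ => le_iSup (XX (φ : K ≃+* K) x) r
    exact this ht
  · intro y hy hyU
    refine En.cQ1' 4 (by decide) y (TC y hy) fun a ha => hyU a ?_
    have : QQ (XX (φ : K ≃+* K) x) 4 ≤ UU (XX (φ : K ≃+* K) x) 1 := by
      refine sup_le (sup_le (sup_le (sup_le ?_ ?_) ?_) ?_) ?_
      · exact HexEnd.le_UU1 _ 2 (by simp)
      · exact HexEnd.le_UU1 _ 3 (by simp)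
      · exact HexEnd.le_UU1 _ 4 (by simp)
      · exact HexEnd.le_UU1 _ 5 (by simp)
      · exact HexEnd.le_UU1 _ 6 (by simp)
    exact this ha
  · intro y hy hyy
    obtain ⟨u, hu, ρ, hp⟩ := out y hy
    have hpt : (u * y) * t = t * (u * y) := TC _ (mul_mem (UT hu) hy)
    have h1 := norm_U hx TC out hy hu
    have hpp : (u * y) * (u * y) ∈ gen (φ : K ≃+* K) x (arc 1 6) := by
      rw [← UU_eq]
      have e : (u * y) * (u * y) = u * (y * u * y⁻¹) * (y * y) := by group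
      rw [e]
      exact mul_mem (mul_mem hu h1) hyy
    have hρ := HexField.pure_trivial hQ hno hpt (fun a => aut_comm ρ (φ : K ≃+* K) a) hp
      (fun k v hv => conj_V hx En W hpt hp k hv) hpp
    rcases cen (u * y) hpt (fun k a ha => by
      have := hp k a ha
      rw [hρ, mul_inv_eq_iff_eq_mul] at this
      exact this) with h2 | h2
    · left
      have : y = u⁻¹ := (inv_eq_of_mul_eq_one_right h2).symm
      rw [this]
      exact inv_mem hu
    · right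
      have h3 : y = u⁻¹ * t := by rw [← h2]; group
      have h4 : t * y = u⁻¹ := by
        rw [TC y hy |>.symm, h3, mul_assoc, En.tt, mul_one]
      rw [h4]
      exact inv_mem hu

end End

end Cfsg.Agent.WreathFusion.HexPure
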