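import Mathlib
import Cfsg.Agent.WreathFusion.Main
import Cfsg.Prelude.Def_CaseTheorems
import Cfsg.Agent.Lib.Cores

/-!
# A simple group has no Sylow 2-subgroup as in Theorem W

The commutator part of Goldschmidt's product theorem (`TwoFusion.ClosedCommutator.commutator_le`) is taken as a
hypothesis.
-/

set_option autoImplicit false

namespace Cfsg.Agent.WreathFusion

open Subgroup

variable {G : Type*} [Group G] [Finite G] {S₁ S₂ : Subgroup G} {P : Sylow 2 G}

theorem WData.false_of_simple [IsSimpleGroup G] (h : WData (P : Subgroup G) S₁ S₂)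
    (hcomm : ∀ A B : Subgroup G, A ⊓ B = ⊥ → Cfsg.IsStronglyClosed A (P : Subgroup G) →
      Cfsg.IsStronglyClosed B (P : Subgroup G) →
      ⁅normalClosure (A : Set G), normalClosure (B : Set G)⁆ ≤ Cfsg.oddCore G) : False := by
  have h1 := hcomm S₁ S₂ h.prod.2.2.2.1 h.stronglyClosed h.symm.stronglyClosed
  have htop : ∀ A : Subgroup G, A ≠ ⊥ → normalClosure (A : Set G) = ⊤ := by
    intro A hA
    rcases (normalClosure_normal (s := (A : Set G))).eq_bot_or_eq_top with h2 | h2
    · exact absurd (eq_bot_iff.2 (le_trans (le_normalClosure (H := A)) h2.le)) hA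
    · exact h2
  rw [htop S₁ h.ne₁, htop S₂ h.ne₂] at h1
  -- the odd core is trivial
  have h2 : S₁ ⊓ Cfsg.oddCore G = ⊥ := by
    have hcop : (Nat.card (Cfsg.oddCore G)).Coprime 2 := Cfsg.Agent.Lib.Cores.pPrimeCore_coprime 2
    obtain ⟨k, hk⟩ := IsPGroup.iff_card.1 h.isPGroup₁
    rw [← disjoint_iff]
    apply Subgroup.disjoint_of_coprime_natCard
    rw [hk]
    exact Nat.Coprime.pow_left _ hcop.symm
  have h3 : ⁅S₁, S₁⁆ ≤ S₁ ⊓ Cfsg.oddCore G :=
    le_inf (Subgroup.commutator_le_self S₁) (le_trans (Subgroup.commutator_mono le_top le_top) h1)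
  rw [h2] at h3
  have h4 : ⁅S₁, S₁⁆ = ⊥ := eq_bot_iff.2 h3
  apply h.ne₁
  rw [eq_bot_iff, ← h4]
  refine le_trans ?_ h.cen₁
  refine le_inf ?_ le_rfl
  intro x _
  rw [mem_centralizer_iff]
  intro y hy
  rw [h4] at hy
  have hy' : y = 1 := mem_bot.1 hy
  rw [hy', one_mul, mul_one]

end Cfsg.Agent.WreathFusion
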