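import Mathlib
import Cfsg.Agent.WreathFusion.NotSimple
import Cfsg.Agent.TwoFusion.ClosedCommutator

/-!
# Theorem W

A finite simple group has no Sylow 2-subgroup `P = S₁ × S₂` as in `WData`.
-/

set_option autoImplicit false

namespace Cfsg.Agent.WreathFusion

open Subgroup

variable {G : Type*} [Group G] [Finite G] {S₁ S₂ : Subgroup G} {P : Sylow 2 G}

/-- **Theorem W.** -/
theorem WData.not_simple [IsSimpleGroup G] (h : WData (P : Subgroup G) S₁ S₂) : False :=
  h.false_of_simple fun A B hAB hA hB => Cfsg.Agent.TwoFusion.ClosedCommutator.commutator_le P A B hAB hA hB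

end Cfsg.Agent.WreathFusion
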