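import Mathlib
import Cfsg.Agent.WreathFusion.NotSimple
import Cfsg.Agent.Lib.NormalAbelian

/-!
# Theorem W with a weaker hypothesis

As `WreathFusion.Main`, but the hypothesis `C_{Sᵢ}(Sᵢ') ≤ Sᵢ'` is weakened to: `Z(Sᵢ) ≤ Sᵢ'` and `C_{Sᵢ}(Sᵢ')` is abelian.
This is needed for `Sᵢ` of type `U₄(q)`.
-/

set_option autoImplicit false

namespace Cfsg.Agent.WreathFusion

open Subgroup Cfsg.Agent.Lib.EssProd Cfsg.Agent.Lib.GoldschmidtFusion Cfsg.Agent.Lib.EssDefs
open scoped commutatorElement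

variable {G : Type*} [Group G] {S₁ S₂ : Subgroup G}

/-- The hypotheses of the weak form of Theorem W. -/
structure WDataW (P : Subgroup G) (S₁ S₂ : Subgroup G) : Prop where
  prod : Cfsg.IsInternalDirectProduct S₁ S₂ P
  card_eq : Nat.card S₁ = Nat.card S₂
  ne₁ : S₁ ≠ ⊥
  ne₂ : S₂ ≠ ⊥
  ind₁ : CentIndec S₁
  ind₂ : CentIndec S₂
  zen₁ : centralizer (S₁ : Set G) ⊓ S₁ ≤ ⁅S₁, S₁⁆
  zen₂ : centralizer (S₂ : Set G) ⊓ S₂ ≤ ⁅S₂, S₂⁆
  ab₁ : ∀ x ∈ S₁, x ∈ centralizer ((⁅S₁, S₁⁆ : Subgroup G) : Set G) → ∀ y ∈ S₁,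
    y ∈ centralizer ((⁅S₁, S₁⁆ : Subgroup G) : Set G) → x * y = y * x
  ab₂ : ∀ x ∈ S₂, x ∈ centralizer ((⁅S₂, S₂⁆ : Subgroup G) : Set G) → ∀ y ∈ S₂,
    y ∈ centralizer ((⁅S₂, S₂⁆ : Subgroup G) : Set G) → x * y = y * x
  com₁ : S₁ ≤ ⁅centralizer (S₂ : Set G), centralizer (S₂ : Set G)⁆
  com₂ : S₂ ≤ ⁅centralizer (S₁ : Set G), centralizer (S₁ : Set G)⁆

theorem WDataW.symm {P : Subgroup G} (h : WDataW P S₁ S₂) : WDataW P S₂ S₁ where
  prod := isProd_symm h.prod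
  card_eq := h.card_eq.symm
  ne₁ := h.ne₂
  ne₂ := h.ne₁
  ind₁ := h.ind₂
  ind₂ := h.ind₁
  zen₁ := h.zen₂
  zen₂ := h.zen₁
  ab₁ := h.ab₂
  ab₂ := h.ab₁
  com₁ := h.com₂
  com₂ := h.com₁

/-- Theorem W implies its weak form. -/
theorem WData.toW {P : Subgroup G} (h : WData P S₁ S₂) : WDataW P S₁ S₂ where
  prod := h.prod
  card_eq := h.card_eq
  ne₁ := h.ne₁
  ne₂ := h.ne₂
  ind₁ := h.ind₁
  ind₂ := h.ind₂
  zen₁ := le_trans (inf_le_inf_right _ (centralizer_le_of_le (Subgroup.commutator_le_self S₁))) h.cen₁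
  zen₂ := le_trans (inf_le_inf_right _ (centralizer_le_of_le (Subgroup.commutator_le_self S₂))) h.cen₂
  ab₁ := fun _ hx hx' _ hy hy' => mem_centralizer_iff.1 hy' _ (h.cen₁ (mem_inf.2 ⟨hx', hx⟩))
  ab₂ := fun _ hx hx' _ hy hy' => mem_centralizer_iff.1 hy' _ (h.cen₂ (mem_inf.2 ⟨hx', hx⟩))
  com₁ := h.com₁
  com₂ := h.com₂

section MainW

variable [Finite G] {P : Sylow 2 G}

theorem WDataW.isPGroup₁ (h : WDataW (P : Subgroup G) S₁ S₂) : IsPGroup 2 S₁ := P.isPGroup'.to_le h.prod.1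
theorem WDataW.isPGroup₂ (h : WDataW (P : Subgroup G) S₁ S₂) : IsPGroup 2 S₂ := P.isPGroup'.to_le h.prod.2.1

theorem WDataW.le_normalizer (h : WDataW (P : Subgroup G) S₁ S₂) : (P : Subgroup G) ≤ normalizer (S₂ : Set G) := by
  intro x hx
  apply mem_normalizer_of_le
  intro y hy
  obtain ⟨a, ha, b, hb, rfl⟩ := exists_mul h.prod hx
  have h1 := h.prod.2.2.1 a ha (b * y * b⁻¹) (mul_mem (mul_mem hb hy) (inv_mem hb))
  have e : a * b * y * (a * b)⁻¹ = b * y * b⁻¹ := by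
    calc a * b * y * (a * b)⁻¹ = a * (b * y * b⁻¹) * a⁻¹ := by group
      _ = b * y * b⁻¹ := by rw [h1, mul_inv_cancel_right]
  rw [e]
  exact mul_mem (mul_mem hb hy) (inv_mem hb)

/-- a nontrivial subgroup of a finite `2`-group `S` normalised by `S` meets the centre of `S` -/
theorem weak_exists_central {S D : Subgroup G} (hS : IsPGroup 2 S) (hDS : D ≤ S) (hn : ∀ s ∈ S, ∀ x ∈ D, s * x * s⁻¹ ∈ D)
    (hD : ∀ x ∈ D, x ∈ centralizer (S : Set G) → x = 1) : D = ⊥ := by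
  have : Fact (Nat.Prime 2) := ⟨Nat.prime_two⟩
  have : Group.IsNilpotent S := hS.isNilpotent
  have hN : (D.subgroupOf S).Normal := by
    refine ⟨fun x hx s => ?_⟩
    rw [mem_subgroupOf] at hx ⊢
    exact hn s s.2 x hx
  by_contra hne
  have hne' : D.subgroupOf S ≠ ⊥ := by
    intro h1
    apply hne
    rw [eq_bot_iff]
    intro x hx
    have h2 : (⟨x, hDS hx⟩ : S) ∈ D.subgroupOf S := hx
    rw [h1] at h2
    exact congrArg Subtype.val (mem_bot.1 h2)
  have h1 := Cfsg.Agent.Lib.NormalAbelian.normal_inf_center_ne_bot _ hne'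
  apply h1
  rw [eq_bot_iff]
  rintro ⟨x, hxS⟩ hx
  obtain ⟨hx1, hx2⟩ := mem_inf.1 hx
  rw [mem_subgroupOf] at hx1
  have h3 : x = 1 := by
    apply hD x hx1
    rw [mem_centralizer_iff]
    intro s hs
    exact congrArg Subtype.val (mem_center_iff.1 hx2 ⟨s, hs⟩)
  rw [mem_bot]
  exact Subtype.ext h3

/-- `P ∩ [C(S₂'), C(S₂')] = S₁` -/
theorem WDataW.inf_commutator (h : WDataW (P : Subgroup G) S₁ S₂) :
    (P : Subgroup G) ⊓ ⁅centralizer ((⁅S₂, S₂⁆ : Subgroup G) : Set G),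
      centralizer ((⁅S₂, S₂⁆ : Subgroup G) : Set G)⁆ ≤ S₁ := by
  set C : Subgroup G := centralizer ((⁅S₂, S₂⁆ : Subgroup G) : Set G) with hC
  set Y : Subgroup G := normalizer ((⁅S₂, S₂⁆ : Subgroup G) : Set G) with hY
  have hcm := h.prod.2.2.1
  have hS₂C : centralizer (S₂ : Set G) ≤ C := centralizer_le_of_le (Subgroup.commutator_le_self S₂)
  have hS₁C : S₁ ≤ C := by
    intro a ha
    apply hS₂C
    rw [mem_centralizer_iff]
    intro b hb
    exact (hcm a ha b hb).symm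
  have hPY : (P : Subgroup G) ≤ Y := by
    intro x hx
    apply mem_normalizer_of_le
    intro y hy
    exact conj_mem_commutator (fun z hz => conj_mem_of_normalizer (h.le_normalizer hx) hz) hy
  have hCY : C ≤ Y := centralizer_le_normalizer _
  have hYC : Y ≤ normalizer (C : Set G) := by
    intro n hn
    exact mem_normalizer_of_le fun x hx => conj_mem_centralizer hn hx
  have hodd : ¬ 2 ∣ ((P : Subgroup G) ⊓ C).relIndex C := by
    refine Transfer.not_dvd_inf hCY hYC ?_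
    intro hd
    exact P.not_dvd_index (hd.trans (Subgroup.relIndex_dvd_index_of_le hPY))
  -- decomposition of `P ∩ C`
  have hdec : ∀ x ∈ (P : Subgroup G) ⊓ C, ∃ a ∈ S₁, ∃ b ∈ S₂, b ∈ C ∧ x = a * b := by
    intro x hx
    obtain ⟨hxP, hxC⟩ := mem_inf.1 hx
    obtain ⟨a, ha, b, hb, rfl⟩ := exists_mul h.prod hxP
    refine ⟨a, ha, b, hb, ?_, rfl⟩
    have := mul_mem (inv_mem (hS₁C ha)) hxC
    simpa using this
  -- the commutator subgroup of `P ∩ C` is contained in `S₁`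
  have hcomm : ⁅(P : Subgroup G) ⊓ C, (P : Subgroup G) ⊓ C⁆ ≤ S₁ := by
    rw [Subgroup.commutator_le]
    intro x hx y hy
    obtain ⟨a, ha, b, hb, hbC, rfl⟩ := hdec x hx
    obtain ⟨c, hc, d, hd, hdC, rfl⟩ := hdec y hy
    have c1 : Commute b d := h.ab₂ b hb hbC d hd hdC
    have c2 : Commute a b := hcm a ha b hb
    have c3 : Commute a d := hcm a ha d hd
    have c4 : Commute c b := hcm c hc b hb
    have c5 : Commute c d := hcm c hc d hd
    have e : ⁅a * b, c * d⁆ = ⁅a, c⁆ := by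
      rw [commutatorElement_def, commutatorElement_def, mul_inv_rev, mul_inv_rev]
      calc a * b * (c * d) * (b⁻¹ * a⁻¹) * (d⁻¹ * c⁻¹)
          = a * (b * c) * (d * b⁻¹) * (a⁻¹ * d⁻¹) * c⁻¹ := by group
        _ = a * (c * b) * (b⁻¹ * d) * (d⁻¹ * a⁻¹) * c⁻¹ := by
            rw [← c4.eq, c1.symm.inv_right.eq, (c3.inv_inv).eq]
        _ = a * c * a⁻¹ * c⁻¹ := by group
    rw [e, commutatorElement_def]
    exact mul_mem (mul_mem (mul_mem ha hc) (inv_mem ha)) (inv_mem hc)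
  -- the group `D₂`
  set D : Subgroup G := S₂ ⊓ ⁅C, C⁆ with hD
  have hCC : ⁅C, C⁆ ≤ C := Subgroup.commutator_le_self C
  have hdisj : ∀ x, x ∈ S₁ → x ∈ S₂ → x = 1 := by
    intro x h1 h2
    have : x ∈ S₁ ⊓ S₂ := mem_inf.2 ⟨h1, h2⟩
    rw [h.prod.2.2.2.1] at this
    exact mem_bot.1 this
  have hDT : ∀ x ∈ D, x ∈ ⁅S₂, S₂⁆ → x = 1 := by
    intro x hx hxT
    obtain ⟨hx2, hxY⟩ := mem_inf.1 hx
    have h1 := Transfer.pow_relIndex_mem (Y := C) (Q := (P : Subgroup G) ⊓ C) inf_le_right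
      (fun y hy => mem_centralizer_iff.1 hy x hxT) hxY
    have h3 : x ^ ((P : Subgroup G) ⊓ C).relIndex C = 1 := hdisj _ (hcomm h1) (pow_mem hx2 _)
    obtain ⟨k, hk⟩ := h.isPGroup₂ ⟨x, hx2⟩
    have hk' : x ^ 2 ^ k = 1 := by
      have := congrArg Subtype.val hk
      simpa using this
    have hcop : Nat.Coprime (((P : Subgroup G) ⊓ C).relIndex C) (2 ^ k) :=
      Nat.Coprime.pow_right _ (Nat.Coprime.symm ((Nat.Prime.coprime_iff_not_dvd Nat.prime_two).2 hodd))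
    have h5 : orderOf x ∣ ((P : Subgroup G) ⊓ C).relIndex C := orderOf_dvd_of_pow_eq_one h3
    have h6 : orderOf x ∣ 2 ^ k := orderOf_dvd_of_pow_eq_one hk'
    have h7 := Nat.dvd_gcd h5 h6
    rw [Nat.Coprime.gcd_eq_one hcop, Nat.dvd_one] at h7
    exact orderOf_eq_one_iff.1 h7
  have hDbot : D = ⊥ := by
    apply weak_exists_central h.isPGroup₂ inf_le_left
    · intro s hs x hx
      obtain ⟨hx2, hxY⟩ := mem_inf.1 hx
      refine mem_inf.2 ⟨mul_mem (mul_mem hs hx2) (inv_mem hs), ?_⟩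
      exact conj_mem_commutator (fun z hz => conj_mem_of_normalizer (hYC (hPY (h.prod.2.1 hs))) hz) hxY
    · intro x hx hxc
      exact hDT x hx (h.zen₂ (mem_inf.2 ⟨hxc, (mem_inf.1 hx).1⟩))
  intro x hx
  obtain ⟨hxP, hxY⟩ := mem_inf.1 hx
  obtain ⟨a, ha, b, hb, hbC, rfl⟩ := hdec x (mem_inf.2 ⟨hxP, hCC hxY⟩)
  have haY : a ∈ ⁅C, C⁆ := Subgroup.commutator_mono hS₂C hS₂C (h.com₁ ha)
  have hbY : b ∈ ⁅C, C⁆ := by
    have := mul_mem (inv_mem haY) hxY
    simpa using this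
  have hb1 : b ∈ D := mem_inf.2 ⟨hb, hbY⟩
  rw [hDbot] at hb1
  rw [mem_bot.1 hb1, mul_one]
  exact ha

/-- The main step: `N_G(R)` normalises `R ∩ S₁` and `S₂`, for `S₂ ≤ R`, `R` essential or `R = P`. -/
theorem WDataW.main (h : WDataW (P : Subgroup G) S₁ S₂) {R : Subgroup G} (hR : Rin S₁ S₂ (P : Subgroup G) R)
    (hc : centralizer (R : Set G) ⊓ (P : Subgroup G) ≤ R)
    (hodd : ¬ 2 ∣ ((P : Subgroup G) ⊓ normalizer (R : Set G)).relIndex (normalizer (R : Set G)))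
    (hcase : R = P ∨ ¬ S₁ ≤ R) {n : G} (hn : n ∈ normalizer (R : Set G)) :
    (∀ x ∈ R ⊓ S₁, n * x * n⁻¹ ∈ R ⊓ S₁) ∧ ∀ x ∈ S₂, n * x * n⁻¹ ∈ S₂ := by
  have hcm := h.prod.2.2.1
  set R₁ : Subgroup G := R ⊓ S₁ with hR₁
  set B : Subgroup G := R ⊓ centralizer (R₁ : Set G) with hB
  have hcen : centralizer (S₂ : Set G) ⊓ S₂ ≤ ⁅S₂, S₂⁆ := h.zen₂
  -- (1)
  have hnB : ∀ m ∈ normalizer (R : Set G), m ∈ normalizer (B : Set G) := by
    intro m hm
    rcases hcase with hcase | hcase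
    · have h1 : B = (P : Subgroup G) ⊓ centralizer (S₁ : Set G) := by
        rw [hB, hR₁, hcase, inf_eq_right.2 h.prod.1]
      rw [h1]
      rw [hcase] at hm
      exact normalizer_case_eq h.prod h.ind₁ h.ind₂ hcen h.ne₂ hm
    · refine normalizer_case_lt h.prod hR h.isPGroup₂ h.ind₂ hcen ?_ hm
      rw [← h.card_eq]
      have hlt : R ⊓ S₁ < S₁ := lt_of_le_of_ne inf_le_right fun he => hcase (inf_eq_right.1 he)
      exact Set.Finite.card_lt_card (Set.toFinite _) hlt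
  have hexB : ∀ x ∈ B, ∃ a ∈ R₁, ∃ b ∈ S₂, a ∈ centralizer (R₁ : Set G) ∧ x = a * b := by
    intro x hx
    obtain ⟨hxR, hxC⟩ := mem_inf.1 hx
    obtain ⟨a, ha, b, hb, rfl⟩ := exists_mul h.prod (hR.le hxR)
    refine ⟨a, mem_inf.2 ⟨hR.pr a ha b hb hxR, ha⟩, b, hb, ?_, rfl⟩
    rw [mem_centralizer_iff]
    intro c hc
    have h1 : Commute c (a * b) := mem_centralizer_iff.1 hxC c hc
    have h2 : Commute c b := hcm c (mem_inf.1 hc).2 b hb
    have h3 := h1.mul_right h2.inv_right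
    rwa [mul_inv_cancel_right] at h3
  have hS₂B : S₂ ≤ B := by
    intro b hb
    refine mem_inf.2 ⟨hR.le₂ hb, ?_⟩
    rw [mem_centralizer_iff]
    intro c hc
    exact hcm c (mem_inf.1 hc).2 b hb
  have hBcomm : ⁅B, B⁆ = ⁅S₂, S₂⁆ := by
    apply le_antisymm
    · rw [Subgroup.commutator_le]
      intro x hx y hy
      obtain ⟨a, ha, b, hb, haC, rfl⟩ := hexB x hx
      obtain ⟨c, hc', d, hd, hcC, rfl⟩ := hexB y hy
      have c1 : Commute a c := (mem_centralizer_iff.1 haC c hc').symm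
      have c2 : Commute a d := hcm a (mem_inf.1 ha).2 d hd
      have c3 : Commute a b := hcm a (mem_inf.1 ha).2 b hb
      have c4 : Commute c b := hcm c (mem_inf.1 hc').2 b hb
      have c5 : Commute c d := hcm c (mem_inf.1 hc').2 d hd
      have e : ⁅a * b, c * d⁆ = ⁅b, d⁆ := by
        have h3 : Commute a (b * (c * d) * b⁻¹) := (c3.mul_right (c1.mul_right c2)).mul_right c3.inv_right
        have h5 : Commute c (b * d * b⁻¹ * d⁻¹) := ((c4.mul_right c5).mul_right c4.inv_right).mul_right c5.inv_right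
        calc ⁅a * b, c * d⁆ = a * (b * (c * d) * b⁻¹) * a⁻¹ * (c * d)⁻¹ := by
              rw [commutatorElement_def]; group
          _ = b * (c * d) * b⁻¹ * (c * d)⁻¹ := by rw [h3.eq, mul_inv_cancel_right]
          _ = (b * c) * d * b⁻¹ * d⁻¹ * c⁻¹ := by group
          _ = c * (b * d * b⁻¹ * d⁻¹) * c⁻¹ := by rw [← c4.eq]; group
          _ = b * d * b⁻¹ * d⁻¹ := by rw [h5.eq, mul_inv_cancel_right]
          _ = _ := by rw [commutatorElement_def]
      rw [e]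
      exact Subgroup.commutator_mem_commutator hb hd
    · exact Subgroup.commutator_mono hS₂B hS₂B
  -- `N(R)` normalises `S₂'`
  have hnS : ∀ m ∈ normalizer (R : Set G), m ∈ normalizer ((⁅S₂, S₂⁆ : Subgroup G) : Set G) := by
    intro m hm
    rw [← hBcomm]
    apply mem_normalizer_of_le
    intro x hx
    exact conj_mem_commutator (fun y hy => conj_mem_of_normalizer (hnB m hm) hy) hx
  -- (2) `N(R)` normalises `R₁`
  have hnR₁ : ∀ m ∈ normalizer (R : Set G), ∀ x ∈ R₁, m * x * m⁻¹ ∈ R₁ := by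
    intro m hm x hx
    obtain ⟨hxR, hxS⟩ := mem_inf.1 hx
    have h1 : m * x * m⁻¹ ∈ R := conj_mem_of_normalizer hm hxR
    refine mem_inf.2 ⟨h1, ?_⟩
    apply h.inf_commutator
    refine mem_inf.2 ⟨hR.le h1, ?_⟩
    apply conj_mem_commutator (fun y hy => conj_mem_centralizer (hnS m hm) hy)
    have h2 : centralizer (S₂ : Set G) ≤ centralizer ((⁅S₂, S₂⁆ : Subgroup G) : Set G) :=
      centralizer_le_of_le (Subgroup.commutator_le_self S₂)
    exact Subgroup.commutator_mono h2 h2 (h.com₁ hxS)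
  refine ⟨hnR₁ n hn, ?_⟩
  -- (3)
  set C : Subgroup G := centralizer (R₁ : Set G) with hC
  have hNN : normalizer (R : Set G) ≤ normalizer (R₁ : Set G) := fun m hm => mem_normalizer_of_le (hnR₁ m hm)
  -- `C_P(R₁) ≤ R`
  have hPC : (P : Subgroup G) ⊓ C ≤ R := by
    intro x hx
    obtain ⟨hxP, hxC⟩ := mem_inf.1 hx
    obtain ⟨a, ha, b, hb, rfl⟩ := exists_mul h.prod hxP
    have haC : a ∈ C := by
      have := mul_mem hxC (inv_mem (mem_inf.1 (hS₂B hb)).2)
      simpa using this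
    refine mul_mem ?_ (hR.le₂ hb)
    apply hc
    refine mem_inf.2 ⟨?_, h.prod.1 ha⟩
    rw [mem_centralizer_iff]
    intro r hr
    obtain ⟨c, hc', d, hd, rfl⟩ := exists_mul h.prod (hR.le hr)
    have h1 : Commute a c := (mem_centralizer_iff.1 haC c (mem_inf.2 ⟨hR.pr c hc' d hd hr, hc'⟩)).symm
    have h2 : Commute a d := hcm a ha d hd
    exact (h1.mul_right h2).symm
  have hBC : B ≤ C := inf_le_right
  have hBP : IsPGroup 2 B := P.isPGroup'.to_le (inf_le_left.trans hR.le)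
  -- `B` is a Sylow subgroup of `C`
  have hBodd : ¬ 2 ∣ B.relIndex C := by
    apply not_dvd_of_normalizer hBP hBC
    intro T hT hBT hTC
    -- `K = C_{N(R)}(R₁)`
    set N : Subgroup G := normalizer (R : Set G) with hN
    set K : Subgroup G := N ⊓ C with hK
    have hKN : K ≤ N := inf_le_left
    have hNK : N ≤ normalizer (K : Set G) := by
      intro m hm
      apply mem_normalizer_of_le
      intro x hx
      refine mem_inf.2 ⟨mul_mem (mul_mem hm (mem_inf.1 hx).1) (inv_mem hm), ?_⟩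
      exact conj_mem_centralizer (hNN hm) (mem_inf.1 hx).2
    have h1 := Transfer.not_dvd_inf hKN hNK hodd
    have h2 : (P : Subgroup G) ⊓ N ⊓ K = B := by
      apply le_antisymm
      · intro x hx
        obtain ⟨h3, h4⟩ := mem_inf.1 hx
        exact mem_inf.2 ⟨hPC (mem_inf.2 ⟨(mem_inf.1 h3).1, (mem_inf.1 h4).2⟩), (mem_inf.1 h4).2⟩
      · intro x hx
        have hxR := (mem_inf.1 hx).1
        have hxN : x ∈ N := Subgroup.le_normalizer hxR
        exact mem_inf.2 ⟨mem_inf.2 ⟨hR.le hxR, hxN⟩, mem_inf.2 ⟨hxN, hBC hx⟩⟩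
    rw [h2] at h1
    -- `T ∩ N(B) ≤ K`
    have h3 : T ⊓ normalizer (B : Set G) ≤ K := by
      intro x hx
      obtain ⟨hxT, hxB⟩ := mem_inf.1 hx
      have hxC : x ∈ C := hTC hxT
      refine mem_inf.2 ⟨?_, hxC⟩
      apply mem_normalizer_of_le
      intro r hr
      obtain ⟨c, hc', d, hd, rfl⟩ := exists_mul h.prod (hR.le hr)
      have hcR : c ∈ R := hR.pr c hc' d hd hr
      have h4 : x * c * x⁻¹ = c := by
        have := mem_centralizer_iff.1 hxC c (mem_inf.2 ⟨hcR, hc'⟩)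
        rw [← this, mul_inv_cancel_right]
      have h5 : x * d * x⁻¹ ∈ B := conj_mem_of_normalizer hxB (hS₂B hd)
      have e : x * (c * d) * x⁻¹ = (x * c * x⁻¹) * (x * d * x⁻¹) := by group
      rw [e, h4]
      exact mul_mem hcR (mem_inf.1 h5).1
    -- a 2-subgroup containing `B` with odd index
    have h4 : B ≤ T ⊓ normalizer (B : Set G) := le_inf hBT Subgroup.le_normalizer
    have h5 : B.relIndex (T ⊓ normalizer (B : Set G)) ∣ B.relIndex K :=
      Dvd.intro _ (Subgroup.relIndex_mul_relIndex _ _ _ h4 h3)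
    have h6 : IsPGroup 2 (T ⊓ normalizer (B : Set G) : Subgroup G) := hT.to_le inf_le_left
    have : Fact (Nat.Prime 2) := ⟨Nat.prime_two⟩
    obtain ⟨k, hk⟩ := IsPGroup.iff_card.1 h6
    have h7 : B.relIndex (T ⊓ normalizer (B : Set G)) ∣ 2 ^ k := by
      rw [← hk]
      exact Subgroup.relIndex_dvd_card _ _
    obtain ⟨j, -, hj⟩ := (Nat.dvd_prime_pow Nat.prime_two).1 h7
    rcases Nat.eq_zero_or_pos j with hj0 | hj0
    · rw [hj0, pow_zero, Subgroup.relIndex_eq_one] at hj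
      exact hj
    · exfalso
      apply h1
      refine dvd_trans ?_ h5
      rw [hj]
      exact dvd_pow_self 2 (by omega)
  have h1 := Transfer.inf_commutator_le (Y := C) (Q := B) (Z := R₁ ⊓ C) (S := S₂) hBC hBodd
    (P.isPGroup'.to_le ((inf_le_left.trans inf_le_left).trans hR.le)) ?_ ?_ ?_ hS₂B ?_ ?_
  · intro x hx
    have hxB := hS₂B hx
    apply h1
    refine mem_inf.2 ⟨conj_mem_of_normalizer (hnB n hn) hxB, ?_⟩
    apply conj_mem_commutator (fun y hy => conj_mem_centralizer (hNN hn) hy)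
    have h2 : centralizer (S₁ : Set G) ≤ C := centralizer_le_of_le inf_le_right
    exact Subgroup.commutator_mono h2 h2 (h.com₂ hx)
  · intro x hx
    obtain ⟨h2, h3⟩ := mem_inf.1 hx
    exact mem_inf.2 ⟨(mem_inf.1 h2).1, h3⟩
  · intro z hz y hy
    exact mem_centralizer_iff.1 hy z (mem_inf.1 hz).1
  · have h2 : centralizer (S₁ : Set G) ≤ C := centralizer_le_of_le inf_le_right
    exact h.com₂.trans (Subgroup.commutator_mono h2 h2)
  · intro x hx
    obtain ⟨a, ha, b, hb, haC, rfl⟩ := hexB x hx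
    exact ⟨a, mem_inf.2 ⟨ha, haC⟩, b, hb, rfl⟩
  · intro x hx hx'
    have : x ∈ S₁ ⊓ S₂ := mem_inf.2 ⟨(mem_inf.1 (mem_inf.1 hx).1).2, hx'⟩
    rw [h.prod.2.2.2.1] at this
    exact mem_bot.1 this

/-- all the subgroups generating the fusion preserve `S₁` -/
theorem WDataW.step (h : WDataW (P : Subgroup G) S₁ S₂) {R : Subgroup G}
    (hR : R = (P : Subgroup G) ∨ Ess 2 (P : Subgroup G) R) {n : G} (hn : n ∈ normalizer (R : Set G)) :
    ∀ x ∈ R ⊓ S₁, n * x * n⁻¹ ∈ S₁ := by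
  rcases hR with hR | hR
  · -- `R = P`
    have h1 := h.main (R := R) (by rw [hR]; exact rin_top h.prod) (by rw [hR]; exact inf_le_right) (by
      rw [hR]
      have h2 : (P : Subgroup G) ⊓ normalizer ((P : Subgroup G) : Set G) = P := inf_eq_left.2 Subgroup.le_normalizer
      rw [h2]
      intro hd
      exact P.not_dvd_index (hd.trans (Subgroup.relIndex_dvd_index_of_le Subgroup.le_normalizer))) (Or.inl hR) hn
    intro x hx
    exact (mem_inf.1 (h1.1 x hx)).2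
  · obtain ⟨hle, hpr⟩ := ess_prod h.prod hR
    obtain ⟨H, hH⟩ := hR
    rcases hle with hle | hle
    · -- `S₁ ≤ R`
      have h1 : Rin S₂ S₁ (P : Subgroup G) R :=
        ⟨hH.lt.le, hle, fun a ha b hb hab => (hpr b hb a ha (by rw [h.prod.2.2.1 b hb a ha]; exact hab)).2⟩
      have h2 : ¬ S₂ ≤ R := by
        intro h2
        apply hH.lt.not_ge
        rw [← h.prod.2.2.2.2]
        exact sup_le hle h2
      have h3 := h.symm.main h1 hH.cent hH.not_dvd (Or.inr h2) hn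
      intro x hx
      exact h3.2 x (mem_inf.1 hx).2
    · have h1 : Rin S₁ S₂ (P : Subgroup G) R := ⟨hH.lt.le, hle, fun a ha b hb hab => (hpr a ha b hb hab).1⟩
      have h2 : ¬ S₁ ≤ R := by
        intro h2
        apply hH.lt.not_ge
        rw [← h.prod.2.2.2.2]
        exact sup_le h2 hle
      have h3 := h.main h1 hH.cent hH.not_dvd (Or.inr h2) hn
      intro x hx
      exact (mem_inf.1 (h3.1 x hx)).2

/-- **Theorem W.** `S₁` is strongly closed in `P = S₁ × S₂`. -/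
theorem WDataW.stronglyClosed (h : WDataW (P : Subgroup G) S₁ S₂) :
    Cfsg.IsStronglyClosed S₁ (P : Subgroup G) := by
  refine ⟨h.prod.1, fun x hx g hg => ?_⟩
  have : Fact (Nat.Prime 2) := ⟨Nat.prime_two⟩
  have hA : zpowers x ≤ (P : Subgroup G) := by
    rw [zpowers_le]
    exact h.prod.1 hx
  have hg' : (zpowers x).map (MulAut.conj g).toMonoidHom ≤ (P : Subgroup G) := by
    rw [MonoidHom.map_zpowers, zpowers_le]
    exact hg
  have hgen := Cfsg.Agent.Lib.EssBridge.gen_of_conj P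
    (fun R => ∀ n ∈ normalizer (R : Set G), ∀ x ∈ R ⊓ S₁, n * x * n⁻¹ ∈ S₁)
    (fun n hn => h.step (Or.inl rfl) hn) (fun R hR n hn => h.step (Or.inr hR) hn) hA hg'
  have key : ∀ {A : Subgroup G} {g : G}, Gen (P : Subgroup G)
      (fun R => ∀ n ∈ normalizer (R : Set G), ∀ x ∈ R ⊓ S₁, n * x * n⁻¹ ∈ S₁) A g →
      ∀ a ∈ A, a ∈ S₁ → g * a * g⁻¹ ∈ S₁ := by
    intro A g hG
    induction hG with
    | cent hA hc =>
      intro a ha haS
      rw [← mem_centralizer_iff.1 hc a ha, mul_inv_cancel_right]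
      exact haS
    | base hX hF hAX hg =>
      intro a ha haS
      exact hF _ hg a (mem_inf.2 ⟨hAX ha, haS⟩)
    | @mul A g h' h1 h2 ih1 ih2 =>
      intro a ha haS
      have h3 := ih2 _ (conj_mem_map_conj ha g) (ih1 a ha haS)
      have e : h' * (g * a * g⁻¹) * h'⁻¹ = h' * g * a * (h' * g)⁻¹ := by group
      rwa [e] at h3
  exact key hgen x (mem_zpowers x) hx

end MainW

section NotSimpleW

variable [Finite G] {P : Sylow 2 G}

theorem WDataW.false_of_simple [IsSimpleGroup G] (h : WDataW (P : Subgroup G) S₁ S₂)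
    (hcomm : ∀ A B : Subgroup G, A ⊓ B = ⊥ → Cfsg.IsStronglyClosed A (P : Subgroup G) →
      Cfsg.IsStronglyClosed B (P : Subgroup G) →
      ⁅normalClosure (A : Set G), normalClosure (B : Set G)⁆ ≤ Cfsg.oddCore G) : False := by
  have h1 := hcomm S₁ S₂ h.prod.2.2.2.1 h.stronglyClosed h.symm.stronglyClosed
  have htop : ∀ A : Subgroup G, A ≠ ⊥ → normalClosure (A : Set G) = ⊤ := by
    intro A hA
    rcases (normalClosure_normal (s := (A : Set G))).eq_bot_or_eq_top with h2 | h2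
    · exact absurd (eq_bot_iff.2 (le_trans (le_normalClosure (H := A)) h2.le)) hA
    · exact h2
  rw [htop S₁ h.ne₁, htop S₂ h.ne₂] at h1
  -- the odd core is trivial
  have h2 : S₁ ⊓ Cfsg.oddCore G = ⊥ := by
    have hcop : (Nat.card (Cfsg.oddCore G)).Coprime 2 := Cfsg.Agent.Lib.Cores.pPrimeCore_coprime 2
    obtain ⟨k, hk⟩ := IsPGroup.iff_card.1 h.isPGroup₁
    rw [← disjoint_iff]
    apply Subgroup.disjoint_of_coprime_natCard
    rw [hk]
    exact Nat.Coprime.pow_left _ hcop.symm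
  have h3 : ⁅S₁, S₁⁆ ≤ S₁ ⊓ Cfsg.oddCore G :=
    le_inf (Subgroup.commutator_le_self S₁) (le_trans (Subgroup.commutator_mono le_top le_top) h1)
  rw [h2] at h3
  have h4 : ⁅S₁, S₁⁆ = ⊥ := eq_bot_iff.2 h3
  apply h.ne₁
  rw [eq_bot_iff, ← h4]
  refine le_trans ?_ h.zen₁
  refine le_inf ?_ le_rfl
  intro x hx
  rw [mem_centralizer_iff]
  intro y hy
  have h5 : ⁅y, x⁆ ∈ ⁅S₁, S₁⁆ := Subgroup.commutator_mem_commutator hy hx
  rw [h4, mem_bot, commutatorElement_eq_one_iff_mul_comm] at h5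
  exact h5

end NotSimpleW

end Cfsg.Agent.WreathFusion
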