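import Mathlib
import Cfsg.Agent.WreathFusion.Weak
import Cfsg.Agent.WreathFusion.Pair

/-!
# The data of the weak form of Theorem W: transport

`PCoreW`, `PDataW`: as `PCore`, `PData` (`WreathFusion.Pair`), with the hypothesis `C_{Sᵢ}(Sᵢ') ≤ Sᵢ'` weakened to
`Z(Sᵢ) ≤ Sᵢ'` and `C_{Sᵢ}(Sᵢ')` abelian.
-/

set_option autoImplicit false

namespace Cfsg.Agent.WreathFusion

open Subgroup
open scoped commutatorElement

variable {G : Type*} [Group G] {X : Type*} [Group X]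

/-- `Z(S) ≤ S'` -/
def Zen (S : Subgroup G) : Prop := centralizer (S : Set G) ⊓ S ≤ ⁅S, S⁆

/-- `C_S(S')` is abelian -/
def AbC (S : Subgroup G) : Prop := ∀ x ∈ S, x ∈ centralizer ((⁅S, S⁆ : Subgroup G) : Set G) → ∀ y ∈ S,
    y ∈ centralizer ((⁅S, S⁆ : Subgroup G) : Set G) → x * y = y * x

/-- the intrinsic part of `WDataW` -/
structure PCoreW (P S₁ S₂ : Subgroup G) : Prop where
  prod : Cfsg.IsInternalDirectProduct S₁ S₂ P
  card_eq : Nat.card S₁ = Nat.card S₂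
  ne₁ : S₁ ≠ ⊥
  ne₂ : S₂ ≠ ⊥
  ind₁ : CentIndec S₁
  ind₂ : CentIndec S₂
  zen₁ : Zen S₁
  zen₂ : Zen S₂
  ab₁ : AbC S₁
  ab₂ : AbC S₂

/-- `S_i` lies in a perfect group `D_i` centralising `S_j` -/
structure PDataW (P S₁ S₂ D₁ D₂ : Subgroup G) : Prop extends PCoreW P S₁ S₂ where
  perf₁ : D₁ ≤ ⁅D₁, D₁⁆
  perf₂ : D₂ ≤ ⁅D₂, D₂⁆
  le₁ : S₁ ≤ D₁
  le₂ : S₂ ≤ D₂
  com₁ : D₁ ≤ centralizer (S₂ : Set G)
  com₂ : D₂ ≤ centralizer (S₁ : Set G)

theorem PDataW.wdata {P S₁ S₂ D₁ D₂ : Subgroup G} (h : PDataW P S₁ S₂ D₁ D₂) : WDataW P S₁ S₂ where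
  prod := h.prod
  card_eq := h.card_eq
  ne₁ := h.ne₁
  ne₂ := h.ne₂
  ind₁ := h.ind₁
  ind₂ := h.ind₂
  zen₁ := h.zen₁
  zen₂ := h.zen₂
  ab₁ := h.ab₁
  ab₂ := h.ab₂
  com₁ := (h.le₁.trans h.perf₁).trans (commutator_mono h.com₁ h.com₁)
  com₂ := (h.le₂.trans h.perf₂).trans (commutator_mono h.com₂ h.com₂)

section comap

variable (f : G →* X)

theorem Zen.of_map {S : Subgroup G} (hinj : ∀ x ∈ S, f x = 1 → x = 1) (h : Zen (S.map f)) : Zen S := by
  intro x hx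
  obtain ⟨hxc, hxS⟩ := mem_inf.1 hx
  have h1 : f x ∈ ⁅S.map f, S.map f⁆ := by
    apply h
    refine mem_inf.2 ⟨?_, mem_map_of_mem f hxS⟩
    rw [mem_centralizer_iff]
    rintro _ ⟨y, hy, rfl⟩
    rw [← map_mul, ← map_mul, mem_centralizer_iff.1 hxc y hy]
  rw [← map_commutator] at h1
  obtain ⟨y, hy, e⟩ := h1
  rw [← eq_of_map_eq f hinj (commutator_le_self S hy) hxS e]
  exact hy

theorem AbC.of_map {S : Subgroup G} (hinj : ∀ x ∈ S, f x = 1 → x = 1) (h : AbC (S.map f)) : AbC S := by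
  intro x hx hxc y hy hyc
  have key : ∀ x ∈ centralizer ((⁅S, S⁆ : Subgroup G) : Set G),
      f x ∈ centralizer ((⁅S.map f, S.map f⁆ : Subgroup X) : Set X) := by
    intro x hxc
    rw [← map_commutator, mem_centralizer_iff]
    rintro _ ⟨u, hu, rfl⟩
    rw [← map_mul, ← map_mul, mem_centralizer_iff.1 hxc u hu]
  have h1 := h _ (mem_map_of_mem f hx) (key x hxc) _ (mem_map_of_mem f hy) (key y hyc)
  rw [← map_mul, ← map_mul] at h1
  exact eq_of_map_eq f hinj (mul_mem hx hy) (mul_mem hy hx) h1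

/-- the intrinsic part, from the images -/
theorem PCoreW.of_map {P S₁ S₂ : Subgroup G} (hinj : ∀ x ∈ P, f x = 1 → x = 1) (h1 : S₁ ≤ P) (h2 : S₂ ≤ P)
    (h : PCoreW (P.map f) (S₁.map f) (S₂.map f)) : PCoreW P S₁ S₂ where
  prod := by
    refine ⟨h1, h2, fun a ha b hb => ?_, ?_, ?_⟩
    · have h3 := h.prod.2.2.1 (f a) (mem_map_of_mem f ha) (f b) (mem_map_of_mem f hb)
      rw [← map_mul, ← map_mul] at h3
      exact eq_of_map_eq f hinj (mul_mem (h1 ha) (h2 hb)) (mul_mem (h2 hb) (h1 ha)) h3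
    · rw [eq_bot_iff]
      intro x hx
      obtain ⟨hx1, hx2⟩ := mem_inf.1 hx
      have h3 : f x ∈ S₁.map f ⊓ S₂.map f := mem_inf.2 ⟨mem_map_of_mem f hx1, mem_map_of_mem f hx2⟩
      rw [h.prod.2.2.2.1, mem_bot] at h3
      rw [mem_bot]
      exact hinj x (h1 hx1) h3
    · apply le_antisymm (sup_le h1 h2)
      intro x hx
      have h3 : f x ∈ (S₁ ⊔ S₂).map f := by
        rw [Subgroup.map_sup, h.prod.2.2.2.2]
        exact mem_map_of_mem f hx
      obtain ⟨y, hy, e⟩ := h3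
      rw [← eq_of_map_eq f hinj (sup_le h1 h2 hy) hx e]
      exact hy
  card_eq := by
    rw [← card_map_eq f (fun x hx => hinj x (h1 hx)), ← card_map_eq f (fun x hx => hinj x (h2 hx))]
    exact h.card_eq
  ne₁ := fun e => h.ne₁ (by rw [e, Subgroup.map_bot])
  ne₂ := fun e => h.ne₂ (by rw [e, Subgroup.map_bot])
  ind₁ := CentIndec.of_map f (fun x hx => hinj x (h1 hx)) h.ind₁
  ind₂ := CentIndec.of_map f (fun x hx => hinj x (h2 hx)) h.ind₂
  zen₁ := Zen.of_map f (fun x hx => hinj x (h1 hx)) h.zen₁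
  zen₂ := Zen.of_map f (fun x hx => hinj x (h2 hx)) h.zen₂
  ab₁ := AbC.of_map f (fun x hx => hinj x (h1 hx)) h.ab₁
  ab₂ := AbC.of_map f (fun x hx => hinj x (h2 hx)) h.ab₂

end comap

section map

variable (f : G →* X) (hf : Function.Injective f)

include hf

theorem Zen.map {S : Subgroup G} (h : Zen S) : Zen (S.map f) := by
  unfold Zen
  rw [← map_commutator]
  intro y hy
  obtain ⟨hyc, x, hx, rfl⟩ := mem_inf.1 hy
  refine mem_map_of_mem f (h (mem_inf.2 ⟨?_, hx⟩))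
  rw [mem_centralizer_iff]
  intro z hz
  apply hf
  rw [map_mul, map_mul]
  exact mem_centralizer_iff.1 hyc (f z) (mem_map_of_mem f hz)

theorem AbC.map {S : Subgroup G} (h : AbC S) : AbC (S.map f) := by
  unfold AbC
  rw [← map_commutator]
  have key : ∀ x, f x ∈ centralizer (((⁅S, S⁆ : Subgroup G).map f : Subgroup X) : Set X) →
      x ∈ centralizer ((⁅S, S⁆ : Subgroup G) : Set G) := by
    intro x hx
    rw [mem_centralizer_iff]
    intro z hz
    apply hf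
    rw [map_mul, map_mul]
    exact mem_centralizer_iff.1 hx (f z) (mem_map_of_mem f hz)
  rintro _ ⟨x, hx, rfl⟩ hxc _ ⟨y, hy, rfl⟩ hyc
  rw [← map_mul, h x hx (key x hxc) y hy (key y hyc), map_mul]

theorem PCoreW.map {P S₁ S₂ : Subgroup G} (h : PCoreW P S₁ S₂) : PCoreW (P.map f) (S₁.map f) (S₂.map f) where
  prod := by
    refine ⟨map_mono h.prod.1, map_mono h.prod.2.1, ?_, ?_, ?_⟩
    · rintro _ ⟨a, ha, rfl⟩ _ ⟨b, hb, rfl⟩
      rw [← map_mul, ← map_mul, h.prod.2.2.1 a ha b hb]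
    · rw [← map_inf _ _ f hf, h.prod.2.2.2.1, Subgroup.map_bot]
    · rw [← Subgroup.map_sup, h.prod.2.2.2.2]
  card_eq := by
    have hinj : ∀ x : G, f x = 1 → x = 1 := fun x hx => hf (by rw [hx, map_one])
    rw [card_map_eq f (fun x _ => hinj x), card_map_eq f (fun x _ => hinj x)]
    exact h.card_eq
  ne₁ := fun e => h.ne₁ ((map_eq_bot_iff_of_injective _ hf).1 e)
  ne₂ := fun e => h.ne₂ ((map_eq_bot_iff_of_injective _ hf).1 e)
  ind₁ := h.ind₁.map f hf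
  ind₂ := h.ind₂.map f hf
  zen₁ := h.zen₁.map f hf
  zen₂ := h.zen₂.map f hf
  ab₁ := h.ab₁.map f hf
  ab₂ := h.ab₂.map f hf

theorem PDataW.map {P S₁ S₂ D₁ D₂ : Subgroup G} (h : PDataW P S₁ S₂ D₁ D₂) :
    PDataW (P.map f) (S₁.map f) (S₂.map f) (D₁.map f) (D₂.map f) where
  toPCoreW := h.toPCoreW.map f hf
  perf₁ := by rw [← map_commutator]; exact map_mono h.perf₁
  perf₂ := by rw [← map_commutator]; exact map_mono h.perf₂
  le₁ := map_mono h.le₁
  le₂ := map_mono h.le₂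
  com₁ := by
    rintro _ ⟨a, ha, rfl⟩
    rw [mem_centralizer_iff]
    rintro _ ⟨b, hb, rfl⟩
    rw [← map_mul, ← map_mul, mem_centralizer_iff.1 (h.com₁ ha) b hb]
  com₂ := by
    rintro _ ⟨a, ha, rfl⟩
    rw [mem_centralizer_iff]
    rintro _ ⟨b, hb, rfl⟩
    rw [← map_mul, ← map_mul, mem_centralizer_iff.1 (h.com₂ ha) b hb]

theorem PDataW.of_map {P S₁ S₂ D₁ D₂ : Subgroup G}
    (h : PDataW (P.map f) (S₁.map f) (S₂.map f) (D₁.map f) (D₂.map f)) : PDataW P S₁ S₂ D₁ D₂ := by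
  have hinj : ∀ x : G, f x = 1 → x = 1 := fun x hx => hf (by rw [hx, map_one])
  have hle : ∀ {A B : Subgroup G}, A.map f ≤ B.map f → A ≤ B := fun hAB => (map_le_map_iff_of_injective hf).1 hAB
  have hcom : ∀ {A B : Subgroup G}, A.map f ≤ centralizer ((B.map f : Subgroup X) : Set X) →
      A ≤ centralizer (B : Set G) := by
    intro A B hAB a ha
    rw [mem_centralizer_iff]
    intro b hb
    apply hf
    rw [map_mul, map_mul]
    exact mem_centralizer_iff.1 (hAB (mem_map_of_mem f ha)) (f b) (mem_map_of_mem f hb)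
  refine ⟨PCoreW.of_map f (fun x _ => hinj x) (hle h.prod.1) (hle h.prod.2.1) h.toPCoreW, ?_, ?_, hle h.le₁, hle h.le₂,
    hcom h.com₁, hcom h.com₂⟩
  · apply hle
    rw [map_commutator]
    exact h.perf₁
  · apply hle
    rw [map_commutator]
    exact h.perf₂

end map

/-! ### Lifting through a kernel of odd order -/

section lift

variable [Finite G] (f : G →* X) (hf : Function.Surjective f) (hk : Odd (Nat.card f.ker))

include hf hk

/-- **The data of Theorem W lift.** -/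
theorem PDataW.lift {P : Subgroup G} (hP : IsPGroup 2 P) {S₁' S₂' D₁' D₂' : Subgroup X}
    (h : PDataW (P.map f) S₁' S₂' D₁' D₂') :
    ∃ D₁ D₂ : Subgroup G, PDataW P (P ⊓ S₁'.comap f) (P ⊓ S₂'.comap f) D₁ D₂ := by
  have e1 := map_comap_eq' f h.prod.1
  have e2 := map_comap_eq' f h.prod.2.1
  have hinj : ∀ x ∈ P, f x = 1 → x = 1 := fun x hx hx1 => StdEven.OddQuot.eq_one_of_mem f hk hP hx hx1
  have hcore : PCoreW P (P ⊓ S₁'.comap f) (P ⊓ S₂'.comap f) :=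
    PCoreW.of_map f hinj inf_le_left inf_le_left (by rw [e1, e2]; exact h.toPCoreW)
  have h2el : ∀ g ∈ P, ∃ k : ℕ, g ^ 2 ^ k = 1 := by
    intro g hg
    obtain ⟨k, hk'⟩ := hP ⟨g, hg⟩
    exact ⟨k, congrArg Subtype.val hk'⟩
  obtain ⟨D₁, a1, a2, a3, a4⟩ := exists_perfect_lift f hf hk (Y := P ⊓ S₂'.comap f) (hP.to_le inf_le_left) h.perf₁
    (by rw [e2]; exact h.com₁)
  obtain ⟨D₂, b1, b2, b3, b4⟩ := exists_perfect_lift f hf hk (Y := P ⊓ S₁'.comap f) (hP.to_le inf_le_left) h.perf₂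
    (by rw [e1]; exact h.com₂)
  refine ⟨D₁, D₂, hcore, a1, b1, fun s hs => ?_, fun s hs => ?_, a2, b2⟩
  · exact a4 s (fun y hy => hcore.prod.2.2.1 s hs y hy) (h.le₁ (mem_inf.1 hs).2) (h2el s (mem_inf.1 hs).1)
  · exact b4 s (fun y hy => (hcore.prod.2.2.1 y hy s hs).symm) (h.le₂ (mem_inf.1 hs).2) (h2el s (mem_inf.1 hs).1)

end lift

end Cfsg.Agent.WreathFusion
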