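import Mathlib
import Cfsg.Agent.WreathFusion.Dich

/-!
# A criterion for central indecomposability

`Chart U f`: `f : U → F × F` is additive, `f x, f y` are linearly dependent whenever `x`, `y` commute, `f U` contains
vectors on both axes and the kernel of `f` lies in `U'`. If `U` is a finite `p`-group then `U` is centrally
indecomposable (`Chart.centIndec`, `Chart.eq_or_eq`).

`CentIndec` and `C_U(U') ≤ U'` are transported along isomorphisms (`centIndec_of_equiv`, `centralizer_le_of_equiv`).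
-/

set_option autoImplicit false

namespace Cfsg.Agent.WreathFusion.ChartUni

open Subgroup
open scoped commutatorElement

variable {G : Type*} [Group G]

/-- see the header -/
structure Chart {F : Type*} [Field F] (U : Subgroup G) (f : G → F × F) : Prop where
  mul : ∀ x ∈ U, ∀ y ∈ U, f (x * y) = f x + f y
  comm : ∀ x ∈ U, ∀ y ∈ U, x * y = y * x → (f x).1 * (f y).2 = (f y).1 * (f x).2
  e1 : ∃ x ∈ U, (f x).1 ≠ 0 ∧ (f x).2 = 0
  e2 : ∃ x ∈ U, (f x).1 = 0 ∧ (f x).2 ≠ 0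
  ker : ∀ x ∈ U, f x = 0 → x ∈ ⁅U, U⁆

variable {F : Type*} [Field F] {U : Subgroup G} {f : G → F × F}

theorem Chart.dich (h : Chart U f) {A B : Subgroup G} (hA : A ≤ U) (hB : B ≤ U)
    (hc : ∀ a ∈ A, ∀ b ∈ B, a * b = b * a) (hs : ∀ s ∈ U, ∃ a ∈ A, ∃ b ∈ B, a * b = s) :
    (∀ a ∈ A, f a = 0) ∨ ∀ b ∈ B, f b = 0 := by
  by_contra hcon
  rw [not_or] at hcon
  obtain ⟨hcA, hcB⟩ := hcon
  push Not at hcA hcB
  obtain ⟨a, ha, ha0⟩ := hcA
  obtain ⟨b, hb, hb0⟩ := hcB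
  have key : ∀ s ∈ U, (f s).1 * (f b).2 = (f b).1 * (f s).2 := by
    intro s hs'
    obtain ⟨a', ha', b', hb', rfl⟩ := hs s hs'
    rw [h.mul _ (hA ha') _ (hB hb')]
    have h1 := h.comm _ (hA ha') _ (hB hb) (hc _ ha' _ hb)
    have h2 := h.comm _ (hA ha) _ (hB hb) (hc _ ha _ hb)
    have h3 := h.comm _ (hA ha) _ (hB hb') (hc _ ha _ hb')
    have h4 : (f b').1 * (f b).2 = (f b).1 * (f b').2 := by
      by_cases h0 : (f a).1 = 0
      · have h5 : (f a).2 ≠ 0 := fun h5 => ha0 (Prod.ext h0 h5)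
        have h6 : (f b).1 = 0 := by
          rw [h0, zero_mul] at h2
          exact (mul_eq_zero.1 h2.symm).resolve_right h5
        have h7 : (f b').1 = 0 := by
          rw [h0, zero_mul] at h3
          exact (mul_eq_zero.1 h3.symm).resolve_right h5
        rw [h6, h7, zero_mul, zero_mul]
      · apply mul_left_cancel₀ h0
        calc (f a).1 * ((f b').1 * (f b).2) = (f b').1 * ((f a).1 * (f b).2) := by ring
          _ = (f b').1 * ((f b).1 * (f a).2) := by rw [h2]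
          _ = (f b).1 * ((f b').1 * (f a).2) := by ring
          _ = (f b).1 * ((f a).1 * (f b').2) := by rw [h3]
          _ = _ := by ring
    simp only [Prod.fst_add, Prod.snd_add, add_mul, mul_add, h1, h4]
  obtain ⟨x, hx, hx1, hx2⟩ := h.e1
  obtain ⟨y, hy, hy1, hy2⟩ := h.e2
  have k1 := key x hx
  rw [hx2, mul_zero] at k1
  have k2 := key y hy
  rw [hy1, zero_mul] at k2
  exact hb0 (Prod.ext ((mul_eq_zero.1 k2.symm).resolve_right hy2) ((mul_eq_zero.1 k1).resolve_left hx1))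

/-- `A U' = U` implies `A = U` in a finite `p`-group -/
theorem eq_of_le_sup {p : ℕ} [Fact p.Prime] {U A : Subgroup G} [Finite U] (hU : IsPGroup p U) (hA : A ≤ U)
    (h : U ≤ A ⊔ ⁅U, U⁆) : A = U := by
  have h1 : A.subgroupOf U ⊔ frattini U = ⊤ := by
    rw [eq_top_iff]
    rintro ⟨x, hx⟩ -
    have h2 : (A.subgroupOf U ⊔ commutator U).map U.subtype = A ⊔ ⁅U, U⁆ := by
      rw [Subgroup.map_sup, Subgroup.map_subtype_commutator, Subgroup.map_subgroupOf_eq_of_le hA]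
    have h3 : x ∈ (A.subgroupOf U ⊔ commutator U).map U.subtype := by
      rw [h2]; exact h hx
    obtain ⟨y, hy, hyx⟩ := h3
    have h4 : y = ⟨x, hx⟩ := Subtype.ext hyx
    rw [← h4]
    exact (sup_le_sup_left (Cfsg.Agent.Lib.FrattiniPGroup.commutator_le_frattini hU) _) hy
  have h2 := frattini_nongenerating h1
  exact le_antisymm hA (Subgroup.subgroupOf_eq_top.1 h2)

/-- the second alternative of `dich`: the other factor is everything -/
theorem Chart.eq_of_zero {p : ℕ} [Fact p.Prime] [Finite U] (hU : IsPGroup p U) (h : Chart U f) {A B : Subgroup G}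
    (hA : A ≤ U) (hB : B ≤ U) (hs : ∀ s ∈ U, ∃ a ∈ A, ∃ b ∈ B, a * b = s) (h0 : ∀ b ∈ B, f b = 0) : A = U := by
  apply eq_of_le_sup hU hA
  intro s hsU
  obtain ⟨a, ha, b, hb, rfl⟩ := hs s hsU
  exact mul_mem (Subgroup.mem_sup_left ha) (Subgroup.mem_sup_right (h.ker _ (hB hb) (h0 b hb)))

theorem Chart.eq_or_eq_of_mul {p : ℕ} [Fact p.Prime] [Finite U] (hU : IsPGroup p U) (h : Chart U f)
    {A B : Subgroup G} (hA : A ≤ U) (hB : B ≤ U)
    (hc : ∀ a ∈ A, ∀ b ∈ B, a * b = b * a) (hs : ∀ s ∈ U, ∃ a ∈ A, ∃ b ∈ B, a * b = s) : A = U ∨ B = U := by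
  rcases h.dich hA hB hc hs with h1 | h1
  · right
    apply h.eq_of_zero hU hB hA _ h1
    intro s hsU
    obtain ⟨a, ha, b, hb, hab⟩ := hs s hsU
    exact ⟨b, hb, a, ha, by rw [← hc a ha b hb]; exact hab⟩
  · exact Or.inl (h.eq_of_zero hU hA hB hs h1)

/-- **(W1)** -/
theorem Chart.centIndec {p : ℕ} [Fact p.Prime] [Finite U] (hU : IsPGroup p U) (h : Chart U f) : CentIndec U := by
  intro A B hA hB hc hs
  rcases h.eq_or_eq_of_mul hU hA hB hc hs with h1 | h1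
  · right
    intro b hb
    rw [mem_centralizer_iff]
    intro u hu
    exact hc u (h1 ▸ hu) b hb
  · left
    intro a ha
    rw [mem_centralizer_iff]
    intro u hu
    exact (hc a ha u (h1 ▸ hu)).symm

theorem exists_mul_of_mem_sup {X Y : Subgroup G} (hc : ∀ x ∈ X, ∀ y ∈ Y, x * y = y * x) {s : G} (hs : s ∈ X ⊔ Y) :
    ∃ x ∈ X, ∃ y ∈ Y, x * y = s := by
  let Z : Subgroup G :=
    { carrier := {s | ∃ x ∈ X, ∃ y ∈ Y, x * y = s}
      one_mem' := ⟨1, one_mem _, 1, one_mem _, one_mul _⟩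
      mul_mem' := by
        rintro _ _ ⟨x, hx, y, hy, rfl⟩ ⟨x', hx', y', hy', rfl⟩
        refine ⟨x * x', mul_mem hx hx', y * y', mul_mem hy hy', ?_⟩
        calc x * x' * (y * y') = x * (x' * y) * y' := by group
          _ = x * (y * x') * y' := by rw [hc x' hx' y hy]
          _ = _ := by group
      inv_mem' := by
        rintro _ ⟨x, hx, y, hy, rfl⟩
        refine ⟨x⁻¹, inv_mem hx, y⁻¹, inv_mem hy, ?_⟩
        rw [hc x hx y hy, mul_inv_rev] }
  have h1 : X ⊔ Y ≤ Z := sup_le (fun x hx => ⟨x, hx, 1, one_mem _, mul_one _⟩)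
    (fun y hy => ⟨1, one_mem _, y, hy, one_mul _⟩)
  exact h1 hs

/-- strong form of central indecomposability -/
theorem Chart.eq_or_eq {p : ℕ} [Fact p.Prime] [Finite U] (hU : IsPGroup p U) (h : Chart U f) (X Y : Subgroup G)
    (hXY : X ⊔ Y = U) (hc : ∀ x ∈ X, ∀ y ∈ Y, x * y = y * x) : X = U ∨ Y = U := by
  apply h.eq_or_eq_of_mul hU (hXY ▸ le_sup_left) (hXY ▸ le_sup_right) hc
  intro s hs
  rw [← hXY] at hs
  exact exists_mul_of_mem_sup hc hs

/-! ### Transport -/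

section Transport

variable {G' : Type*} [Group G'] {S : Subgroup G} {S' : Subgroup G'}

theorem centIndec_of_equiv (e : S ≃* S') (h : CentIndec S) : CentIndec S' := by
  intro A B hA hB hc hs
  -- transport to `G`
  let T : Subgroup G' → Subgroup G := fun A => ((A.subgroupOf S').map e.symm.toMonoidHom).map S.subtype
  have hT : ∀ (A : Subgroup G') (x : G), x ∈ T A ↔ ∃ hx : x ∈ S, (e ⟨x, hx⟩ : G') ∈ A := by
    intro A x
    constructor
    · rintro ⟨y, ⟨z, hz, rfl⟩, rfl⟩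
      refine ⟨(e.symm z).2, ?_⟩
      have e1 : (⟨(S.subtype (e.symm.toMonoidHom z) : G), (e.symm z).2⟩ : S) = e.symm z := rfl
      rw [e1, e.apply_symm_apply]
      exact hz
    · rintro ⟨hx, h1⟩
      exact ⟨⟨x, hx⟩, ⟨e ⟨x, hx⟩, h1, e.symm_apply_apply _⟩, rfl⟩
  have key := h (T A) (T B) (fun x hx => ((hT A x).1 hx).1) (fun x hx => ((hT B x).1 hx).1) ?_ ?_
  · have conv : ∀ A : Subgroup G', A ≤ S' → T A ≤ centralizer (S : Set G) → A ≤ centralizer (S' : Set G') := by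
      intro A hA hTA x hx
      rw [mem_centralizer_iff]
      intro y hy
      have h1 : ((e.symm ⟨x, hA hx⟩ : S) : G) ∈ T A := by
        rw [hT]
        refine ⟨(e.symm ⟨x, hA hx⟩).2, ?_⟩
        have e1 : (⟨((e.symm ⟨x, hA hx⟩ : S) : G), (e.symm ⟨x, hA hx⟩).2⟩ : S) = e.symm ⟨x, hA hx⟩ := rfl
        rw [e1, e.apply_symm_apply]
        exact hx
      have h2 := mem_centralizer_iff.1 (hTA h1) ((e.symm ⟨y, hy⟩ : S) : G) (e.symm ⟨y, hy⟩).2
      have h3 : e.symm ⟨y, hy⟩ * e.symm ⟨x, hA hx⟩ = e.symm ⟨x, hA hx⟩ * e.symm ⟨y, hy⟩ := Subtype.ext h2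
      rw [← map_mul, ← map_mul] at h3
      exact congrArg Subtype.val (e.symm.injective h3)
    rcases key with h1 | h1
    · exact Or.inl (conv A hA h1)
    · exact Or.inr (conv B hB h1)
  · intro a ha b hb
    obtain ⟨ha1, ha2⟩ := (hT A a).1 ha
    obtain ⟨hb1, hb2⟩ := (hT B b).1 hb
    have h1 := hc _ ha2 _ hb2
    have h2 : e ⟨a, ha1⟩ * e ⟨b, hb1⟩ = e ⟨b, hb1⟩ * e ⟨a, ha1⟩ := Subtype.ext h1
    rw [← map_mul, ← map_mul] at h2
    exact congrArg Subtype.val (e.injective h2)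
  · intro s hs'
    obtain ⟨a, ha, b, hb, hab⟩ := hs (e ⟨s, hs'⟩) (e ⟨s, hs'⟩).2
    refine ⟨(e.symm ⟨a, hA ha⟩ : S), ?_, (e.symm ⟨b, hB hb⟩ : S), ?_, ?_⟩
    · rw [hT]
      refine ⟨(e.symm ⟨a, hA ha⟩).2, ?_⟩
      have e1 : (⟨((e.symm ⟨a, hA ha⟩ : S) : G), (e.symm ⟨a, hA ha⟩).2⟩ : S) = e.symm ⟨a, hA ha⟩ := rfl
      rw [e1, e.apply_symm_apply]
      exact ha
    · rw [hT]
      refine ⟨(e.symm ⟨b, hB hb⟩).2, ?_⟩
      have e1 : (⟨((e.symm ⟨b, hB hb⟩ : S) : G), (e.symm ⟨b, hB hb⟩).2⟩ : S) = e.symm ⟨b, hB hb⟩ := rfl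
      rw [e1, e.apply_symm_apply]
      exact hb
    · have h1 : (⟨a, hA ha⟩ : S') * ⟨b, hB hb⟩ = e ⟨s, hs'⟩ := Subtype.ext hab
      have h2 : e.symm ⟨a, hA ha⟩ * e.symm ⟨b, hB hb⟩ = ⟨s, hs'⟩ := by
        rw [← map_mul, h1, e.symm_apply_apply]
      exact congrArg Subtype.val h2

/-- `x ∈ U'` in terms of the group `U` -/
theorem mem_commutator_iff {U : Subgroup G} {x : U} : (x : G) ∈ ⁅U, U⁆ ↔ x ∈ commutator U := by
  rw [← Subgroup.map_subtype_commutator U]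
  constructor
  · rintro ⟨y, hy, hyx⟩
    rwa [show y = x from Subtype.ext hyx] at hy
  · intro h
    exact ⟨x, h, rfl⟩

theorem equiv_mem_commutator (e : S ≃* S') {x : S} (hx : x ∈ commutator S) : e x ∈ commutator S' := by
  have h1 : (commutator S).map e.toMonoidHom = commutator S' := by
    rw [commutator_def, commutator_def, Subgroup.map_commutator]
    have h2 : (⊤ : Subgroup S).map e.toMonoidHom = ⊤ := by
      rw [← MonoidHom.range_eq_map]
      exact MonoidHom.range_eq_top.2 e.surjective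
    rw [h2]
  rw [← h1]
  exact ⟨x, hx, rfl⟩

theorem centralizer_le_of_equiv (e : S ≃* S')
    (h : centralizer ((⁅S, S⁆ : Subgroup G) : Set G) ⊓ S ≤ ⁅S, S⁆) :
    centralizer ((⁅S', S'⁆ : Subgroup G') : Set G') ⊓ S' ≤ ⁅S', S'⁆ := by
  rintro x ⟨hx1, hx2⟩
  have h1 : ((e.symm ⟨x, hx2⟩ : S) : G) ∈ ⁅S, S⁆ := by
    apply h
    refine ⟨?_, (e.symm ⟨x, hx2⟩).2⟩
    change ((e.symm ⟨x, hx2⟩ : S) : G) ∈ centralizer ((⁅S, S⁆ : Subgroup G) : Set G)
    rw [mem_centralizer_iff]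
    intro y hy
    have hyS : y ∈ S := Subgroup.commutator_le_self S hy
    have h2 : e ⟨y, hyS⟩ ∈ commutator S' := equiv_mem_commutator e (mem_commutator_iff.1 hy)
    have h3 : ((e ⟨y, hyS⟩ : S') : G') * x = x * (e ⟨y, hyS⟩ : S') :=
      mem_centralizer_iff.1 hx1 _ (mem_commutator_iff.2 h2)
    have h4 : e ⟨y, hyS⟩ * ⟨x, hx2⟩ = ⟨x, hx2⟩ * e ⟨y, hyS⟩ := Subtype.ext h3
    have h5 := congrArg e.symm h4
    rw [map_mul, map_mul, e.symm_apply_apply] at h5
    exact congrArg Subtype.val h5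
  have h2 := equiv_mem_commutator e (mem_commutator_iff.1 h1)
  rw [e.apply_symm_apply] at h2
  exact mem_commutator_iff.2 h2

end Transport

/-! ### The swap -/

/-- if `S₁`, `S₂ = t S₁ t⁻¹` commute and intersect trivially, then `s ↦ s (t s t⁻¹)` is an isomorphism of `S₁` with its
image `D` -/
theorem exists_diag_equiv {S₁ S₂ D : Subgroup G} {t : G} (hc : ∀ a ∈ S₁, ∀ b ∈ S₂, a * b = b * a)
    (hd : S₁ ⊓ S₂ = ⊥) (ht : ∀ s ∈ S₁, t * s * t⁻¹ ∈ S₂)
    (hD : ∀ g, g ∈ D ↔ ∃ s ∈ S₁, g = s * (t * s * t⁻¹)) :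
    ∃ e : S₁ ≃* D, ∀ s : S₁, (e s : G) = s * (t * s * t⁻¹) := by
  let φ : S₁ →* D :=
    { toFun := fun s => ⟨s * (t * s * t⁻¹), (hD _).2 ⟨s, s.2, rfl⟩⟩
      map_one' := Subtype.ext (by simp)
      map_mul' := by
        rintro ⟨a, ha⟩ ⟨b, hb⟩
        apply Subtype.ext
        change a * b * (t * (a * b) * t⁻¹) = a * (t * a * t⁻¹) * (b * (t * b * t⁻¹))
        have h1 := hc b hb _ (ht a ha)
        calc a * b * (t * (a * b) * t⁻¹) = a * (b * (t * a * t⁻¹)) * (t * b * t⁻¹) := by group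
          _ = a * ((t * a * t⁻¹) * b) * (t * b * t⁻¹) := by rw [h1]
          _ = _ := by group }
  have hinj : Function.Injective φ := by
    rw [injective_iff_map_eq_one]
    rintro ⟨s, hs⟩ h
    have h1 : s * (t * s * t⁻¹) = 1 := congrArg Subtype.val h
    have h2 : s ∈ S₂ := by
      rw [eq_inv_of_mul_eq_one_left h1]
      exact inv_mem (ht s hs)
    have h3 : s ∈ S₁ ⊓ S₂ := ⟨hs, h2⟩
    rw [hd, mem_bot] at h3
    exact Subtype.ext h3
  have hsurj : Function.Surjective φ := by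
    rintro ⟨g, hg⟩
    obtain ⟨s, hs, rfl⟩ := (hD g).1 hg
    exact ⟨⟨s, hs⟩, rfl⟩
  exact ⟨MulEquiv.ofBijective φ ⟨hinj, hsurj⟩, fun s => rfl⟩

end Cfsg.Agent.WreathFusion.ChartUni
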