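import Cfsg.Agent.StdRank2.UFive.Env
import Cfsg.Agent.StdRank2.UFour.SeedPre
import Cfsg.Agent.WreathFusion.ChartUni

/-!
# The Sylow 2-subgroup of `U₅(q)` satisfies the hypotheses of Theorem W

`U = UU E = Q X_a = {p1 q * xc s * p2 r * xa x}`: `centIndec`, `centralizer_le`.
-/

set_option autoImplicit false

namespace Cfsg.Agent.WreathFusion.UFiveUni

open Subgroup Cfsg.Agent.StdRank2.UFour Cfsg.Agent.StdRank2.UFour.SeedPre
open Cfsg.Agent.StdRank2.UFive (Tp)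
open scoped commutatorElement

variable {F : Type*} [Field F] [CharP F 2] {B : Bar F} {G : Type*} [Group G] (E : Cfsg.Agent.StdRank2.UFive.Env B G)

/-- the elements of `U` -/
def co (q : Tp B) (s : F) (r : Tp B) (x : F) : G := E.p1 q * E.xc s * E.p2 r * E.xa x

theorem p1_one : E.p1 1 = 1 := by
  have := E.p1_mul 1 1
  rw [one_mul] at this
  exact left_eq_mul.1 this

theorem p2_one : E.p2 1 = 1 := by
  have := E.p2_mul 1 1
  rw [one_mul] at this
  exact left_eq_mul.1 this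

theorem p1_inv (q : Tp B) : (E.p1 q)⁻¹ = E.p1 q⁻¹ := by
  rw [inv_eq_iff_mul_eq_one, ← E.p1_mul, mul_inv_cancel, p1_one]

theorem p2_inv (q : Tp B) : (E.p2 q)⁻¹ = E.p2 q⁻¹ := by
  rw [inv_eq_iff_mul_eq_one, ← E.p2_mul, mul_inv_cancel, p2_one]

theorem xc_inv (x : F) : (E.xc x)⁻¹ = E.xc x := WEnv.inv_of_sq (E.xc_sq x)
theorem xa_inv (x : F) : (E.xa x)⁻¹ = E.xa x := WEnv.inv_of_sq (E.xa_sq x)

theorem p1_mem (q : Tp B) : E.p1 q ∈ E.Q :=
  (E.mem_Q _).2 ⟨q, 0, 1, by rw [E.xc_zero, p2_one, mul_one, mul_one]⟩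

theorem p2_mem (q : Tp B) : E.p2 q ∈ E.Q :=
  (E.mem_Q _).2 ⟨1, 0, q, by rw [E.xc_zero, p1_one, mul_one, one_mul]⟩

theorem xc_p1 (x : F) (q : Tp B) : E.xc x * E.p1 q = E.p1 q * E.xc x := E.c_Q x _ (p1_mem E q)
theorem xc_p2 (x : F) (q : Tp B) : E.xc x * E.p2 q = E.p2 q * E.xc x := E.c_Q x _ (p2_mem E q)

theorem mem_UU_iff {g : G} : g ∈ UU E.toWEnv ↔ ∃ q s r x, g = co E q s r x := by
  rw [mem_UU]
  constructor
  · rintro ⟨q, hq, x, rfl⟩
    obtain ⟨a, s, r, rfl⟩ := (E.mem_Q q).1 hq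
    exact ⟨a, s, r, x, rfl⟩
  · rintro ⟨q, s, r, x, rfl⟩
    exact ⟨_, (E.mem_Q _).2 ⟨q, s, r, rfl⟩, x, rfl⟩

theorem co_mem (q : Tp B) (s : F) (r : Tp B) (x : F) : co E q s r x ∈ UU E.toWEnv :=
  (mem_UU_iff E).2 ⟨q, s, r, x, rfl⟩

/-- uniqueness of the normal form -/
theorem co_inj {q q' r r' : Tp B} {s s' x x' : F} (h : co E q s r x = co E q' s' r' x') :
    q = q' ∧ s = s' ∧ r = r' ∧ x = x' := by
  have hQ : (E.p1 q' * E.xc s' * E.p2 r')⁻¹ * (E.p1 q * E.xc s * E.p2 r) ∈ E.Q :=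
    mul_mem (inv_mem ((E.mem_Q _).2 ⟨q', s', r', rfl⟩)) ((E.mem_Q _).2 ⟨q, s, r, rfl⟩)
  obtain ⟨a, b, c, habc⟩ := (E.mem_Q _).1 hQ
  have h1 : E.p1 a * E.xc b * E.p2 c * E.xa (x + x') = 1 := by
    rw [← habc, E.xa_add]
    unfold co at h
    have h2 : E.p1 q * E.xc s * E.p2 r * E.xa x * E.xa x' = E.p1 q' * E.xc s' * E.p2 r' := by
      rw [h, mul_assoc, E.xa_sq, mul_one]
    calc (E.p1 q' * E.xc s' * E.p2 r')⁻¹ * (E.p1 q * E.xc s * E.p2 r) * (E.xa x * E.xa x')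
        = (E.p1 q' * E.xc s' * E.p2 r')⁻¹ * (E.p1 q * E.xc s * E.p2 r * E.xa x * E.xa x') := by group
      _ = 1 := by rw [h2, inv_mul_cancel]
  obtain ⟨-, -, -, hx⟩ := E.u_inj _ _ _ _ h1
  have hxx : x = x' := by
    have := Bar.add_self x'
    linear_combination hx - this
  subst hxx
  have h2 : E.p1 q * E.xc s * E.p2 r = E.p1 q' * E.xc s' * E.p2 r' := mul_right_cancel h
  have h3 : E.p1 (q'⁻¹ * q) * E.xc (s + s') * E.p2 (r * r'⁻¹) * E.xa 0 = 1 := by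
    rw [E.xa_zero, mul_one, E.p1_mul, E.p2_mul, E.xc_add, ← p1_inv, ← p2_inv]
    calc (E.p1 q')⁻¹ * E.p1 q * (E.xc s * E.xc s') * (E.p2 r * (E.p2 r')⁻¹)
        = (E.p1 q')⁻¹ * E.p1 q * E.xc s * (E.xc s' * E.p2 r) * (E.p2 r')⁻¹ := by group
      _ = (E.p1 q')⁻¹ * (E.p1 q * E.xc s * E.p2 r) * E.xc s' * (E.p2 r')⁻¹ := by rw [xc_p2]; group
      _ = (E.p1 q')⁻¹ * (E.p1 q' * E.xc s' * E.p2 r') * E.xc s' * (E.p2 r')⁻¹ := by rw [h2]
      _ = E.xc s' * (E.p2 r' * E.xc s') * (E.p2 r')⁻¹ := by group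
      _ = E.xc s' * (E.xc s' * E.p2 r') * (E.p2 r')⁻¹ := by rw [xc_p2]
      _ = E.xc s' * E.xc s' := by group
      _ = 1 := E.xc_sq _
  obtain ⟨h4, h5, h6, -⟩ := E.u_inj _ _ _ _ h3
  refine ⟨(inv_mul_eq_one.1 h4).symm, ?_, mul_inv_eq_one.1 h6, rfl⟩
  have := Bar.add_self s'
  linear_combination h5 - this

/-- the multiplication, as far as it is needed -/
theorem co_mul (q q' r r' : Tp B) (s s' x x' : F) :
    ∃ Q S, co E q s r x * co E q' s' r' x' = co E Q S (r * r') (x + x') ∧ Q.w = q.w + q'.w + B.s x * r'.w := by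
  -- conjugation by `xa x`
  have h1 : E.xa x * (E.p1 q' * E.xc s' * E.p2 r') * (E.xa x)⁻¹ =
      E.p1 (q' * Tp.ofK (B.tr (x * B.s s')) * Tp.sm (B.s x) r') * E.xc (s' + x * B.s r'.c) * E.p2 r' := by
    have e1 : E.xa x * E.p1 q' * (E.xa x)⁻¹ = E.p1 q' := by
      rw [E.a_1]; group
    calc E.xa x * (E.p1 q' * E.xc s' * E.p2 r') * (E.xa x)⁻¹
        = (E.xa x * E.p1 q' * (E.xa x)⁻¹) * (E.xa x * E.xc s' * (E.xa x)⁻¹) *
            (E.xa x * E.p2 r' * (E.xa x)⁻¹) := by group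
      _ = E.p1 q' * (E.xz (B.tr (x * B.s s')) * E.xc s') *
            (E.p1 (Tp.sm (B.s x) r') * E.xc (x * B.s r'.c) * E.p2 r') := by rw [e1, E.a_c, E.a_2]
      _ = E.p1 q' * E.p1 (Tp.ofK (B.tr (x * B.s s'))) * (E.xc s' * E.p1 (Tp.sm (B.s x) r')) *
            E.xc (x * B.s r'.c) * E.p2 r' := by rw [E.p1_K]; group
      _ = E.p1 q' * E.p1 (Tp.ofK (B.tr (x * B.s s'))) * (E.p1 (Tp.sm (B.s x) r') * E.xc s') *
            E.xc (x * B.s r'.c) * E.p2 r' := by rw [xc_p1]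
      _ = _ := by rw [E.p1_mul, E.p1_mul, E.xc_add]; group
  set Q' := q' * Tp.ofK (B.tr (x * B.s s')) * Tp.sm (B.s x) r' with hQ'
  set S' := s' + x * B.s r'.c with hS'
  -- moving `p2 r` over `p1 Q'`
  have h2 : E.p2 r * E.p1 Q' = E.p1 Q' * E.xc (r.w * B.s Q'.w) * E.p2 r := by
    have e1 := E.one_two Q' r
    have e2 : E.p1 Q' * E.p2 r = E.xc (r.w * B.s Q'.w) * E.p2 r * E.p1 Q' := by
      rw [← e1]; group
    have e3 : E.p2 r * E.p1 Q' = E.xc (r.w * B.s Q'.w) * (E.p1 Q' * E.p2 r) := by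
      rw [e2]
      calc E.p2 r * E.p1 Q' = (E.xc (r.w * B.s Q'.w) * E.xc (r.w * B.s Q'.w)) * E.p2 r * E.p1 Q' := by
            rw [E.xc_sq, one_mul]
        _ = _ := by group
    rw [e3, ← mul_assoc, xc_p1]
  refine ⟨q * Q', s + r.w * B.s Q'.w + S', ?_, ?_⟩
  · unfold co
    calc E.p1 q * E.xc s * E.p2 r * E.xa x * (E.p1 q' * E.xc s' * E.p2 r' * E.xa x')
        = E.p1 q * E.xc s * E.p2 r * (E.xa x * (E.p1 q' * E.xc s' * E.p2 r') * (E.xa x)⁻¹) *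
            (E.xa x * E.xa x') := by group
      _ = E.p1 q * E.xc s * (E.p2 r * E.p1 Q') * E.xc S' * E.p2 r' * E.xa (x + x') := by
          rw [h1, E.xa_add]; group
      _ = E.p1 q * (E.xc s * E.p1 Q') * E.xc (r.w * B.s Q'.w) * (E.p2 r * E.xc S') * E.p2 r' *
            E.xa (x + x') := by rw [h2]; group
      _ = E.p1 q * (E.p1 Q' * E.xc s) * E.xc (r.w * B.s Q'.w) * (E.xc S' * E.p2 r) * E.p2 r' *
            E.xa (x + x') := by rw [xc_p1, ← xc_p2]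
      _ = _ := by rw [E.p1_mul q Q', E.p2_mul r r', E.xc_add (s + _) S', E.xc_add s]; group
  · simp only [hQ', Tp.mul_w, Tp.ofK_w, Tp.sm_w, add_zero, add_assoc]

open Classical in
/-- the chart -/
noncomputable def f (g : G) : F × F :=
  if h : ∃ q s r x, g = co E q s r x then (B.s h.choose_spec.choose_spec.choose_spec.choose,
    h.choose_spec.choose_spec.choose.w) else 0

theorem f_co (q : Tp B) (s : F) (r : Tp B) (x : F) : f E (co E q s r x) = (B.s x, r.w) := by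
  have h : ∃ q' s' r' x', co E q s r x = co E q' s' r' x' := ⟨q, s, r, x, rfl⟩
  unfold f
  rw [dif_pos h]
  obtain ⟨-, -, h3, h4⟩ := co_inj E h.choose_spec.choose_spec.choose_spec.choose_spec
  exact Prod.ext (congrArg B.s h4.symm) (congrArg Tp.w h3.symm)

/-! ### Elements of `U'` -/

theorem exists_w (w : F) : ∃ q : Tp B, q.w = w := by
  obtain ⟨c, hc⟩ := B.tr_surj (B.nm w)
  exact ⟨⟨w, c, congrArg Subtype.val hc⟩, rfl⟩

theorem xa_mem' (x : F) : E.xa x ∈ UU E.toWEnv := a_mem _ x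
theorem Q_mem' {g : G} (hg : g ∈ E.Q) : g ∈ UU E.toWEnv := Q_le _ hg

theorem xc_mem_comm (x : F) : E.xc x ∈ ⁅UU E.toWEnv, UU E.toWEnv⁆ := by
  obtain ⟨q, hq⟩ := exists_w (B := B) 1
  obtain ⟨r, hr⟩ := exists_w (B := B) x
  have h1 := E.one_two q r
  rw [hq, hr, map_one, mul_one] at h1
  have h2 : E.xc x = ⁅E.p1 q, E.p2 r⁆ := by
    rw [commutatorElement_def, h1]; group
  rw [h2]
  exact Subgroup.commutator_mem_commutator (Q_mem' E (p1_mem E q)) (Q_mem' E (p2_mem E r))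

theorem xb_mem_comm (k : B.K) : E.xb k ∈ ⁅UU E.toWEnv, UU E.toWEnv⁆ := by
  obtain ⟨y, hy⟩ := B.tr_surj k
  obtain ⟨q, hq⟩ := exists_w (B := B) 1
  obtain ⟨r, hr⟩ := exists_w (B := B) y
  have h1 : q * r = Tp.ofK k * (r * q) := by
    ext
    · simp [hq, hr, add_comm]
    · simp only [Tp.mul_c, Tp.mul_w, Tp.ofK_c, Tp.ofK_w, hq, hr, map_one, map_zero, mul_one, mul_zero, one_mul,
        add_zero]
      have h2 : (k : F) = y + B.s y := (congrArg Subtype.val hy).symm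
      have h3 := Bar.add_self (B.s y)
      linear_combination (-h2) - h3
  have h2 : E.xb k = ⁅E.p2 q, E.p2 r⁆ := by
    rw [commutatorElement_def, ← E.p2_mul, h1, E.p2_mul, E.p2_mul, E.p2_K]; group
  rw [h2]
  exact Subgroup.commutator_mem_commutator (Q_mem' E (p2_mem E q)) (Q_mem' E (p2_mem E r))

theorem p1_mem_comm (q : Tp B) : E.p1 q ∈ ⁅UU E.toWEnv, UU E.toWEnv⁆ := by
  have h1 := E.a_2 1 q
  have e1 : Tp.sm (B.s 1) q = q := by
    ext <;> simp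
  rw [e1] at h1
  have h2 : E.p1 q * E.xc (1 * B.s q.c) = ⁅E.xa 1, E.p2 q⁆ := by
    rw [commutatorElement_def, h1]; group
  have h3 : E.p1 q = ⁅E.xa 1, E.p2 q⁆ * E.xc (1 * B.s q.c) := by
    rw [← h2, mul_assoc, E.xc_sq, mul_one]
  rw [h3]
  exact mul_mem (Subgroup.commutator_mem_commutator (xa_mem' E 1) (Q_mem' E (p2_mem E q))) (xc_mem_comm E _)

theorem co_mem_comm (q : Tp B) (s : F) {r : Tp B} (hr : r.w = 0) : co E q s r 0 ∈ ⁅UU E.toWEnv, UU E.toWEnv⁆ := by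
  have h1 : r.c + B.s r.c = 0 := by rw [r.ok, hr, zero_mul]
  have h2 : B.s r.c = r.c := by
    have := Bar.add_self r.c
    linear_combination h1 - this
  have h3 : r = Tp.ofK ⟨r.c, h2⟩ := by
    ext
    · exact hr
    · rfl
  unfold co
  rw [E.xa_zero, mul_one, h3, E.p2_K]
  exact mul_mem (mul_mem (p1_mem_comm E q) (xc_mem_comm E s)) (xb_mem_comm E _)

theorem chart : ChartUni.Chart (UU E.toWEnv) (f E) where
  mul g hg g' hg' := by
    obtain ⟨q, s, r, x, rfl⟩ := (mem_UU_iff E).1 hg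
    obtain ⟨q', s', r', x', rfl⟩ := (mem_UU_iff E).1 hg'
    obtain ⟨Q, S, h1, -⟩ := co_mul E q q' r r' s s' x x'
    rw [h1, f_co, f_co, f_co, map_add]
    rfl
  comm g hg g' hg' hc := by
    obtain ⟨q, s, r, x, rfl⟩ := (mem_UU_iff E).1 hg
    obtain ⟨q', s', r', x', rfl⟩ := (mem_UU_iff E).1 hg'
    obtain ⟨Q, S, h1, h2⟩ := co_mul E q q' r r' s s' x x'
    obtain ⟨Q', S', h1', h2'⟩ := co_mul E q' q r' r s' s x' x
    rw [h1, h1'] at hc
    obtain ⟨h3, -, -, -⟩ := co_inj E hc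
    rw [f_co, f_co]
    have h4 := congrArg Tp.w h3
    rw [h2, h2'] at h4
    change B.s x * r'.w = B.s x' * r.w
    linear_combination h4
  e1 := by
    refine ⟨co E 1 0 1 1, co_mem E _ _ _ _, ?_⟩
    rw [f_co]
    simp
  e2 := by
    obtain ⟨q, hq⟩ := exists_w (B := B) 1
    refine ⟨co E 1 0 q 0, co_mem E _ _ _ _, ?_⟩
    rw [f_co, hq]
    simp
  ker g hg h0 := by
    obtain ⟨q, s, r, x, rfl⟩ := (mem_UU_iff E).1 hg
    rw [f_co] at h0
    have hx : x = 0 := (map_eq_zero_iff B.s B.s.injective).1 (congrArg Prod.fst h0)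
    have hr : r.w = 0 := congrArg Prod.snd h0
    subst hx
    exact co_mem_comm E q s hr

/-- **(W1)** -/
theorem centIndec [Finite (UU E.toWEnv)] (hU : IsPGroup 2 (UU E.toWEnv)) : CentIndec (UU E.toWEnv) :=
  (chart E).centIndec hU

/-- **(W2)** -/
theorem centralizer_le :
    centralizer ((⁅UU E.toWEnv, UU E.toWEnv⁆ : Subgroup G) : Set G) ⊓ UU E.toWEnv ≤ ⁅UU E.toWEnv, UU E.toWEnv⁆ := by
  rintro g ⟨hg1, hg2⟩
  obtain ⟨q, s, r, x, rfl⟩ := (mem_UU_iff E).1 hg2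
  have hcen : ∀ w ∈ ⁅UU E.toWEnv, UU E.toWEnv⁆, w * co E q s r x = co E q s r x * w :=
    fun w hw => mem_centralizer_iff.1 hg1 w hw
  -- `x = 0`
  have hx : x = 0 := by
    obtain ⟨Q, S, h1, h2⟩ := co_mul E q 1 r (Tp.ofK 1) s 0 x 0
    have e1 : co E 1 0 (Tp.ofK 1) 0 = E.xb 1 := by
      unfold co
      rw [p1_one, E.xc_zero, E.xa_zero, E.p2_K, one_mul, one_mul, mul_one]
    have h3 := hcen _ (xb_mem_comm E 1)
    -- conjugation
    have hQ : E.p1 q * E.xc s * E.p2 r ∈ E.Q := (E.mem_Q _).2 ⟨q, s, r, rfl⟩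
    have h4 : E.xb 1 * E.xa x = E.xa x * E.xb 1 := by
      have h5 := E.b_Q 1 _ hQ
      unfold co at h3
      have h6 : (E.p1 q * E.xc s * E.p2 r) * (E.xb 1 * E.xa x) = (E.p1 q * E.xc s * E.p2 r) * (E.xa x * E.xb 1) := by
        rw [← mul_assoc, ← h5, mul_assoc, h3]
        group
      exact mul_left_cancel h6
    have h5 := E.a_b x 1
    rw [← h4] at h5
    have h6 : E.xz (B.nm x * 1) * E.xc (x * ((1 : B.K) : F)) * E.xb 0 = 1 := by
      rw [E.xb_zero, mul_one]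
      have h7 : E.xb 1 * E.xa x * (E.xa x)⁻¹ = E.xb 1 := by group
      rw [h7] at h5
      have h8 : E.xz (B.nm x * 1) * E.xc (x * ((1 : B.K) : F)) * E.xb 1 = 1 * E.xb 1 := by
        rw [one_mul]; exact h5.symm
      exact mul_right_cancel h8
    obtain ⟨-, h7, -⟩ := E.w_inj _ _ _ h6
    simpa using h7
  subst hx
  -- `r.w = 0`
  have hr : r.w = 0 := by
    obtain ⟨q', hq'⟩ := exists_w (B := B) 1
    have h1 := hcen _ (p1_mem_comm E q')
    have h2 : E.p2 r * E.p1 q' = E.p1 q' * E.xc (r.w) * E.p2 r := by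
      have e1 := E.one_two q' r
      rw [hq', map_one, mul_one] at e1
      have e2 : E.p1 q' * E.p2 r = E.xc r.w * E.p2 r * E.p1 q' := by
        rw [← e1]; group
      have e3 : E.p2 r * E.p1 q' = E.xc r.w * (E.p1 q' * E.p2 r) := by
        rw [e2]
        calc E.p2 r * E.p1 q' = (E.xc r.w * E.xc r.w) * E.p2 r * E.p1 q' := by
              rw [E.xc_sq, one_mul]
          _ = _ := by group
      rw [e3, ← mul_assoc, xc_p1]
    have e1 : E.p1 q' * co E q s r 0 = co E (q' * q) s r 0 := by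
      unfold co
      rw [E.p1_mul]; group
    have e2 : co E q s r 0 * E.p1 q' = co E (q * q') (s + r.w) r 0 := by
      unfold co
      rw [E.xa_zero, mul_one, mul_one]
      calc E.p1 q * E.xc s * E.p2 r * E.p1 q' = E.p1 q * E.xc s * (E.p2 r * E.p1 q') := by group
        _ = E.p1 q * (E.xc s * E.p1 q') * E.xc r.w * E.p2 r := by rw [h2]; group
        _ = E.p1 q * (E.p1 q' * E.xc s) * E.xc r.w * E.p2 r := by rw [xc_p1]
        _ = _ := by rw [E.p1_mul, E.xc_add]; group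
    rw [e1, e2] at h1
    obtain ⟨-, h3, -, -⟩ := co_inj E h1
    linear_combination (-1 : F) * h3
  exact co_mem_comm E q s hr

/-! ### `U` is a finite 2-group -/

theorem sq_mem_Q {g : G} (hg : g ∈ UU E.toWEnv) : g * g ∈ E.Q := by
  obtain ⟨q, s, r, x, rfl⟩ := (mem_UU_iff E).1 hg
  obtain ⟨Q, S, h1, -⟩ := co_mul E q q r r s s x x
  rw [h1, Bar.add_self]
  unfold co
  rw [E.xa_zero, mul_one]
  exact (E.mem_Q _).2 ⟨_, _, _, rfl⟩

theorem pow_four {g : G} (hg : g ∈ E.Q) : g ^ 4 = 1 := by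
  obtain ⟨q, s, r, rfl⟩ := (E.mem_Q g).1 hg
  have e0 : E.p1 q * E.xc s * E.p2 r = co E q s r 0 := by
    unfold co
    rw [E.xa_zero, mul_one]
  obtain ⟨Q, S, h1, h2⟩ := co_mul E q q r r s s 0 0
  have hQ : Q.w = 0 := by
    rw [h2, map_zero, zero_mul, add_zero, Bar.add_self]
  have hR : (r * r).w = 0 := by
    rw [Tp.mul_w, Bar.add_self]
  have key : ∀ r : Tp B, r.w = 0 → ∃ k, r = Tp.ofK k := by
    intro r hr
    have h1 : r.c + B.s r.c = 0 := by rw [r.ok, hr, zero_mul]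
    have h2 : B.s r.c = r.c := by
      have := Bar.add_self r.c
      linear_combination h1 - this
    exact ⟨⟨r.c, h2⟩, by ext; exacts [hr, rfl]⟩
  obtain ⟨k, hk⟩ := key Q hQ
  obtain ⟨l, hl⟩ := key (r * r) hR
  have h3 : (E.p1 q * E.xc s * E.p2 r) * (E.p1 q * E.xc s * E.p2 r) = E.w (k, S, l) := by
    rw [e0, h1, add_zero, hk, hl]
    unfold co WEnv.w
    rw [E.p1_K, E.p2_K, E.xa_zero, mul_one]
  have h4 : ∀ a : G, a ^ 4 = (a * a) * (a * a) := fun a => by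
    rw [show (4 : ℕ) = 2 + 2 from rfl, pow_add, pow_two]
  rw [h4, h3, E.w_sq]

theorem isPGroup : IsPGroup 2 (UU E.toWEnv) := by
  rintro ⟨g, hg⟩
  refine ⟨3, Subtype.ext ?_⟩
  change g ^ 8 = 1
  have h1 := pow_four E (sq_mem_Q E hg)
  rw [← pow_two, ← pow_mul] at h1
  exact h1

theorem finite [Finite F] : Finite (UU E.toWEnv) := by
  have : Finite (Tp B) := Finite.of_injective (fun q : Tp B => (q.w, q.c))
    (fun q r h => Tp.ext (congrArg Prod.fst h) (congrArg Prod.snd h))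
  exact Finite.of_surjective (fun v : Tp B × F × Tp B × F => (⟨co E v.1 v.2.1 v.2.2.1 v.2.2.2, co_mem E _ _ _ _⟩ :
    UU E.toWEnv)) (by
      rintro ⟨g, hg⟩
      obtain ⟨q, s, r, x, rfl⟩ := (mem_UU_iff E).1 hg
      exact ⟨(q, s, r, x), rfl⟩)

/-- **(W1)** for a finite field -/
theorem centIndec_of_finite [Finite F] : CentIndec (UU E.toWEnv) := by
  have := finite E
  exact centIndec E (isPGroup E)

end Cfsg.Agent.WreathFusion.UFiveUni
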