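import Mathlib
import Cfsg.Agent.WreathFusion.PairW

/-!
# `Zen` and `AbC` along isomorphisms

`Zen.of_equiv`, `AbC.of_equiv`; `Zen.of_cent`, `AbC.of_cent`: from `C_S(S') ≤ S'`.
`PDataW.of_swap`: the data of the weak form of Theorem W from `S₁ ≤ D₁ = D`, `S₂ = S₁^t`, `D₂ = D^t`.
-/

set_option autoImplicit false

namespace Cfsg.Agent.WreathFusion

open Subgroup
open scoped commutatorElement

variable {G : Type*} [Group G] {X : Type*} [Group X]

theorem Zen.of_equiv {S : Subgroup G} {S' : Subgroup X} (e : S ≃* S') (h : Zen S') : Zen S := by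
  have h1 : Zen (⊤ : Subgroup ↥S') := by
    apply Zen.of_map S'.subtype (fun x _ hx => S'.subtype_injective (hx.trans (map_one _).symm))
    rw [← MonoidHom.range_eq_map, S'.range_subtype]
    exact h
  have h2 : Zen (⊤ : Subgroup ↥S) := by
    apply Zen.of_map e.toMonoidHom (fun x _ hx => e.injective (hx.trans (map_one e).symm))
    rw [← MonoidHom.range_eq_map, MonoidHom.range_eq_top.2 e.surjective]
    exact h1
  have h3 := h2.map S.subtype S.subtype_injective
  rwa [← MonoidHom.range_eq_map, S.range_subtype] at h3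

theorem AbC.of_equiv {S : Subgroup G} {S' : Subgroup X} (e : S ≃* S') (h : AbC S') : AbC S := by
  have h1 : AbC (⊤ : Subgroup ↥S') := by
    apply AbC.of_map S'.subtype (fun x _ hx => S'.subtype_injective (hx.trans (map_one _).symm))
    rw [← MonoidHom.range_eq_map, S'.range_subtype]
    exact h
  have h2 : AbC (⊤ : Subgroup ↥S) := by
    apply AbC.of_map e.toMonoidHom (fun x _ hx => e.injective (hx.trans (map_one e).symm))
    rw [← MonoidHom.range_eq_map, MonoidHom.range_eq_top.2 e.surjective]
    exact h1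
  have h3 := h2.map S.subtype S.subtype_injective
  rwa [← MonoidHom.range_eq_map, S.range_subtype] at h3

theorem Zen.of_cent {S : Subgroup G} (h : centralizer ((⁅S, S⁆ : Subgroup G) : Set G) ⊓ S ≤ ⁅S, S⁆) : Zen S := by
  intro x hx
  obtain ⟨hxc, hxS⟩ := mem_inf.1 hx
  apply h
  refine mem_inf.2 ⟨?_, hxS⟩
  rw [mem_centralizer_iff]
  exact fun y hy => mem_centralizer_iff.1 hxc y (commutator_le_self S hy)

theorem AbC.of_cent {S : Subgroup G} (h : centralizer ((⁅S, S⁆ : Subgroup G) : Set G) ⊓ S ≤ ⁅S, S⁆) : AbC S := by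
  intro x hx hxc y hy hyc
  exact mem_centralizer_iff.1 hyc x (h (mem_inf.2 ⟨hxc, hx⟩))

/-- The data of the weak form of Theorem W from a factor and its conjugate. -/
theorem PDataW.of_swap {P S D : Subgroup G} {t : G}
    (hprod : Cfsg.IsInternalDirectProduct S (S.map (MulAut.conj t).toMonoidHom) P) (hne : S ≠ ⊥)
    (hi : CentIndec S) (hz : Zen S) (ha : AbC S) (hle : S ≤ D) (hperf : D ≤ ⁅D, D⁆) (htt : t * t = 1)
    (hcomm : ∀ x ∈ D, ∀ y ∈ D, x * (t * y * t) = t * y * t * x) :
    PDataW P S (S.map (MulAut.conj t).toMonoidHom) D (D.map (MulAut.conj t).toMonoidHom) := by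
  have hinj : Function.Injective (MulAut.conj t).toMonoidHom := (MulAut.conj t).injective
  have ht : t⁻¹ = t := inv_eq_of_mul_eq_one_right htt
  have hcj : ∀ x, (MulAut.conj t).toMonoidHom x = t * x * t := by
    intro x
    change t * x * t⁻¹ = _
    rw [ht]
  refine
    { prod := hprod
      card_eq := ?_
      ne₁ := hne
      ne₂ := fun e => hne ((map_eq_bot_iff_of_injective _ hinj).1 e)
      ind₁ := hi
      ind₂ := hi.map _ hinj
      zen₁ := hz
      zen₂ := hz.map _ hinj
      ab₁ := ha
      ab₂ := ha.map _ hinj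
      perf₁ := hperf
      perf₂ := ?_
      le₁ := hle
      le₂ := map_mono hle
      com₁ := ?_
      com₂ := ?_ }
  · exact Nat.card_congr (S.equivMapOfInjective _ hinj).toEquiv
  · rw [← map_commutator]
    exact map_mono hperf
  · intro x hx
    rw [mem_centralizer_iff]
    rintro _ ⟨y, hy, rfl⟩
    rw [hcj]
    exact (hcomm x hx y (hle hy)).symm
  · rintro _ ⟨x, hx, rfl⟩
    rw [mem_centralizer_iff]
    intro y hy
    rw [hcj]
    exact hcomm y (hle hy) x hx

end Cfsg.Agent.WreathFusion
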