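import Cfsg.Agent.StdRank2.UFour.SeedPre
import Cfsg.Agent.WreathFusion.ChartUni

/-!
# The Sylow 2-subgroup of `U₄(q)`: central indecomposability and torus facts

`U = UU E = W X_a = {w v * xa s}`: `centIndec`, `eq_or_eq` (strong form), `center_le` (`Z(U) ≤ U'`), `le_commutator_T`
(`U ≤ [U, T]`), `fixed` (`C_{Z(U)}(T) = 1`). Note that `C_U(U') = W` is not contained in `U' = X_z X_c`.
-/

set_option autoImplicit false

namespace Cfsg.Agent.WreathFusion.UFourUni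

open Subgroup Cfsg.Agent.StdRank2.UFour Cfsg.Agent.StdRank2.UFour.SeedPre
open scoped commutatorElement

variable {F : Type*} [Field F] [CharP F 2] {B : Bar F} {G : Type*} [Group G] (E : Env B G)

theorem mem_UU_iff {g : G} : g ∈ UU E.toWEnv ↔ ∃ (v : B.V) (s : F), g = E.w v * E.xa s := by
  rw [mem_UU]
  constructor
  · rintro ⟨q, hq, s, rfl⟩
    obtain ⟨x, y, z, rfl⟩ := E.Q_le q hq
    exact ⟨(x, y, z), s, rfl⟩
  · rintro ⟨v, s, rfl⟩
    exact ⟨_, E.w_mem_Q v, s, rfl⟩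

theorem co_mem (v : B.V) (s : F) : E.w v * E.xa s ∈ UU E.toWEnv := (mem_UU_iff E).2 ⟨v, s, rfl⟩

theorem xa_inv (x : F) : (E.xa x)⁻¹ = E.xa x := WEnv.inv_of_sq (E.xa_sq x)

theorem xa_eq_w {x : F} {v : B.V} (h : E.xa x = E.w v) : x = 0 := by
  -- `xa x` centralises `xb 1`
  have h1 := E.a_b x 1
  have h2 : E.xa x * E.xb 1 * (E.xa x)⁻¹ = E.xb 1 := by
    have h3 := E.w_comm v (0, 0, 1)
    rw [E.w_b] at h3
    rw [h, h3]; group
  rw [h2] at h1
  have h3 : E.xz (B.nm x * 1) * E.xc (x * ((1 : B.K) : F)) * E.xb 0 = 1 := by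
    rw [E.xb_zero, mul_one]
    have h8 : E.xz (B.nm x * 1) * E.xc (x * ((1 : B.K) : F)) * E.xb 1 = 1 * E.xb 1 := by
      rw [one_mul]; exact h1.symm
    exact mul_right_cancel h8
  obtain ⟨-, h7, -⟩ := E.w_inj _ _ _ h3
  simpa using h7

theorem co_inj {v v' : B.V} {s s' : F} (h : E.w v * E.xa s = E.w v' * E.xa s') : v = v' ∧ s = s' := by
  have h1 : E.xa (s + s') = E.w (v + v') := by
    rw [E.xa_add, E.w_add]
    have h2 : E.w v * E.xa s * E.xa s' = E.w v' := by rw [h, mul_assoc, E.xa_sq, mul_one]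
    calc E.xa s * E.xa s' = (E.w v * E.w v) * (E.xa s * E.xa s') := by rw [E.w_sq, one_mul]
      _ = E.w v * (E.w v * E.xa s * E.xa s') := by group
      _ = _ := by rw [h2]
  have h2 := xa_eq_w E h1
  have h3 : s = s' := by
    have := Bar.add_self s'
    linear_combination h2 - this
  subst h3
  exact ⟨E.w_injective (mul_right_cancel h), rfl⟩

theorem co_mul (v v' : B.V) (s s' : F) :
    E.w v * E.xa s * (E.w v' * E.xa s') = E.w (v + B.ma s v') * E.xa (s + s') := by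
  rw [E.w_add, ← E.conj_ma, E.xa_add]; group

open Classical in
/-- the chart -/
noncomputable def f (g : G) : F × F :=
  if h : ∃ (v : B.V) (s : F), g = E.w v * E.xa s then (h.choose_spec.choose, (h.choose.2.2 : F)) else 0

theorem f_co (v : B.V) (s : F) : f E (E.w v * E.xa s) = (s, (v.2.2 : F)) := by
  have h : ∃ (v' : B.V) (s' : F), E.w v * E.xa s = E.w v' * E.xa s' := ⟨v, s, rfl⟩
  unfold f
  rw [dif_pos h]
  obtain ⟨h3, h4⟩ := co_inj E h.choose_spec.choose_spec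
  exact Prod.ext h4.symm (congrArg (fun v : B.V => (v.2.2 : F)) h3.symm)

theorem w_mem' (v : B.V) : E.w v ∈ UU E.toWEnv := by
  have := co_mem E v 0
  rwa [E.xa_zero, mul_one] at this

theorem xa_mem' (s : F) : E.xa s ∈ UU E.toWEnv := a_mem _ s

theorem comm_eq (s : F) (v : B.V) : ⁅E.xa s, E.w v⁆ = E.w (B.ma s v + v) := by
  rw [commutatorElement_def, E.conj_ma, E.w_inv, E.w_add]

theorem w_mem_comm {v : B.V} (hv : v.2.2 = 0) : E.w v ∈ ⁅UU E.toWEnv, UU E.toWEnv⁆ := by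
  have h1 : ∀ x : B.K, E.w (x, 0, 0) ∈ ⁅UU E.toWEnv, UU E.toWEnv⁆ := by
    intro x
    obtain ⟨y, hy⟩ := B.tr_surj x
    have h2 := Subgroup.commutator_mem_commutator (xa_mem' E 1) (w_mem' E (0, B.s y, 0))
    rw [comm_eq] at h2
    have e : B.ma 1 ((0, B.s y, 0) : B.V) + (0, B.s y, 0) = (x, 0, 0) := by
      unfold Bar.ma
      refine Prod.ext ?_ (Prod.ext ?_ ?_)
      · change 0 + B.tr (1 * B.s (B.s y)) + B.nm 1 * 0 + 0 = x
        rw [one_mul, B.invol, hy]; simp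
      · change B.s y + 1 * ((0 : B.K) : F) + B.s y = 0
        have := Bar.add_self (B.s y)
        simpa using this
      · change (0 : B.K) + 0 = 0
        simp
    rwa [e] at h2
  have h2 := Subgroup.commutator_mem_commutator (xa_mem' E v.2.1) (w_mem' E (0, 0, 1))
  rw [comm_eq] at h2
  have e : v = (B.ma v.2.1 ((0, 0, 1) : B.V) + (0, 0, 1)) + (B.nm v.2.1 + v.1, 0, 0) := by
    unfold Bar.ma
    refine Prod.ext ?_ (Prod.ext ?_ ?_)
    · change v.1 = (0 + B.tr (v.2.1 * B.s 0) + B.nm v.2.1 * 1 + 0) + (B.nm v.2.1 + v.1)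
      have h3 := B.K_add_self (B.nm v.2.1)
      rw [map_zero, mul_zero, B.tr_zero, zero_add, zero_add, mul_one, add_zero, ← add_assoc, h3, zero_add]
    · change v.2.1 = (0 + v.2.1 * ((1 : B.K) : F) + 0) + 0
      simp
    · change v.2.2 = ((1 : B.K) + 1) + 0
      rw [hv, B.K_add_self]; simp
  rw [e, E.w_add]
  exact mul_mem h2 (h1 _)

theorem chart : ChartUni.Chart (UU E.toWEnv) (f E) where
  mul g hg g' hg' := by
    obtain ⟨v, s, rfl⟩ := (mem_UU_iff E).1 hg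
    obtain ⟨v', s', rfl⟩ := (mem_UU_iff E).1 hg'
    rw [co_mul, f_co, f_co, f_co]
    rfl
  comm g hg g' hg' hc := by
    obtain ⟨v, s, rfl⟩ := (mem_UU_iff E).1 hg
    obtain ⟨v', s', rfl⟩ := (mem_UU_iff E).1 hg'
    rw [co_mul, co_mul] at hc
    obtain ⟨h1, -⟩ := co_inj E hc
    have h2 : v.2.1 + (v'.2.1 + s * (v'.2.2 : F)) = v'.2.1 + (v.2.1 + s' * (v.2.2 : F)) :=
      congrArg (fun v : B.V => v.2.1) h1
    rw [f_co, f_co]
    change s * (v'.2.2 : F) = s' * (v.2.2 : F)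
    linear_combination h2
  e1 := by
    refine ⟨E.w 0 * E.xa 1, co_mem E _ _, ?_⟩
    rw [f_co]
    simp
  e2 := by
    refine ⟨E.w (0, 0, 1) * E.xa 0, co_mem E _ _, ?_⟩
    rw [f_co]
    simp
  ker g hg h0 := by
    obtain ⟨v, s, rfl⟩ := (mem_UU_iff E).1 hg
    rw [f_co] at h0
    have hs : s = 0 := congrArg Prod.fst h0
    have hv : (v.2.2 : F) = 0 := congrArg Prod.snd h0
    subst hs
    rw [E.xa_zero, mul_one]
    exact w_mem_comm E (Subtype.ext hv)

/-- central indecomposability -/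
theorem centIndec [Finite (UU E.toWEnv)] (hU : IsPGroup 2 (UU E.toWEnv)) : CentIndec (UU E.toWEnv) :=
  (chart E).centIndec hU

/-- strong form (field `ci` of `SplitData`) -/
theorem eq_or_eq [Finite (UU E.toWEnv)] (hU : IsPGroup 2 (UU E.toWEnv)) (X Y : Subgroup G)
    (hXY : X ⊔ Y = UU E.toWEnv) (hc : ∀ x ∈ X, ∀ y ∈ Y, x * y = y * x) : X = UU E.toWEnv ∨ Y = UU E.toWEnv :=
  (chart E).eq_or_eq hU X Y hXY hc

/-- the centre of `U` is `X_z` -/
theorem exists_of_center {z : G} (hz : z ∈ UU E.toWEnv) (h : ∀ s ∈ UU E.toWEnv, z * s = s * z) : ∃ k, z = E.xz k := by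
  obtain ⟨v, s, rfl⟩ := (mem_UU_iff E).1 hz
  have h1 := h _ (w_mem' E (0, 0, 1))
  have h2 := co_mul E v (0, 0, 1) s 0
  have h3 := co_mul E (0, 0, 1) v 0 s
  rw [E.xa_zero, mul_one] at h2 h3
  rw [h1, h3] at h2
  obtain ⟨h4, -⟩ := co_inj E h2
  have hs : s = 0 := by
    have h5 : (0 : F) + (v.2.1 + 0 * (v.2.2 : F)) = v.2.1 + (0 + s * ((1 : B.K) : F)) :=
      congrArg (fun v : B.V => v.2.1) h4
    have h6 : ((1 : B.K) : F) = 1 := rfl
    rw [h6] at h5
    linear_combination -h5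
  subst hs
  rw [E.xa_zero, mul_one] at h ⊢
  have h5 := h _ (xa_mem' E 1)
  have h6 := E.conj_ma 1 v
  rw [← h5] at h6
  have h7 : E.w v = E.w (B.ma 1 v) := by
    rw [← h6]; group
  have h8 := E.w_injective h7
  have h9 : v.2.1 = v.2.1 + 1 * (v.2.2 : F) := congrArg (fun v : B.V => v.2.1) h8
  have hb : v.2.2 = 0 := by
    apply Subtype.ext
    change (v.2.2 : F) = 0
    linear_combination -h9
  -- the `c`-coordinate
  have hcz : v.2.1 = 0 := by
    by_contra hne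
    obtain ⟨x, hx⟩ := B.tr_form_surj hne 1
    have h10 := h _ (xa_mem' E x)
    have h11 := E.conj_ma x v
    rw [← h10] at h11
    have h12 : E.w v = E.w (B.ma x v) := by
      rw [← h11]; group
    have h13 := E.w_injective h12
    have h14 : v.1 = v.1 + B.tr (x * B.s v.2.1) + B.nm x * v.2.2 := congrArg Prod.fst h13
    rw [hb, mul_zero, add_zero, hx] at h14
    have h15 : (1 : B.K) = 0 := by linear_combination -h14
    exact one_ne_zero h15
  refine ⟨v.1, ?_⟩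
  rw [← E.w_z]
  congr 1
  exact Prod.ext rfl (Prod.ext hcz hb)

/-- `Z(U) ≤ U'` (field `zd` of `SplitData`) -/
theorem center_le {z : G} (hz : z ∈ UU E.toWEnv) (h : ∀ s ∈ UU E.toWEnv, z * s = s * z) :
    z ∈ ⁅UU E.toWEnv, UU E.toWEnv⁆ := by
  obtain ⟨k, rfl⟩ := exists_of_center E hz h
  rw [← E.w_z]
  exact w_mem_comm E rfl

/-- `C_{Z(U)}(T) = 1` (field `fix` of `SplitData`) -/
theorem fixed {z : G} (hz : z ∈ UU E.toWEnv) (h : ∀ s ∈ UU E.toWEnv, z * s = s * z)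
    (hT : E.h 1 E.lam * z = z * E.h 1 E.lam) : z = 1 := by
  obtain ⟨k, rfl⟩ := exists_of_center E hz h
  have h1 := E.h_z 1 E.lam k
  rw [hT] at h1
  have h2 : E.w (k, 0, 0) = E.w (B.nm ((1 : Fˣ) : F) * E.lam * k, 0, 0) := by
    rw [E.w_z, E.w_z, ← h1]; group
  have h3 : k = B.nm ((1 : Fˣ) : F) * E.lam * k := congrArg Prod.fst (E.w_injective h2)
  rw [Units.val_one, B.nm_one, one_mul] at h3
  have h4 : ((E.lam : B.K) - 1) * k = 0 := by linear_combination -h3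
  have h5 := (mul_eq_zero.1 h4).resolve_left (sub_ne_zero.2 E.lam_ne)
  rw [h5, E.xz_zero]

/-- `U ≤ [U, T]` (field `gen` of `SplitData`) -/
theorem le_commutator_T : UU E.toWEnv ≤ ⁅UU E.toWEnv, E.T⁆ := by
  have hl : (1 : B.K) + E.lam ≠ 0 := by
    intro h
    apply E.lam_ne
    have := B.K_add_self (1 : B.K)
    linear_combination h - this
  -- `w`
  have hw : ∀ v : B.V, E.w v ∈ ⁅UU E.toWEnv, E.T⁆ := by
    intro v
    set u : B.V := ((1 + (E.lam : B.K))⁻¹ * v.1, (((1 + (E.lam : B.K))⁻¹ : B.K) : F) * v.2.1,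
      (1 + (E.lam : B.K))⁻¹ * v.2.2) with hu
    have h1 := Subgroup.commutator_mem_commutator (w_mem' E u) (E.h_mem 1 E.lam)
    have h2 : ⁅E.w u, E.h 1 E.lam⁆ = E.w v := by
      rw [commutatorElement_def]
      have h3 := E.conj_mh 1 E.lam u
      have h4 : E.w u * E.h 1 E.lam * (E.w u)⁻¹ * (E.h 1 E.lam)⁻¹ = E.w u * E.w (B.mh 1 E.lam u) := by
        rw [← h3, E.w_inv]; group
      rw [h4, ← E.w_add]
      congr 1
      unfold Bar.mh
      have hi : (1 + (E.lam : B.K)) * (1 + (E.lam : B.K))⁻¹ = 1 := mul_inv_cancel₀ hl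
      have hi' : (1 + ((E.lam : B.K) : F)) * (((1 + (E.lam : B.K))⁻¹ : B.K) : F) = 1 := congrArg Subtype.val hi
      refine Prod.ext ?_ (Prod.ext ?_ ?_)
      · change (1 + (E.lam : B.K))⁻¹ * v.1 + B.nm ((1 : Fˣ) : F) * E.lam * ((1 + (E.lam : B.K))⁻¹ * v.1) = v.1
        rw [Units.val_one, B.nm_one]
        linear_combination v.1 * hi
      · change (((1 + (E.lam : B.K))⁻¹ : B.K) : F) * v.2.1 +
          ((1 : Fˣ) : F) * ((E.lam : B.K) : F) * ((((1 + (E.lam : B.K))⁻¹ : B.K) : F) * v.2.1) = v.2.1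
        rw [Units.val_one]
        linear_combination v.2.1 * hi'
      · change (1 + (E.lam : B.K))⁻¹ * v.2.2 + E.lam * ((1 + (E.lam : B.K))⁻¹ * v.2.2) = v.2.2
        linear_combination v.2.2 * hi
    rwa [h2] at h1
  intro g hg
  obtain ⟨v, s, rfl⟩ := (mem_UU_iff E).1 hg
  refine mul_mem (hw v) ?_
  obtain ⟨ν, h1, h0, -⟩ := B.exists_norm_one
  have h2 : (1 : F) + ν ≠ 0 := by
    intro h
    apply h1
    have := Bar.add_self (1 : F)
    linear_combination h - this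
  have h3 := Subgroup.commutator_mem_commutator (xa_mem' E ((1 + ν)⁻¹ * s)) (E.h_mem (Units.mk0 ν h0) 1)
  have h4 : ⁅E.xa ((1 + ν)⁻¹ * s), E.h (Units.mk0 ν h0) 1⁆ = E.xa s := by
    rw [commutatorElement_def]
    have h5 := E.h_a (Units.mk0 ν h0) 1 ((1 + ν)⁻¹ * s)
    have h6 : E.xa ((1 + ν)⁻¹ * s) * E.h (Units.mk0 ν h0) 1 * (E.xa ((1 + ν)⁻¹ * s))⁻¹ *
        (E.h (Units.mk0 ν h0) 1)⁻¹ = E.xa ((1 + ν)⁻¹ * s) * E.xa (((Units.mk0 ν h0 : Fˣ) : F) * ((1 + ν)⁻¹ * s)) := by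
      rw [← h5, xa_inv]; group
    rw [h6, ← E.xa_add]
    congr 1
    rw [Units.val_mk0]
    field_simp
  rwa [h4] at h3

theorem isPGroup : IsPGroup 2 (UU E.toWEnv) := by
  rintro ⟨g, hg⟩
  refine ⟨2, Subtype.ext ?_⟩
  change g ^ 4 = 1
  obtain ⟨v, s, rfl⟩ := (mem_UU_iff E).1 hg
  have h1 := co_mul E v v s s
  rw [Bar.add_self, E.xa_zero, mul_one] at h1
  have h4 : ∀ a : G, a ^ 4 = (a * a) * (a * a) := fun a => by
    rw [show (4 : ℕ) = 2 + 2 from rfl, pow_add, pow_two]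
  rw [h4, h1, E.w_sq]

theorem finite [Finite F] : Finite (UU E.toWEnv) :=
  Finite.of_surjective (fun v : B.V × F => (⟨E.w v.1 * E.xa v.2, co_mem E _ _⟩ : UU E.toWEnv)) (by
      rintro ⟨g, hg⟩
      obtain ⟨v, s, rfl⟩ := (mem_UU_iff E).1 hg
      exact ⟨(v, s), rfl⟩)

theorem centIndec_of_finite [Finite F] : CentIndec (UU E.toWEnv) := by
  have := finite E
  exact centIndec E (isPGroup E)

end Cfsg.Agent.WreathFusion.UFourUni
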